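import Mathlib.GroupTheory.GroupAction.MultipleTransitivity
import Mathlib.GroupTheory.OrderOfElement
import Mathlib.GroupTheory.GroupAction.Quotient
import Mathlib.Data.Fintype.BigOperators
import Mathlib.Algebra.Group.Conj
import Mathlib.Algebra.Order.BigOperators.Group.Finset

/-!
Involutions with exactly one fixed point: the middle involution and its consequences.
-/

set_option autoImplicit false
set_option linter.style.haveILetI false
set_option linter.unusedSectionVars false
set_option linter.unusedVariables false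

namespace CfsgLib.Perm.ThreeP

open MulAction

variable {G Ω : Type*} [Group G] [Finite G] [MulAction G Ω] [Finite Ω]

theorem invol_mul_self {v : G} (h : orderOf v = 2) : v * v = 1 := by
  rw [← pow_two, ← h, pow_orderOf_eq_one]

theorem invol_inv {v : G} (h : orderOf v = 2) : v⁻¹ = v :=
  inv_eq_of_mul_eq_one_right (invol_mul_self h)

theorem invol_conj {v : G} (h : orderOf v = 2) (g : G) : orderOf (g * v * g⁻¹) = 2 := by
  rw [show g * v * g⁻¹ = MulAut.conj g v from rfl, MulEquiv.orderOf_eq, h]

theorem fixed_unique (h1 : ∀ v : G, orderOf v = 2 → Nat.card (fixedBy Ω v) = 1) {v : G}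
    (hv : orderOf v = 2) {a b : Ω} (ha : v • a = a) (hb : v • b = b) : a = b := by
  have := (Nat.card_eq_one_iff_unique.1 (h1 v hv)).1
  exact congrArg Subtype.val (Subsingleton.elim (⟨a, ha⟩ : fixedBy Ω v) ⟨b, hb⟩)

/-- The middle involution of two involutions with distinct fixed points. -/
theorem exists_middle (h1 : ∀ v : G, orderOf v = 2 → Nat.card (fixedBy Ω v) = 1) {j k : G}
    (hj : orderOf j = 2) (hk : orderOf k = 2) {α β : Ω} (hα : j • α = α) (hβ : k • β = β)
    (hne : α ≠ β) : ∃ w : G, orderOf w = 2 ∧ w • α = β ∧ w * j * w = k := by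
  have hjk : j ≠ k := fun h => hne (fixed_unique h1 hj hα (by rw [h]; exact hβ))
  have hj2 := invol_mul_self hj
  have hk2 := invol_mul_self hk
  set x := j * k with hx
  have hinvj : j * x * j⁻¹ = x⁻¹ := by
    rw [hx, invol_inv hj, mul_inv_rev, invol_inv hj, invol_inv hk, ← mul_assoc, hj2, one_mul]
  rcases Nat.even_or_odd (orderOf x) with ⟨l, hl⟩ | ⟨l, hl⟩
  · exfalso
    have hx0 := orderOf_pos x
    have hz : orderOf (x ^ l) = 2 := by
      rw [orderOf_pow' x (by omega : l ≠ 0), Nat.gcd_eq_right ⟨2, by omega⟩, hl, ← two_mul,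
        Nat.mul_div_cancel _ (by omega : 0 < l)]
    have hzinv : (x ^ l)⁻¹ = x ^ l := invol_inv hz
    have hjc : j * x ^ l = x ^ l * j := by
      have : (j * x * j⁻¹) ^ l = (x ^ l) := by rw [hinvj, inv_pow, hzinv]
      rw [conj_pow] at this
      exact mul_inv_eq_iff_eq_mul.1 this
    have hkc : k * x ^ l = x ^ l * k := by
      have hk' : k = j * x := by rw [hx, ← mul_assoc, hj2, one_mul]
      have hxc : x * x ^ l = x ^ l * x := (Commute.self_pow x l).eq
      rw [hk', mul_assoc, hxc, ← mul_assoc, hjc, mul_assoc]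
    have e1 : x ^ l • α = α := fixed_unique h1 hj
      (by rw [← mul_smul, hjc, mul_smul, hα]) hα
    have e2 : x ^ l • β = β := fixed_unique h1 hk
      (by rw [← mul_smul, hkc, mul_smul, hβ]) hβ
    exact hne (fixed_unique h1 hz e1 e2)
  · set s := l + 1 with hs
    have hxs : x ^ (2 * s) = x := by
      rw [show 2 * s = orderOf x + 1 by omega, pow_succ, pow_orderOf_eq_one, one_mul]
    have hjx : x ^ s * j = j * (x ^ s)⁻¹ := by
      have h := congrArg (fun y => y ^ s) hinvj
      simp only [conj_pow, inv_pow] at h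
      rw [invol_inv hj] at h
      rw [← h]
      simp only [← mul_assoc, hj2, one_mul]
    set w := j * x ^ s with hw
    have hw2 : w * w = 1 := by
      calc w * w = j * (x ^ s * j) * x ^ s := by rw [hw]; group
        _ = 1 := by rw [hjx, ← mul_assoc, hj2, one_mul, inv_mul_cancel]
    have hwjw : w * j * w = k := by
      calc w * j * w = j * x ^ s * (j * j) * x ^ s := by rw [hw]; group
        _ = j * x ^ (2 * s) := by rw [hj2, mul_one, mul_assoc, ← pow_add, two_mul]
        _ = k := by rw [hxs, hx, ← mul_assoc, hj2, one_mul]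
    have hw1 : w ≠ 1 := fun h => hjk (by rw [← hwjw, h, one_mul, mul_one])
    refine ⟨w, orderOf_eq_prime (by rw [pow_two]; exact hw2) hw1, fixed_unique h1 hk ?_ hβ, hwjw⟩
    rw [← hwjw, mul_smul, mul_smul, ← mul_smul w w, hw2, one_smul, hα]

section Count

variable [IsPretransitive G Ω]

/-- The bijection behind `card_swappers_eq`. -/
theorem middle_bijective
    (hconj : ∀ v w : G, orderOf v = 2 → orderOf w = 2 → IsConj v w)
    (h1 : ∀ v : G, orderOf v = 2 → Nat.card (MulAction.fixedBy Ω v) = 1)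
    (hex : ∃ v : G, orderOf v = 2) :
    (∀ α β : Ω, Nat.card {v : G // orderOf v = 2 ∧ v • α = β} =
      Nat.card {v : G // orderOf v = 2 ∧ v • α = α}) ∧
      ∀ α β : Ω, α ≠ β → ∀ j j' : G, orderOf j = 2 → j • α = α → orderOf j' = 2 → j' • α = α →
        ∃ d : G, d • α = α ∧ d • β = β ∧ d * j * d⁻¹ = j' := by
  classical
  letI := Fintype.ofFinite G
  letI := Fintype.ofFinite Ω
  let Sw : Ω → Ω → Finset G := fun α β =>
    Finset.univ.filter fun v => orderOf v = 2 ∧ v • α = β
  have hSw : ∀ α β, Nat.card {v : G // orderOf v = 2 ∧ v • α = β} = (Sw α β).card := fun α β => by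
    rw [Nat.card_eq_fintype_card, Fintype.card_subtype]
  have hpos : ∀ α, 0 < (Sw α α).card := by
    intro α
    obtain ⟨v, hv⟩ := hex
    obtain ⟨⟨a, ha⟩⟩ := (Nat.card_eq_one_iff_unique.1 (h1 v hv)).2
    obtain ⟨g, rfl⟩ := exists_smul_eq G a α
    refine Finset.card_pos.2 ⟨g * v * g⁻¹, ?_⟩
    simp only [Sw, Finset.mem_filter, Finset.mem_univ, true_and]
    refine ⟨invol_conj hv g, ?_⟩
    rw [mul_smul, mul_smul, inv_smul_smul, (show v • a = a from ha)]
  have hdiag : ∀ α β, (Sw α α).card = (Sw β β).card := by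
    intro α β
    obtain ⟨g, rfl⟩ := exists_smul_eq G α β
    refine Finset.card_bij (fun v _ => g * v * g⁻¹) (fun v hv => ?_) (fun a _ b _ h =>
      mul_left_cancel (mul_right_cancel h)) fun v hv => ?_
    · simp only [Sw, Finset.mem_filter, Finset.mem_univ, true_and] at hv ⊢
      exact ⟨invol_conj hv.1 g, by rw [mul_smul, mul_smul, inv_smul_smul, hv.2]⟩
    · simp only [Sw, Finset.mem_filter, Finset.mem_univ, true_and] at hv ⊢
      refine ⟨g⁻¹ * v * g, ⟨?_, ?_⟩, by group⟩
      · have := invol_conj hv.1 g⁻¹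
        rwa [inv_inv] at this
      · rw [mul_smul, mul_smul, hv.2, inv_smul_smul]
  have hsurj : ∀ α β : Ω, α ≠ β → ∀ j ∈ Sw α α, ∀ k ∈ Sw β β,
      ∃ w ∈ Sw α β, w * j * w = k := by
    intro α β hne j hj k hk
    simp only [Sw, Finset.mem_filter, Finset.mem_univ, true_and] at hj hk ⊢
    obtain ⟨w, hw, hwα, hwjw⟩ := exists_middle h1 hj.1 hk.1 hj.2 hk.2 hne
    exact ⟨w, ⟨hw, hwα⟩, hwjw⟩
  have hge : ∀ α β : Ω, (Sw α α).card ≤ (Sw α β).card := by
    intro α β
    rcases eq_or_ne α β with rfl | hne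
    · exact le_rfl
    have h : (Sw α α ×ˢ Sw β β).card ≤ ((Sw α β ×ˢ Sw α α)).card := by
      refine Finset.card_le_card_of_surjOn (fun x : G × G => (x.2, x.1 * x.2 * x.1)) fun y hy => ?_
      simp only [Finset.coe_product, Set.mem_prod, Finset.mem_coe] at hy
      obtain ⟨w, hw, hwjw⟩ := hsurj α β hne y.1 hy.1 y.2 hy.2
      exact ⟨(w, y.1), by simp [hw, hy.1], by simp [hwjw]⟩
    rw [Finset.card_product, Finset.card_product, hdiag β α] at h
    exact Nat.le_of_mul_le_mul_right h (hpos α)
  have htot : ∀ α : Ω, ∑ β, (Sw α β).card = ∑ β : Ω, (Sw α α).card := by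
    intro α
    have e1 : ∑ β, (Sw α β).card = (Finset.univ.filter fun v : G => orderOf v = 2).card := by
      rw [Finset.card_eq_sum_card_fiberwise (f := fun v => v • α) (t := Finset.univ)
        fun v _ => Finset.mem_univ _]
      exact Finset.sum_congr rfl fun β _ => by rw [Finset.filter_filter]
    have e2 : ∑ β, (Sw β β).card = (Finset.univ.filter fun v : G => orderOf v = 2).card := by
      have e : ∀ β, Sw β β = (Finset.univ.filter fun v : G => orderOf v = 2).filter
          fun v => v • β = β := fun β => by rw [Finset.filter_filter]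
      simp only [e, Finset.card_filter (p := fun v : G => v • _ = _)]
      rw [Finset.sum_comm, Finset.card_eq_sum_ones]
      refine Finset.sum_congr rfl fun v hv => ?_
      rw [← Finset.card_filter]
      simp only [Finset.mem_filter, Finset.mem_univ, true_and] at hv
      rw [← h1 v hv, Nat.card_eq_fintype_card]
      exact (Fintype.card_subtype (fun β : Ω => v • β = β)).symm
    rw [e1, ← e2]
    exact Finset.sum_congr rfl fun β _ => hdiag β α
  have heq : ∀ α β : Ω, (Sw α β).card = (Sw α α).card := fun α β =>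
    ((Finset.sum_eq_sum_iff_of_le fun γ _ => hge α γ).1 (htot α).symm β (Finset.mem_univ β)).symm
  refine ⟨fun α β => by rw [hSw, hSw, heq], fun α β hne j j' hj hjα hj' hj'α => ?_⟩
  obtain ⟨v, hv⟩ := Finset.card_pos.1 ((heq α β).symm ▸ hpos α : 0 < (Sw α β).card)
  simp only [Sw, Finset.mem_filter, Finset.mem_univ, true_and] at hv
  have hvβ : v • β = α := by rw [← hv.2, ← mul_smul, invol_mul_self hv.1, one_smul]
  have hk : orderOf (v * j' * v) = 2 ∧ (v * j' * v) • β = β := by
    refine ⟨?_, by rw [mul_smul, mul_smul, hvβ, hj'α, hv.2]⟩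
    have := invol_conj hj' v
    rwa [invol_inv hv.1] at this
  obtain ⟨w, hw, hwα, hwjw⟩ := exists_middle h1 hj hk.1 hjα hk.2 hne
  refine ⟨v * w, by rw [mul_smul, hwα, hvβ], ?_, ?_⟩
  · have hwβ : w • β = α := by rw [← hwα, ← mul_smul, invol_mul_self hw, one_smul]
    rw [mul_smul, hwβ, hv.2]
  · rw [mul_inv_rev, invol_inv hv.1, invol_inv hw,
      show v * w * j * (w * v) = v * (w * j * w) * v by group, hwjw,
      show v * (v * j' * v) * v = (v * v) * j' * (v * v) by group, invol_mul_self hv.1, one_mul,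
      mul_one]

/-- Every pair of points is swapped by as many involutions as fix a point. -/
theorem card_swappers_eq
    (hconj : ∀ v w : G, orderOf v = 2 → orderOf w = 2 → IsConj v w)
    (h1 : ∀ v : G, orderOf v = 2 → Nat.card (MulAction.fixedBy Ω v) = 1)
    (hex : ∃ v : G, orderOf v = 2) (α β : Ω) :
    Nat.card {v : G // orderOf v = 2 ∧ v • α = β} =
      Nat.card {v : G // orderOf v = 2 ∧ v • α = α} :=
  (middle_bijective hconj h1 hex).1 α β

/-- In a doubly transitive action the centraliser of an involution is transitive away from its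
fixed point. -/
theorem centralizer_transitive
    (hconj : ∀ v w : G, orderOf v = 2 → orderOf w = 2 → IsConj v w)
    (h1 : ∀ v : G, orderOf v = 2 → Nat.card (MulAction.fixedBy Ω v) = 1)
    (hex : ∃ v : G, orderOf v = 2) (h2 : MulAction.IsMultiplyPretransitive G Ω 2)
    {u : G} (hu : orderOf u = 2) {α : Ω} (hα : u • α = α) {β γ : Ω} (hβ : β ≠ α) (hγ : γ ≠ α) :
    ∃ c : G, c * u = u * c ∧ c • α = α ∧ c • β = γ := by
  obtain ⟨h, hhα, hhβ⟩ := is_two_pretransitive_iff.1 h2 hβ.symm hγ.symm
  have hu' : orderOf (h⁻¹ * u * h) = 2 := by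
    have := invol_conj hu h⁻¹
    rwa [inv_inv] at this
  have hu'α : (h⁻¹ * u * h) • α = α := by
    rw [mul_smul, mul_smul, hhα, hα, inv_smul_eq_iff, hhα]
  obtain ⟨d, hdα, hdβ, hd⟩ :=
    (middle_bijective hconj h1 hex).2 α β hβ.symm u _ hu hα hu' hu'α
  refine ⟨h * d, ?_, by rw [mul_smul, hdα, hhα], by rw [mul_smul, hdβ, hhβ]⟩
  calc h * d * u = h * (d * u * d⁻¹) * d := by group
    _ = u * (h * d) := by rw [hd]; group

end Count

end CfsgLib.Perm.ThreeP
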