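import Cfsg.Agent.Lib.Perm.ThreeP.Count
import Cfsg.Agent.Lib.Perm.ThreeP.Middle
import Cfsg.Agent.Lib.BlockB.DefectZero
import Cfsg.Agent.Lib.Chev.ZassSharp
import Cfsg.Agent.Lib.Block.BrauerTuanTheorem

/-!
The row of degree `2p - 1`: first consequences.
-/

set_option autoImplicit false
set_option linter.unusedSectionVars false
set_option linter.style.haveILetI false

namespace CfsgLib.Perm.ThreeP

open MulAction Cfsg CfsgLib CfsgLib.Block CfsgLib.Block.BrauerReynolds
open scoped _root_.Classical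

universe u v

variable {G : Type u} [Group G] [Finite G] {Ω : Type v} [MulAction G Ω] [Finite Ω]
  [IsPretransitive G Ω] [FaithfulSMul G Ω] {p : ℕ}
  [hpf : Fact p.Prime] {P : Sylow p G}

/-- The hypotheses of the row of degree `2p - 1`. -/
structure Mid (Ω : Type v) [MulAction G Ω] (p : ℕ) (x : G) (χ : IrrCharacter G) (val : G → ℤ)
    (ψ : IrrCharacter G) : Prop where
  row : Row p x (2 * p - 1) χ val
  deg : charDegree (ψ : G → ℂ) = p
  sing : ∀ g, p ∣ orderOf g → (ψ : G → ℂ) g = 0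
  fx_eq : ∀ g, (fx Ω g : ℂ) = 1 + (val g : ℂ) + (ψ : G → ℂ) g

variable {x : G} {χ ψ : IrrCharacter G} {val : G → ℤ}

theorem Mid.psi_eq (M : Mid Ω p x χ val ψ) (g : G) :
    (ψ : G → ℂ) g = (fx Ω g : ℂ) - 1 - (val g : ℂ) := by rw [M.fx_eq g]; ring

theorem Mid.psi_one (M : Mid Ω p x χ val ψ) : (ψ : G → ℂ) 1 = (p : ℂ) := by
  rw [← BlockB.irr_degree_cast, M.deg]

/-- The sum of `fx` over a twisted class. -/
theorem Mid.sum_twist [Fintype G] (M : Mid Ω p x χ val ψ) (a b : G) :
    ∑ t : G, (fx Ω (a * (t * b * t⁻¹)) : ℂ) = (Nat.card G : ℂ) *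
      (1 + (val a : ℂ) * (val b : ℂ) / ((2 * p - 1 : ℕ) : ℂ) +
        (ψ : G → ℂ) a * (ψ : G → ℂ) b / (p : ℂ)) := by
  simp_rw [M.fx_eq]
  rw [Finset.sum_add_distrib, Finset.sum_add_distrib, Finset.sum_const, Finset.card_univ,
    ← Nat.card_eq_fintype_card, BlockB.sum_irr_mul_conj, M.psi_one]
  simp_rw [← M.row.val_eq]
  rw [BlockB.sum_irr_mul_conj, M.row.val_eq 1, M.row.val_one]
  simp only [nsmul_eq_mul, mul_one, Int.cast_natCast]
  ring

/-- Pairs `t` through conjugates of an involution. -/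
theorem Hyp.card_conj_filter [IsSimpleGroup G] (H : Hyp Ω p P) {u : G} (hu : orderOf u = 2)
    (Q : G → Prop) :
    Nat.card {t : G // Q (t * u * t⁻¹)} =
      Nat.card {v : G // orderOf v = 2 ∧ Q v} * Nat.card (Subgroup.centralizer ({u} : Set G)) := by
  choose c hc using fun v : {v : G // orderOf v = 2 ∧ Q v} => isConj_iff.1 (H.conj_of_two hu v.2.1)
  set C := Subgroup.centralizer ({u} : Set G)
  have hmem : ∀ t : {t : G // Q (t * u * t⁻¹)}, orderOf (t.1 * u * t.1⁻¹) = 2 ∧ Q (t.1 * u * t.1⁻¹) :=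
    fun t => ⟨by rw [← MulAut.conj_apply, MulEquiv.orderOf_eq, hu], t.2⟩
  rw [← Nat.card_prod]
  refine Nat.card_congr
    { toFun := fun t => (⟨_, hmem t⟩, ⟨(c ⟨_, hmem t⟩)⁻¹ * t.1, ?_⟩)
      invFun := fun vz => ⟨c vz.1 * (vz.2 : G), ?_⟩
      left_inv := fun t => Subtype.ext (mul_inv_cancel_left _ _)
      right_inv := ?_ }
  · rw [Subgroup.mem_centralizer_singleton_iff]
    have h := hc ⟨_, hmem t⟩
    calc (c ⟨_, hmem t⟩)⁻¹ * t.1 * u = (c ⟨_, hmem t⟩)⁻¹ * (t.1 * u * t.1⁻¹) * t.1 := by group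
      _ = (c ⟨_, hmem t⟩)⁻¹ * (c ⟨_, hmem t⟩ * u * (c ⟨_, hmem t⟩)⁻¹) * t.1 := by rw [h]
      _ = _ := by group
  · have e : c vz.1 * (vz.2 : G) * u * (c vz.1 * (vz.2 : G))⁻¹ = vz.1.1 := by
      calc c vz.1 * (vz.2 : G) * u * (c vz.1 * (vz.2 : G))⁻¹ =
            c vz.1 * ((vz.2 : G) * u) * (vz.2 : G)⁻¹ * (c vz.1)⁻¹ := by group
        _ = c vz.1 * u * (c vz.1)⁻¹ := by
            rw [Subgroup.mem_centralizer_singleton_iff.1 vz.2.2]; group
        _ = _ := hc vz.1
    exact e ▸ vz.1.2.2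
  · rintro ⟨v, z, hz⟩
    have e : c v * z * u * (c v * z)⁻¹ = v.1 := by
      calc c v * z * u * (c v * z)⁻¹ = c v * (z * u) * z⁻¹ * (c v)⁻¹ := by group
        _ = c v * u * (c v)⁻¹ := by rw [Subgroup.mem_centralizer_singleton_iff.1 hz]; group
        _ = _ := hc v
    refine Prod.ext (Subtype.ext e) (Subtype.ext ?_)
    change (c ⟨_, _⟩)⁻¹ * (c v * z) = z
    rw [show (⟨c v * z * u * (c v * z)⁻¹, by rw [e]; exact v.2⟩ :
      {v : G // orderOf v = 2 ∧ Q v}) = v from Subtype.ext e]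
    exact inv_mul_cancel_left _ _

/-- Involutions cannot fix one point. -/
theorem Mid.false_of_one [IsSimpleGroup G] (M : Mid Ω p x χ val ψ) (H : Hyp Ω p P)
    (h1 : ∀ v : G, orderOf v = 2 → fx Ω v = 1) : False := by
  haveI : Fintype G := Fintype.ofFinite G
  haveI : Fintype Ω := Fintype.ofFinite Ω
  have hp5 := H.five_le
  have hodd := H.odd
  obtain ⟨u, hu⟩ := H.exists_two
  obtain ⟨α₀⟩ := H.nonempty
  set C := Subgroup.centralizer ({u} : Set G) with hC
  set m := Nat.card {v : G // orderOf v = 2 ∧ v • α₀ = α₀} with hm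
  have hconst : ∀ a : G, ∑ t : G, fx Ω (a * (t * u * t⁻¹)) = 3 * p * (m * Nat.card C) := by
    intro a
    have e : ∀ t : G, fx Ω (a * (t * u * t⁻¹)) =
        ∑ β : Ω, if (t * u * t⁻¹) • β = a⁻¹ • β then 1 else 0 := fun t => by
      rw [← Finset.card_filter, fx, Nat.card_eq_fintype_card]
      refine (Fintype.card_subtype _).trans (congrArg Finset.card (Finset.filter_congr fun β _ => ?_))
      rw [mem_fixedBy, mul_smul, eq_inv_smul_iff]
    rw [Finset.sum_congr rfl fun t _ => e t, Finset.sum_comm]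
    have k : ∀ β : Ω, (∑ t : G, if (t * u * t⁻¹) • β = a⁻¹ • β then 1 else 0) = m * Nat.card C := by
      intro β
      rw [← Finset.card_filter, ← Fintype.card_subtype, ← Nat.card_eq_fintype_card,
        H.card_conj_filter hu (fun v => v • β = a⁻¹ • β)]
      obtain ⟨g, hg⟩ := exists_smul_eq G α₀ β
      rw [card_swappers_eq (fun v w hv hw => H.conj_of_two hv hw) h1 ⟨u, hu⟩ β (a⁻¹ • β)]
      congr 1
      refine Nat.card_congr (Equiv.subtypeEquiv (MulAut.conj g⁻¹).toEquiv fun v => ?_)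
      change _ ↔ orderOf (MulAut.conj g⁻¹ v) = 2 ∧ (g⁻¹ * v * g⁻¹⁻¹) • α₀ = α₀
      rw [MulEquiv.orderOf_eq, inv_inv, mul_smul, mul_smul, hg, inv_smul_eq_iff, hg]
    rw [Finset.sum_congr rfl fun β _ => k β, Finset.sum_const, Finset.card_univ, smul_eq_mul,
      ← Nat.card_eq_fintype_card, H.card_Ω]
  have hG0 : (Nat.card G : ℂ) ≠ 0 := Nat.cast_ne_zero.2 Nat.card_pos.ne'
  have hkey : ∀ a : G, (val a : ℂ) * (val u : ℂ) / ((2 * p - 1 : ℕ) : ℂ) +
      (ψ : G → ℂ) a * (ψ : G → ℂ) u / (p : ℂ) = 0 := fun a => by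
    have e := M.sum_twist a u
    rw [← Nat.cast_sum, hconst a, ← hconst 1, Nat.cast_sum, M.sum_twist 1 u, M.row.val_one,
      M.psi_one] at e
    have e' := mul_left_cancel₀ hG0 e
    have hf : ((2 * p - 1 : ℕ) : ℂ) ≠ 0 := Nat.cast_ne_zero.2 (by omega)
    rw [Int.cast_natCast, mul_div_cancel_left₀ _ hf,
      mul_div_cancel_left₀ _ (Nat.cast_ne_zero.2 (by omega : p ≠ 0)), M.psi_eq u, h1 u hu,
      Nat.cast_one] at e'
    rw [M.psi_eq u, h1 u hu, Nat.cast_one]
    linear_combination -e'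
  have hval : val u = 0 := by
    have e := hkey x
    rw [M.sing x (by rw [M.row.x_ord]), zero_mul, zero_div, add_zero,
      M.row.val_sing x (by rw [M.row.x_ord])] at e
    simp only [Int.cast_neg, Int.cast_one, neg_mul, one_mul, div_eq_zero_iff, neg_eq_zero,
      Nat.cast_eq_zero] at e
    rcases e with e | e
    · exact_mod_cast e
    · omega
  have hf : Nat.Coprime p (2 * p - 1) ∧ Nat.Coprime p (2 * p - 1 - 1) := by
    constructor <;> refine hpf.out.coprime_iff_not_dvd.2 fun h => ?_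
    · have := Nat.dvd_sub (dvd_mul_left p 2) h
      rw [show 2 * p - (2 * p - 1) = 1 by omega] at this
      have := Nat.le_of_dvd one_pos this
      omega
    · have := Nat.dvd_sub (dvd_mul_left p 2) h
      rw [show 2 * p - (2 * p - 1 - 1) = 2 by omega] at this
      have := Nat.le_of_dvd two_pos this
      omega
  obtain ⟨r, hG, hCc, hr⟩ := M.row.exists_r H hu hf.1 hf.2
  rw [hval, sub_zero, Int.natAbs_natCast] at hCc
  have hv := H.factorization_centralizer hu
  change twoExp (Nat.card C) = twoExp (Nat.card G) at hv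
  have hg1 : 1 ≤ twoExp (2 * p - 1 - 1) := (le_twoExp_iff (by omega)).2 (by omega)
  rw [hCc, hG, twoExp_mul (by omega) (by omega),
    twoExp_mul (Nat.mul_ne_zero (Nat.mul_ne_zero (by omega) (by omega)) (by omega))
      (pow_ne_zero _ (by omega)),
    twoExp_mul (Nat.mul_ne_zero (by omega) (by omega)) (by omega),
    twoExp_mul (by omega) (by omega), twoExp_sq,
    twoExp_odd hodd, twoExp_odd (show (2 * p - 1) % 2 = 1 by omega)] at hv
  omega

/-- What holds when involutions fix three points. -/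
structure MidFacts (Ω : Type v) [MulAction G Ω] (p : ℕ) (val : G → ℤ) (r : ℕ) (u : G) : Prop where
  r_pos : 0 < r
  r_odd : r % 2 = 1
  four_dvd : 4 ∣ p - 1
  card_G : Nat.card G = p * (2 * p - 1) * (2 * p - 1 - 1) * r ^ 2
  card_C : Nat.card (Subgroup.centralizer ({u} : Set G)) = r * (2 * p - 1 - 1)
  twoExp_G : twoExp (Nat.card G) = twoExp (p - 1) + 1
  val_even : ∀ g : G, 2 ∣ orderOf g → val g = 1

theorem Mid.facts [IsSimpleGroup G] (M : Mid Ω p x χ val ψ) (H : Hyp Ω p P)
    (h3 : ∀ v : G, orderOf v = 2 → fx Ω v = 3) {u : G} (hu : orderOf u = 2) :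
    ∃ r, MidFacts Ω p val r u := by
  haveI : Fact (Nat.Prime 2) := ⟨Nat.prime_two⟩
  have hp5 := H.five_le
  have hodd := H.odd
  have hf : Nat.Coprime p (2 * p - 1) ∧ Nat.Coprime p (2 * p - 1 - 1) := by
    constructor <;> refine hpf.out.coprime_iff_not_dvd.2 fun h => ?_
    · have := Nat.dvd_sub (dvd_mul_left p 2) h
      rw [show 2 * p - (2 * p - 1) = 1 by omega] at this
      have := Nat.le_of_dvd one_pos this
      omega
    · have := Nat.dvd_sub (dvd_mul_left p 2) h
      rw [show 2 * p - (2 * p - 1 - 1) = 2 by omega] at this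
      have := Nat.le_of_dvd two_pos this
      omega
  obtain ⟨r, hG, hC, hr⟩ := M.row.exists_r H hu hf.1 hf.2
  have eg : twoExp (2 * p - 1 - 1) = twoExp (p - 1) + 1 := by
    rw [show 2 * p - 1 - 1 = 2 * (p - 1) by omega, twoExp_mul (by omega) (by omega),
      show twoExp 2 = 1 from twoExp_eq (k := 1) (by norm_num)]
    omega
  have e3 : twoExp (3 * p - 3) = twoExp (p - 1) := by
    rw [show 3 * p - 3 = 3 * (p - 1) by omega, twoExp_mul (by omega) (by omega),
      twoExp_odd (show 3 % 2 = 1 by norm_num), zero_add]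
  have eG : twoExp (Nat.card G) = twoExp (p - 1) + 1 + 2 * twoExp r := by
    rw [hG, twoExp_mul (Nat.mul_ne_zero (Nat.mul_ne_zero (by omega) (by omega)) (by omega))
        (pow_ne_zero _ (by omega)),
      twoExp_mul (Nat.mul_ne_zero (by omega) (by omega)) (by omega),
      twoExp_mul (by omega) (by omega), twoExp_sq,
      twoExp_odd hodd, twoExp_odd (show (2 * p - 1) % 2 = 1 by omega), eg]
    omega
  have hS := H.twoExp_card_le h3
  rw [e3, eG] at hS
  have hr0 : twoExp r = 0 := by omega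
  have hsig : twoExp (Nat.card G) = twoExp (p - 1) + 1 := by omega
  have hro : r % 2 = 1 := by
    by_contra h
    have := (le_twoExp_iff (k := 1) (a := r) (by omega)).2 (by omega)
    omega
  have hval : ∀ g : G, 2 ∣ orderOf g → val g = 1 := by
    intro g hg
    obtain ⟨η, hη, hηv⟩ := M.row.exc
    have h0 : (η : G → ℂ) g = 0 := by
      refine BlockB.irr_apply_eq_zero_of_defect_zero η ?_ hg
      rw [hη, show (Nat.card G).factorization 2 = twoExp (p - 1) + 1 from hsig, ← eg]
      exact Nat.ordProj_dvd _ _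
    rw [hηv g (H.regular_of_even hg), sub_eq_zero] at h0
    exact_mod_cast h0
  -- the sign of an involution
  have hd : 4 ∣ p - 1 := by
    haveI : Fintype Ω := Fintype.ofFinite Ω
    set φ := (Equiv.Perm.sign).comp (MulAction.toPermHom G Ω) with hφ
    have hker : φ.ker = ⊤ := by
      rcases (MonoidHom.normal_ker φ).eq_bot_or_eq_top with h | h
      · exfalso
        have h1 : Nat.card G ∣ 2 := by
          have := Subgroup.card_dvd_of_injective φ ((MonoidHom.ker_eq_bot_iff φ).1 h)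
          rw [Nat.card_eq_fintype_card (α := ℤˣ), Fintype.card_units_int] at this
          exact this
        have := Nat.le_of_dvd two_pos h1
        have := Nat.le_of_dvd Nat.card_pos H.dvd_card
        omega
      · exact h
    set σ := MulAction.toPermHom G Ω u with hσ
    have hσ2 : σ * σ = 1 := by rw [hσ, ← map_mul, ← sq, ← hu, pow_orderOf_eq_one, map_one]
    have hsign : Equiv.Perm.sign σ = 1 := MonoidHom.mem_ker.1 (hker ▸ Subgroup.mem_top u : u ∈ φ.ker)
    have hs := CfsgLib.Chev.ZassSharp.sign_involution hσ2 hsign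
    have hsupp : σ.support.card = 3 * p - 3 := by
      have e : σ.supportᶜ.card = 3 := by
        rw [← h3 u hu, fx, Nat.card_eq_fintype_card]
        refine Eq.trans (congrArg Finset.card (Finset.ext fun a => ?_)) (Fintype.card_subtype _).symm
        simp [hσ, mem_fixedBy]
      have := Finset.card_add_card_compl σ.support
      rw [e, ← Nat.card_eq_fintype_card, H.card_Ω] at this
      omega
    omega
  rw [hval u (by rw [hu]), show (((2 * p - 1 : ℕ) : ℤ) - 1).natAbs = 2 * p - 1 - 1 by omega] at hC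
  exact ⟨r, hr, hro, hd, hG, hC, hsig, hval⟩

end CfsgLib.Perm.ThreeP
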