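import Cfsg.Agent.Lib.Perm.ThreeP.Row
import Cfsg.Agent.Lib.StructC.FrobCount

/-!
Consequences of the row: the order formula, fixed-point bounds, Sylow two-subgroups.
-/

set_option autoImplicit false
set_option linter.unusedSectionVars false
set_option linter.style.haveILetI false

namespace CfsgLib.Perm.ThreeP

open MulAction Cfsg CfsgLib CfsgLib.Block CfsgLib.Block.BrauerReynolds
open scoped _root_.Classical

universe u v

variable {G : Type u} [Group G] [Finite G] {Ω : Type v} [MulAction G Ω] [Finite Ω] {p : ℕ}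
  [hpf : Fact p.Prime] {P : Sylow p G} {x : G} {f : ℕ} {χ : IrrCharacter G} {val : G → ℤ}

/-- The odd part of a number. -/
noncomputable abbrev oddPart (n : ℕ) : ℕ := n / 2 ^ n.factorization 2

theorem oddPart_mul (n : ℕ) : 2 ^ n.factorization 2 * oddPart n = n := Nat.ordProj_mul_ordCompl_eq_self n 2

theorem oddPart_odd {n : ℕ} (hn : n ≠ 0) : Odd (oddPart n) :=
  Nat.odd_iff.2 (Nat.two_dvd_ne_zero.1 (Nat.not_dvd_ordCompl Nat.prime_two hn))

theorem fx_le (g : G) : fx Ω g ≤ Nat.card Ω := Finite.card_subtype_le _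

theorem Hyp.not_dvd_orderOf_of_ne_one (H : Hyp Ω p P) {g : G} (hg : orderOf g = 2) : ¬ p ∣ orderOf g := by
  rw [hg]
  intro h
  have := Nat.le_of_dvd two_pos h
  have := H.five_le
  omega

theorem Hyp.conj_of_two [IsSimpleGroup G] (H : Hyp Ω p P) {s t : G} (hs : orderOf s = 2)
    (ht : orderOf t = 2) : IsConj s t := by
  obtain ⟨-, -, u, -, -, -, hall⟩ := H.exists_inverter
  exact (hall s hs).trans (hall t ht).symm

/-- All involutions fix one point, or all fix three. -/
theorem Hyp.fx_two [IsSimpleGroup G] [IsPretransitive G Ω] (H : Hyp Ω p P) :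
    (∀ v : G, orderOf v = 2 → fx Ω v = 1) ∨ (∀ v : G, orderOf v = 2 → fx Ω v = 3) := by
  obtain ⟨-, -, u, hu, -, hinv, hall⟩ := H.exists_inverter
  rcases H.fx_inverter hu hinv with h | h
  · exact Or.inl fun v hv => by rw [← fx_of_isConj (hall v hv), h]
  · exact Or.inr fun v hv => by rw [← fx_of_isConj (hall v hv), h]

theorem Hyp.exists_two [IsSimpleGroup G] (H : Hyp Ω p P) : ∃ v : G, orderOf v = 2 := by
  obtain ⟨-, -, u, hu, -⟩ := H.exists_inverter
  exact ⟨u, hu⟩

/-- An involution is central in some Sylow 2-subgroup. -/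
theorem Hyp.exists_sylow_central [IsSimpleGroup G] (H : Hyp Ω p P) {u : G} (hu : orderOf u = 2) :
    ∃ S : Sylow 2 G, u ∈ (S : Subgroup G) ∧
      (S : Subgroup G) ≤ Subgroup.centralizer ({u} : Set G) := by
  haveI : Fact (Nat.Prime 2) := ⟨Nat.prime_two⟩
  obtain ⟨T⟩ := (inferInstance : Nonempty (Sylow 2 G))
  have h2G : 2 ∣ Nat.card G := hu ▸ orderOf_dvd_natCard u
  have hTne : (T : Subgroup G) ≠ ⊥ := fun h => by
    have := T.dvd_card_of_dvd_card h2G
    rw [h, Subgroup.card_bot] at this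
    omega
  haveI : Nontrivial (T : Subgroup G) := (Subgroup.nontrivial_iff_ne_bot _).2 hTne
  haveI := T.isPGroup'.center_nontrivial
  obtain ⟨k, hk0, hk⟩ := ((T.isPGroup'.to_subgroup (Subgroup.center (T : Subgroup G))).nontrivial_iff_card).1
    inferInstance
  obtain ⟨⟨⟨s, hsT⟩, hscen⟩, hso⟩ := exists_prime_orderOf_dvd_card'
    (G := Subgroup.center (T : Subgroup G)) 2 (by rw [hk]; exact dvd_pow_self 2 hk0.ne')
  rw [Subgroup.orderOf_mk, Subgroup.orderOf_mk] at hso
  obtain ⟨c, hc⟩ := isConj_iff.1 (H.conj_of_two hso hu)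
  refine ⟨c • T, ?_, fun w hw => ?_⟩
  · rw [Sylow.coe_subgroup_smul, ← hc]
    exact ⟨s, hsT, rfl⟩
  · rw [Sylow.coe_subgroup_smul] at hw
    obtain ⟨w, hwT, rfl⟩ := hw
    rw [Subgroup.mem_centralizer_singleton_iff, ← hc]
    change c * w * c⁻¹ * (c * s * c⁻¹) = c * s * c⁻¹ * (c * w * c⁻¹)
    have hcomm : w * s = s * w := congrArg Subtype.val (Subgroup.mem_center_iff.1 hscen ⟨w, hwT⟩)
    calc c * w * c⁻¹ * (c * s * c⁻¹) = c * (w * s) * c⁻¹ := by group
      _ = _ := by rw [hcomm]; group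

theorem Hyp.factorization_centralizer [IsSimpleGroup G] (H : Hyp Ω p P) {u : G} (hu : orderOf u = 2) :
    (Nat.card (Subgroup.centralizer ({u} : Set G))).factorization 2 = (Nat.card G).factorization 2 := by
  haveI : Fact (Nat.Prime 2) := ⟨Nat.prime_two⟩
  obtain ⟨S, -, hS⟩ := H.exists_sylow_central hu
  have hd : 2 ^ (Nat.card G).factorization 2 ∣ Nat.card (Subgroup.centralizer ({u} : Set G)) :=
    S.card_eq_multiplicity ▸ Subgroup.card_dvd_of_le hS
  exact le_antisymm ((Nat.factorization_le_iff_dvd Nat.card_pos.ne' Nat.card_pos.ne').2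
      (Subgroup.card_subgroup_dvd_card _) 2)
    ((Nat.prime_two.pow_dvd_iff_le_factorization Nat.card_pos.ne').1 hd)

/-- The order formula. -/
theorem Row.formula [IsSimpleGroup G] (R : Row p x f χ val) (H : Hyp Ω p P) {s : G}
    (hs : orderOf s = 2) :
    (p : ℤ) * f * ((f : ℤ) - 1) * (Nat.card (Subgroup.centralizer ({s} : Set G)) : ℤ) ^ 2 =
      (Nat.card G : ℤ) * ((f : ℤ) - val s) ^ 2 := by
  obtain ⟨-, -, u, hu, huN, hinv, hall⟩ := H.exists_inverter
  obtain ⟨a, ha⟩ := isConj_iff.1 (H.conj_of_two hu hs)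
  have hval : val s = val u := by rw [← ha, R.conj_eq]
  haveI : Fintype G := Fintype.ofFinite G
  have hcard : Nat.card (Subgroup.centralizer ({s} : Set G)) =
      Nat.card (Subgroup.centralizer ({u} : Set G)) := by
    have e : ∀ z : G, Nat.card (ConjClasses.mk z).carrier * Nat.card (Subgroup.centralizer ({z} : Set G)) =
        Nat.card G := Char.natCard_carrier_mul_centralizer
    have h1 := e s
    rw [← ConjClasses.mk_eq_mk_iff_isConj.2 (H.conj_of_two hu hs), ← e u] at h1
    have : Nonempty (ConjClasses.mk u).carrier := ⟨⟨u, ConjClasses.mem_carrier_mk⟩⟩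
    exact Nat.eq_of_mul_eq_mul_left Nat.card_pos h1
  rw [hval, hcard]
  obtain ⟨s₀, hyP, hy1⟩ := exists_conj_mem H.card_P H.cent (show p ∣ orderOf x by rw [R.x_ord])
  set y := s₀⁻¹ * x * s₀ with hy
  have hxy : IsConj x y := isConj_iff.2 ⟨s₀⁻¹, by rw [hy, inv_inv]⟩
  have huu : u * u = 1 := by rw [← sq, ← hu, pow_orderOf_eq_one]
  have hui : u⁻¹ = u := inv_eq_of_mul_eq_one_right huu
  have huP : u ∉ (P : Subgroup G) := fun h => by
    have h2 := (P : Subgroup G).orderOf_dvd_natCard h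
    rw [hu, show Nat.card (P : Subgroup G) = p from H.card_P] at h2
    have := H.odd
    omega
  obtain ⟨h', hh'⟩ : ∃ h', h' * u * h'⁻¹ = u * y := by
    obtain ⟨b, -, hb⟩ := exists_conj_eq_mul H.card_P H.cent huN huP hyP
    exact ⟨b, hb⟩
  set C := Subgroup.centralizer ({u} : Set G)
  have hCm : ∀ c ∈ C, c * u = u * c := fun c hc => Subgroup.mem_centralizer_singleton_iff.1 hc
  have hCu : ∀ c ∈ C, c * u * c⁻¹ = u := fun c hc => by rw [hCm c hc, mul_inv_cancel_right]
  have hCx : ∀ c ∈ C, Commute c y → c = 1 := fun c hc hcx => by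
    have hcQ : c ∈ (P : Subgroup G) := eq_one_of_commute H.card_P H.cent hyP hy1 hcx.symm
    by_contra hc1
    exact huP (eq_one_of_commute H.card_P H.cent hcQ hc1 (hCm c hc))
  have hpc := R.pair u u (H.not_dvd_orderOf_of_ne_one hu) (H.not_dvd_orderOf_of_ne_one hu)
  have hT : Nat.card {t : G // IsConj (u * (t * u * t⁻¹)) x} = Nat.card C * Nat.card C := by
    rw [← Nat.card_prod]
    refine (Nat.card_congr (Equiv.ofBijective (fun cc : C × C => (⟨(cc.1 : G) * h' * (cc.2 : G), ?_⟩ :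
      {t : G // IsConj (u * (t * u * t⁻¹)) x})) ⟨?_, ?_⟩)).symm
    · obtain ⟨⟨c, hc⟩, ⟨c', hc'⟩⟩ := cc
      refine IsConj.trans ?_ hxy.symm
      refine (isConj_iff.2 ⟨c, ?_⟩).symm
      calc c * y * c⁻¹ = c * u * (u * y) * c⁻¹ := by
            simp only [← mul_assoc]; rw [mul_assoc c u u, huu, mul_one]
        _ = u * (c * (h' * u * h'⁻¹) * c⁻¹) := by rw [hCm c hc, hh']; simp only [mul_assoc]
        _ = u * (c * (h' * (c' * u * c'⁻¹) * h'⁻¹) * c⁻¹) := by rw [hCu c' hc']
        _ = _ := by group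
    · rintro ⟨⟨c1, hc1⟩, ⟨c2, hc2⟩⟩ ⟨⟨d1, hd1⟩, ⟨d2, hd2⟩⟩ he
      have he' : c1 * h' * c2 = d1 * h' * d2 := congrArg Subtype.val he
      set c := d1⁻¹ * c1 with hcdef
      have hcC : c ∈ C := C.mul_mem (C.inv_mem hd1) hc1
      have hconj : h'⁻¹ * c * h' ∈ C := by
        have : h'⁻¹ * c * h' = d2 * c2⁻¹ := by
          rw [hcdef]
          calc h'⁻¹ * (d1⁻¹ * c1) * h' = h'⁻¹ * d1⁻¹ * (c1 * h' * c2) * c2⁻¹ := by group
            _ = _ := by rw [he']; group
        rw [this]; exact C.mul_mem hd2 (C.inv_mem hc2)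
      have hcz : Commute c u := hCm c hcC
      have hczx : Commute c (u * y) := by
        rw [← hh']
        change c * (h' * u * h'⁻¹) = h' * u * h'⁻¹ * c
        calc c * (h' * u * h'⁻¹) = h' * (h'⁻¹ * c * h' * u) * h'⁻¹ := by group
          _ = _ := by rw [hCm _ hconj]; group
      have hcy : Commute c y := by
        have h3 := hcz.inv_right.mul_right hczx
        rwa [inv_mul_cancel_left] at h3
      have hc1' := hCx c hcC hcy
      have e1 : c1 = d1 := by rw [hcdef, inv_mul_eq_one] at hc1'; exact hc1'.symm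
      subst e1
      exact Prod.ext rfl (Subtype.ext (mul_left_cancel he'))
    · rintro ⟨t, ht⟩
      obtain ⟨s, hs'⟩ := isConj_iff.1 (ht.trans hxy)
      set v := t * u * t⁻¹ with hv
      have hvv : v * v = 1 := by rw [hv, show t * u * t⁻¹ * (t * u * t⁻¹) = t * (u * u) * t⁻¹ by group, huu]; group
      set s1 := s * u * s⁻¹ with hs1
      have hs11 : s1 * s1 = 1 := by
        rw [hs1, show s * u * s⁻¹ * (s * u * s⁻¹) = s * (u * u) * s⁻¹ by group, huu]; group
      have hs1o : orderOf s1 = 2 := by rw [hs1, ← MulAut.conj_apply, MulEquiv.orderOf_eq, hu]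
      have hs1inv : s1 * y * s1⁻¹ = y⁻¹ := by
        rw [← hs', hs1]
        have he : (u * v)⁻¹ = v * u := by rw [mul_inv_rev, hui, inv_eq_of_mul_eq_one_right hvv]
        calc s * u * s⁻¹ * (s * (u * v) * s⁻¹) * (s * u * s⁻¹)⁻¹ = s * ((u * u) * v * u⁻¹) * s⁻¹ := by
              group
          _ = s * (v * u) * s⁻¹ := by rw [huu, one_mul, hui]
          _ = _ := by rw [← he]; group
      have hgen : Subgroup.zpowers y = (P : Subgroup G) := by
        refine Subgroup.eq_of_le_of_card_ge (Subgroup.zpowers_le.2 hyP) ?_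
        rw [show Nat.card (P : Subgroup G) = p from H.card_P, Nat.card_zpowers]
        have h := (P : Subgroup G).orderOf_dvd_natCard hyP
        rw [show Nat.card (P : Subgroup G) = p from H.card_P] at h
        rcases hpf.out.eq_one_or_self_of_dvd _ h with h | h
        · exact absurd (orderOf_eq_one_iff.1 h) hy1
        · omega
      have hs1N : s1 ∈ Subgroup.normalizer ((P : Subgroup G) : Set G) := by
        refine Subgroup.mem_normalizer_fintype fun w hw => ?_
        rw [← hgen] at hw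
        obtain ⟨i, rfl⟩ := Subgroup.mem_zpowers_iff.1 hw
        rw [← conj_zpow, hs1inv]
        exact Subgroup.zpow_mem _ (Subgroup.inv_mem _ hyP) i
      have hs1P : s1 ∉ (P : Subgroup G) := fun h => by
        have h2 := (P : Subgroup G).orderOf_dvd_natCard h
        rw [hs1o, show Nat.card (P : Subgroup G) = p from H.card_P] at h2
        have := H.odd
        omega
      have hidx : ((P : Subgroup G).subgroupOf (Subgroup.normalizer ((P : Subgroup G) : Set G))).index = 2 := by
        have h := ((P : Subgroup G).subgroupOf (Subgroup.normalizer ((P : Subgroup G) : Set G))).card_mul_index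
        rw [Nat.card_congr (Subgroup.subgroupOfEquivOfLe Subgroup.le_normalizer).toEquiv, H.card_N,
          show Nat.card (P : Subgroup G) = p from H.card_P, mul_comm 2 p] at h
        exact Nat.eq_of_mul_eq_mul_left hpf.out.pos h
      have hmem : u⁻¹ * s1 ∈ (P : Subgroup G) := by
        have h := (Subgroup.mul_mem_iff_of_index_two hidx
          (a := (⟨u, huN⟩ : Subgroup.normalizer ((P : Subgroup G) : Set G))⁻¹) (b := ⟨s1, hs1N⟩)).2
          (iff_of_false (fun h => huP (by simpa [Subgroup.mem_subgroupOf] using h))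
            (fun h => hs1P (by simpa [Subgroup.mem_subgroupOf] using h)))
        simpa [Subgroup.mem_subgroupOf] using h
      obtain ⟨b, hbP, hb⟩ := exists_conj_eq_mul H.card_P H.cent huN huP hmem
      rw [mul_inv_cancel_left] at hb
      have hcC : b⁻¹ * s ∈ C := by
        rw [Subgroup.mem_centralizer_singleton_iff]
        calc b⁻¹ * s * u = b⁻¹ * (s * u * s⁻¹) * s := by group
          _ = b⁻¹ * (b * u * b⁻¹) * s := by rw [← hs1, hb]
          _ = _ := by group
      set c := b⁻¹ * s with hc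
      have hyb : b⁻¹ * y * b = y := by
        have : IsCyclic (P : Subgroup G) := isCyclic_of_prime_card H.card_P
        let : CommGroup (P : Subgroup G) := IsCyclic.commGroup
        have h : y * b = b * y := congrArg Subtype.val (mul_comm (⟨y, hyP⟩ : (P : Subgroup G)) ⟨b, hbP⟩)
        rw [mul_assoc, h, inv_mul_cancel_left]
      have hcy : c * (u * v) * c⁻¹ = y := by
        calc c * (u * v) * c⁻¹ = b⁻¹ * (s * (u * v) * s⁻¹) * b := by rw [hc]; group
          _ = y := by rw [hs', hyb]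
      have hct : (c * t) * u * (c * t)⁻¹ = h' * u * h'⁻¹ := by
        have e1 : c * (u * v) * c⁻¹ = u * (c * v * c⁻¹) := by
          calc c * (u * v) * c⁻¹ = (c * u) * v * c⁻¹ := by group
            _ = _ := by rw [hCm c hcC]; group
        rw [hh']
        calc c * t * u * (c * t)⁻¹ = u * (u * (c * v * c⁻¹)) := by
              rw [← mul_assoc u u, huu, one_mul, hv]; group
          _ = u * y := by rw [← e1, hcy]
      have hc'C : h'⁻¹ * (c * t) ∈ C := by
        rw [Subgroup.mem_centralizer_singleton_iff]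
        calc h'⁻¹ * (c * t) * u = h'⁻¹ * ((c * t) * u * (c * t)⁻¹) * (c * t) := by group
          _ = _ := by rw [hct]; group
      refine ⟨(⟨c⁻¹, C.inv_mem hcC⟩, ⟨_, hc'C⟩), Subtype.ext ?_⟩
      simp [mul_assoc]
  rw [hT] at hpc
  push_cast at hpc
  linear_combination hpc

/-- The root `r` of `|G| / (p f (f - 1))`. -/
theorem Row.exists_r [IsSimpleGroup G] (R : Row p x f χ val) (H : Hyp Ω p P) {u : G}
    (hu : orderOf u = 2) (hpf' : Nat.Coprime p f) (hpg : Nat.Coprime p (f - 1)) :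
    ∃ r : ℕ, Nat.card G = p * f * (f - 1) * r ^ 2 ∧
      Nat.card (Subgroup.centralizer ({u} : Set G)) = r * ((f : ℤ) - val u).natAbs ∧ 0 < r := by
  obtain ⟨hf, hg⟩ := R.dvd_card
  have hf4 := R.four_le
  have hfg : Nat.Coprime f (f - 1) := (Nat.coprime_self_sub_right (by omega)).2 (Nat.coprime_one_right f)
  obtain ⟨K, hK⟩ : p * f * (f - 1) ∣ Nat.card G :=
    Nat.Coprime.mul_dvd_of_dvd_of_dvd (Nat.Coprime.mul_left hpg hfg)
      (Nat.Coprime.mul_dvd_of_dvd_of_dvd hpf' H.dvd_card hf) hg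
  have h := congrArg Int.natAbs (R.formula H hu)
  simp only [Int.natAbs_mul, Int.natAbs_pow, Int.natAbs_natCast] at h
  rw [show ((f : ℤ) - 1).natAbs = f - 1 by omega, hK, mul_assoc (p * f * (f - 1))] at h
  have h' := Nat.eq_of_mul_eq_mul_left (by
    have := hpf.out.pos
    exact Nat.mul_pos (Nat.mul_pos this (by omega)) (by omega)) h
  set d := ((f : ℤ) - val u).natAbs
  set Cc := Nat.card (Subgroup.centralizer ({u} : Set G))
  have hd : 0 < d := Nat.pos_of_ne_zero fun h0 => by
    rw [h0, zero_pow two_ne_zero, mul_zero] at h'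
    exact Nat.card_pos.ne' ((pow_eq_zero_iff two_ne_zero).1 h')
  obtain ⟨r, hr⟩ : d ∣ Cc := (Nat.pow_dvd_pow_iff two_ne_zero).1 ⟨K, by rw [h']; ring⟩
  have hKr : K = r ^ 2 := by
    rw [hr, mul_pow] at h'
    exact (Nat.eq_of_mul_eq_mul_left (pow_pos hd 2) (by rw [h']; ring)).symm
  refine ⟨r, by rw [hK, hKr], by rw [hr, mul_comm], Nat.pos_of_ne_zero fun h0 => ?_⟩
  rw [h0, mul_zero] at hr
  exact Nat.card_pos.ne' hr

/-- Sylow's theorem for `p`. -/
theorem Hyp.sq_mod (H : Hyp Ω p P) {k r : ℕ} (hG : Nat.card G = p * k * r ^ 2)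
    (hk : k % p = 2 % p) : r ^ 2 % p = 1 := by
  have h1 : Nat.card (Sylow p G) * (2 * p) = Nat.card G := by
    rw [← H.card_N, Sylow.card_eq_index_normalizer P]
    exact Subgroup.index_mul_card _
  have h2 : 2 * Nat.card (Sylow p G) = k * r ^ 2 :=
    Nat.eq_of_mul_eq_mul_left hpf.out.pos (by rw [← mul_assoc p k, ← hG, ← h1]; ring)
  have h3 : Nat.card (Sylow p G) ≡ 1 [MOD p] := card_sylow_modEq_one p G
  have h4 : 2 * r ^ 2 ≡ 2 * 1 [MOD p] := by
    have hk' : k ≡ 2 [MOD p] := hk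
    exact ((hk'.mul_right _).symm.trans (by rw [← h2])).trans (h3.mul_left 2)
  have h5 := Nat.ModEq.cancel_left_of_coprime (by
    rw [Nat.gcd_comm]
    exact ((Nat.coprime_primes Nat.prime_two hpf.out).2 (by have := H.five_le; omega))) h4
  unfold Nat.ModEq at h5
  rw [h5, Nat.mod_eq_of_lt hpf.out.one_lt]

/-- A nontrivial element fixes fewer than half of the points. -/
theorem Row.two_fx_lt [IsSimpleGroup G] [IsPretransitive G Ω] (R : Row p x f χ val) (H : Hyp Ω p P)
    {g : G} (hg : g ≠ 1) : 2 * fx Ω g < 3 * p := by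
  have hp5 := H.five_le
  by_cases hgs : p ∣ orderOf g
  · rw [H.free hgs]; omega
  have h := R.pair g g hgs hgs
  have hne : val g ≠ f := fun h' => hg (R.eq_one h')
  have hpos : 0 < Nat.card {t : G // IsConj (g * (t * g * t⁻¹)) x} := by
    refine Nat.pos_of_ne_zero fun h0 => ?_
    rw [h0, Nat.cast_zero, mul_zero, eq_comm, mul_assoc, mul_eq_zero] at h
    rcases h with h | h
    · exact Nat.card_pos.ne' (by exact_mod_cast h)
    · rcases mul_eq_zero.1 h with h | h <;> exact hne (by linarith)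
  obtain ⟨⟨t, ht⟩⟩ := (Nat.card_pos_iff.1 hpos).1
  have hsing : fx Ω (g * (t * g * t⁻¹)) = 0 := by
    rw [← fx_of_isConj ht]
    exact H.free (by rw [R.x_ord])
  have hsum : Nat.card (fixedBy Ω g ⊕ fixedBy Ω (t * g * t⁻¹)) ≤ Nat.card Ω := by
    refine Nat.card_le_card_of_injective (Sum.elim Subtype.val Subtype.val) ?_
    refine Function.Injective.sumElim Subtype.val_injective Subtype.val_injective fun a b hab => ?_
    have : Nonempty (fixedBy Ω (g * (t * g * t⁻¹))) := ⟨⟨a.1, by
      rw [mem_fixedBy, mul_smul, hab, (b.2 : (t * g * t⁻¹) • b.1 = b.1), ← hab]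
      exact a.2⟩⟩
    exact Nat.card_pos.ne' hsing
  rw [Nat.card_sum, H.card_Ω] at hsum
  have : fx Ω g + fx Ω (t * g * t⁻¹) ≤ 3 * p := hsum
  rw [fx_conj] at this
  have := H.odd
  omega

/-- An element of even order has an involution among its powers. -/
theorem exists_invol_pow {g : G} (hg : 2 ∣ orderOf g) :
    ∃ k : ℕ, orderOf (g ^ k) = 2 :=
  ⟨orderOf g / 2, orderOf_pow_orderOf_div (orderOf_pos g).ne' hg⟩

/-- Elements of even order when all involutions fix one point. -/
theorem fx_eq_one_of_even (h1 : ∀ v : G, orderOf v = 2 → fx Ω v = 1) {g : G} (hg : 2 ∣ orderOf g) :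
    fx Ω g = 1 := by
  obtain ⟨k, hk⟩ := exists_invol_pow hg
  obtain ⟨⟨a, ha⟩⟩ := (Nat.card_eq_one_iff_unique.1 (h1 _ hk)).2
  have hsub := (Nat.card_eq_one_iff_unique.1 (h1 _ hk)).1
  have hga : g • a = a := by
    have h : g • a ∈ fixedBy Ω (g ^ k) := by
      rw [mem_fixedBy, smul_smul, ← pow_succ, pow_succ', mul_smul, (ha : g ^ k • a = a)]
    exact congrArg Subtype.val (Subsingleton.elim (⟨g • a, h⟩ : fixedBy Ω (g ^ k)) ⟨a, ha⟩)
  refine Nat.card_eq_one_iff_unique.2 ⟨⟨fun b c => Subtype.ext ?_⟩, ⟨⟨a, hga⟩⟩⟩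
  have hpow : ∀ b : fixedBy Ω g, g ^ k • b.1 = b.1 := fun b =>
    (stabilizer G b.1).pow_mem (mem_stabilizer_iff.2 b.2) k
  exact congrArg (fun t : fixedBy Ω (g ^ k) => t.1) (Subsingleton.elim ⟨b.1, hpow b⟩ ⟨c.1, hpow c⟩)

/-- Elements of even order when all involutions fix three points. -/
theorem fx_of_even_three (h3 : ∀ v : G, orderOf v = 2 → fx Ω v = 3) {g : G} (hg : 2 ∣ orderOf g) :
    fx Ω g = 0 ∨ fx Ω g = 1 ∨ fx Ω g = 3 := by
  obtain ⟨k, hk⟩ := exists_invol_pow hg
  have hT : fx Ω (g ^ k) = 3 := h3 _ hk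
  have hle : fixedBy Ω g ⊆ fixedBy Ω (g ^ k) := fun b hb =>
    (stabilizer G b).pow_mem (mem_stabilizer_iff.2 hb) k
  have h1 : fx Ω g ≤ 3 := hT ▸ Nat.card_mono (Set.toFinite _) hle
  by_contra hne
  push Not at hne
  have h2 : (fixedBy Ω g).ncard = 2 := by rw [← Nat.card_coe_set_eq]; change fx Ω g = 2; omega
  have hT' : (fixedBy Ω (g ^ k)).ncard = 3 := by rw [← Nat.card_coe_set_eq]; exact hT
  obtain ⟨c, hc⟩ : ∃ c, fixedBy Ω (g ^ k) \ fixedBy Ω g = {c} := by
    refine Set.ncard_eq_one.1 ?_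
    rw [Set.ncard_sdiff hle (Set.toFinite _), hT', h2]
  have hcm : c ∈ fixedBy Ω (g ^ k) \ fixedBy Ω g := by rw [hc]; rfl
  have hgc : g • c ∈ fixedBy Ω (g ^ k) \ fixedBy Ω g := by
    refine ⟨?_, fun h => hcm.2 ?_⟩
    · rw [mem_fixedBy, smul_smul, ← pow_succ, pow_succ', mul_smul, (hcm.1 : g ^ k • c = c)]
    · exact MulAction.injective g h
  rw [hc] at hgc
  exact hcm.2 hgc

/-- The number of odd-order elements of a group. -/
theorem exists_card_odd {C : Type*} [Group C] [Finite C] :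
    oddPart (Nat.card C) ∣ Nat.card {c : C // ¬ 2 ∣ orderOf c} ∧
      Odd (Nat.card {c : C // ¬ 2 ∣ orderOf c}) ∧
      ∀ c : C, ¬ 2 ∣ orderOf c → c ^ oddPart (Nat.card C) = 1 := by
  set m := oddPart (Nat.card C) with hm
  have hne : Nat.card C ≠ 0 := Nat.card_pos.ne'
  have hiff : ∀ c : C, ¬ 2 ∣ orderOf c ↔ c ^ m = 1 := fun c => by
    rw [← orderOf_dvd_iff_pow_eq_one]
    constructor
    · intro h
      have h1 : (orderOf c).Coprime (2 ^ (Nat.card C).factorization 2) :=
        Nat.Coprime.pow_right _ ((Nat.Prime.coprime_iff_not_dvd Nat.prime_two).2 h).symm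
      exact h1.dvd_of_dvd_mul_left ((oddPart_mul (Nat.card C)).symm ▸ orderOf_dvd_natCard c)
    · intro h h2
      exact Nat.not_dvd_ordCompl Nat.prime_two hne (h2.trans h)
  refine ⟨?_, ?_, fun c hc => (hiff c).1 hc⟩
  · rw [Nat.card_congr (Equiv.subtypeEquivRight hiff)]
    exact CfsgLib.StructC.dvd_card_pow_eq_one m (Dvd.intro_left _ (oddPart_mul _))
  · haveI : Fintype C := Fintype.ofFinite C
    rw [Nat.card_eq_fintype_card, Fintype.card_subtype]
    set s := Finset.univ.filter fun c : C => ¬ 2 ∣ orderOf c with hs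
    have h1 : (1 : C) ∈ s := by simp [hs]
    have h0 : ((s.erase 1).card : ZMod 2) = 0 := by
      rw [Finset.card_eq_sum_ones]
      push_cast
      refine Finset.sum_involution (fun c _ => c⁻¹) (fun _ _ => CharTwo.add_self_eq_zero _)
        (fun c hc _ h => ?_) (fun c hc => ?_) fun c _ => inv_inv c
      · simp only [hs, Finset.mem_erase, Finset.mem_filter] at hc
        refine hc.1 ?_
        have h2 : c ^ 2 = 1 := by rw [sq]; nth_rewrite 1 [← h]; exact inv_mul_cancel _
        rcases (Nat.dvd_prime Nat.prime_two).1 (orderOf_dvd_of_pow_eq_one h2) with h4 | h4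
        · exact orderOf_eq_one_iff.1 h4
        · exact absurd (by rw [h4]) hc.2.2
      · simp only [hs, Finset.mem_erase, Finset.mem_filter, Finset.mem_univ, true_and, ne_eq,
          inv_eq_one, orderOf_inv] at hc ⊢
        exact hc
    rw [← Finset.card_erase_add_one h1]
    exact ((ZMod.natCast_eq_zero_iff_even).1 h0).add_one

end CfsgLib.Perm.ThreeP
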