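import Cfsg.Agent.Lib.Perm.ThreeP.Common

/-!
Counting elements of even order, and the Sylow two-subgroup at a fixed triangle.
-/

set_option autoImplicit false
set_option linter.unusedSectionVars false
set_option linter.style.haveILetI false

namespace CfsgLib.Perm.ThreeP

open MulAction Cfsg CfsgLib CfsgLib.Block CfsgLib.Block.BrauerReynolds
open scoped _root_.Classical

universe u v

variable {G : Type u} [Group G] [Finite G] {Ω : Type v} [MulAction G Ω] [Finite Ω] {p : ℕ}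
  [hpf : Fact p.Prime] {P : Sylow p G}

/-- The exponent of two. -/
noncomputable abbrev twoExp (n : ℕ) : ℕ := n.factorization 2

theorem twoExp_mul {a b : ℕ} (ha : a ≠ 0) (hb : b ≠ 0) :
    twoExp (a * b) = twoExp a + twoExp b := by
  rw [twoExp, Nat.factorization_mul ha hb]; rfl

theorem twoExp_sq (a : ℕ) : twoExp (a ^ 2) = 2 * twoExp a := by
  rw [twoExp, Nat.factorization_pow]; rfl

theorem twoExp_odd {a : ℕ} (h : a % 2 = 1) : twoExp a = 0 :=
  Nat.factorization_eq_zero_of_not_dvd (by omega)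

theorem le_twoExp_iff {a k : ℕ} (ha : a ≠ 0) : k ≤ twoExp a ↔ 2 ^ k ∣ a :=
  (Nat.prime_two.pow_dvd_iff_le_factorization ha).symm

theorem twoExp_eq {a k : ℕ} (h : a % 2 ^ (k + 1) = 2 ^ k) : twoExp a = k := by
  have hlt : 2 ^ k < 2 ^ (k + 1) := Nat.pow_lt_pow_right (by norm_num) (by omega)
  have hpos := Nat.two_pow_pos k
  have ha : a ≠ 0 := fun h0 => by rw [h0, Nat.zero_mod] at h; omega
  refine le_antisymm ?_ ?_
  · by_contra hc
    have := Nat.mod_eq_zero_of_dvd ((le_twoExp_iff ha).1 (show k + 1 ≤ twoExp a by omega))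
    omega
  · rw [le_twoExp_iff ha, ← Nat.mod_add_div a (2 ^ (k + 1)), h, pow_succ, mul_assoc]
    exact dvd_add dvd_rfl (Dvd.intro _ rfl)

/-- Elements of even order are regular. -/
theorem Hyp.regular_of_even (H : Hyp Ω p P) {g : G} (hg : 2 ∣ orderOf g) : ¬ p ∣ orderOf g := by
  intro hpg
  obtain ⟨s, hs, hs1⟩ := exists_conj_mem H.card_P H.cent hpg
  have e : orderOf (s⁻¹ * g * s) = orderOf g := by
    have h := MulEquiv.orderOf_eq (MulAut.conj s⁻¹) g
    simp only [MulAut.conj_apply, inv_inv] at h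
    exact h
  have h := (P : Subgroup G).orderOf_dvd_natCard hs
  rw [e, show Nat.card (P : Subgroup G) = p from H.card_P] at h
  have := Nat.mod_eq_zero_of_dvd (hg.trans h)
  have := H.odd
  omega

/-- The involutions form one class. -/
theorem Hyp.card_invol_mul [IsSimpleGroup G] (H : Hyp Ω p P) {u : G} (hu : orderOf u = 2) :
    Nat.card {v : G // orderOf v = 2} * Nat.card (Subgroup.centralizer ({u} : Set G)) = Nat.card G := by
  haveI : Fintype G := Fintype.ofFinite G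
  rw [← Char.natCard_carrier_mul_centralizer u]
  refine congrArg (· * _) (Nat.card_congr (Equiv.setCongr (s := {v : G | orderOf v = 2}) (Set.ext fun v => ?_)))
  rw [ConjClasses.mem_carrier_iff_mk_eq, ConjClasses.mk_eq_mk_iff_isConj]
  refine ⟨fun h => H.conj_of_two h hu, fun h => ?_⟩
  obtain ⟨c, hc⟩ := isConj_iff.1 h.symm
  change orderOf v = 2
  rw [← hc, ← MulAut.conj_apply, MulEquiv.orderOf_eq, hu]

/-- The budget: `(fx - 2)²` over the regular elements when `fx = 1 + val`. -/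
theorem Row.budget [Fintype G] [IsPretransitive G Ω] {x : G} {f : ℕ} {χ : IrrCharacter G} {val : G → ℤ}
    (R : Row p x f χ val) (H : Hyp Ω p P) (hfx : ∀ g, (fx Ω g : ℤ) = 1 + val g) :
    (p : ℤ) * ∑ g ∈ Finset.univ.filter (fun g : G => ¬ p ∣ orderOf g), ((fx Ω g : ℤ) - 2) ^ 2 =
      2 * Nat.card G := by
  rw [← R.sum_reg_sq H]
  congr 1
  exact Finset.sum_congr rfl fun g _ => by rw [hfx g]; ring

/-- The Sylow two-subgroup at the triangle of an involution with three fixed points. -/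
theorem Hyp.triangle [IsSimpleGroup G] [IsPretransitive G Ω] (H : Hyp Ω p P)
    (h3 : ∀ v : G, orderOf v = 2 → fx Ω v = 3) {u : G} (hu : orderOf u = 2) :
    ∃ (S : Sylow 2 G) (α β γ : Ω), u ∈ (S : Subgroup G) ∧
      (S : Subgroup G) ≤ Subgroup.centralizer ({u} : Set G) ∧
      fixedBy Ω u = {α, β, γ} ∧ α ≠ β ∧ α ≠ γ ∧ β ≠ γ ∧
      (∀ s ∈ (S : Subgroup G), s • α = α) ∧
      Nat.card (S : Subgroup G) ≤ 2 * Nat.card ((S : Subgroup G) ⊓ stabilizer G β : Subgroup G) ∧
      Nat.card ((S : Subgroup G) ⊓ stabilizer G β : Subgroup G) ∣ 3 * p - 3 ∧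
      ∀ s ∈ (S : Subgroup G), s ≠ 1 → s • β = β → fixedBy Ω s = {α, β, γ} := by
  haveI : Fact (Nat.Prime 2) := ⟨Nat.prime_two⟩
  haveI : Fintype G := Fintype.ofFinite G
  obtain ⟨S, huS, hS⟩ := H.exists_sylow_central hu
  have hT : ∀ s ∈ (S : Subgroup G), ∀ a ∈ fixedBy Ω u, s • a ∈ fixedBy Ω u := fun s hs a ha => by
    rw [mem_fixedBy, smul_smul, ← Subgroup.mem_centralizer_singleton_iff.1 (hS hs), mul_smul,
      (ha : u • a = a)]
  let _ : MulAction (S : Subgroup G) (fixedBy Ω u) :=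
    { smul := fun s a => ⟨s.1 • a.1, hT _ s.2 _ a.2⟩
      one_smul := fun a => Subtype.ext (one_smul G a.1)
      mul_smul := fun s t a => Subtype.ext (mul_smul s.1 t.1 a.1) }
  have hmod := S.isPGroup'.card_modEq_card_fixedPoints (α := fixedBy Ω u)
  rw [show Nat.card (fixedBy Ω u) = 3 from h3 u hu] at hmod
  obtain ⟨⟨⟨α, hαu⟩, hα⟩⟩ : Nonempty (fixedPoints (S : Subgroup G) (fixedBy Ω u)) :=
    (Nat.card_ne_zero.1 (fun h => by rw [h] at hmod; unfold Nat.ModEq at hmod; omega)).1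
  have hSα : ∀ s ∈ (S : Subgroup G), s • α = α := fun s hs =>
    congrArg Subtype.val (hα ⟨s, hs⟩)
  have hT3 : (fixedBy Ω u).ncard = 3 := (Nat.card_coe_set_eq _).symm.trans (h3 u hu)
  obtain ⟨β, γ, hβγ, hpair⟩ := Set.ncard_eq_two.1 (show (fixedBy Ω u \ {α}).ncard = 2 by
    rw [Set.ncard_sdiff_singleton_of_mem hαu, hT3])
  have hset : fixedBy Ω u = {α, β, γ} := by
    rw [← hpair, Set.insert_sdiff_singleton, Set.insert_eq_of_mem hαu]
  have hβ : β ∈ fixedBy Ω u \ {α} := by rw [hpair]; simp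
  have hγ : γ ∈ fixedBy Ω u \ {α} := by rw [hpair]; simp
  have hαβ : α ≠ β := fun h => hβ.2 h.symm
  have hαγ : α ≠ γ := fun h => hγ.2 h.symm
  have horb : orbit (S : Subgroup G) β ⊆ fixedBy Ω u \ {α} := by
    rintro _ ⟨s, rfl⟩
    refine ⟨hT _ s.2 _ hβ.1, fun h => hαβ ?_⟩
    refine MulAction.injective (s : G) ?_
    change s.1 • α = s.1 • β
    rw [hSα _ s.2]
    exact (Set.mem_singleton_iff.1 h).symm
  set S₀ := (S : Subgroup G) ⊓ stabilizer G β with hS₀
  have hfix : ∀ s ∈ (S : Subgroup G), s ≠ 1 → s • β = β → fixedBy Ω s = {α, β, γ} := by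
    intro s hs hs1 hsβ
    have hsγ : s • γ = γ := by
      have h : s • γ ∈ fixedBy Ω u \ {α} := ⟨hT _ hs _ hγ.1, fun h => hαγ
        (MulAction.injective s ((hSα _ hs).trans (Set.mem_singleton_iff.1 h).symm))⟩
      rw [hpair] at h
      rcases h with h | h
      · exact absurd (MulAction.injective s (h.trans hsβ.symm)) hβγ.symm
      · exact h
    obtain ⟨k, hk⟩ := S.isPGroup' ⟨s, hs⟩
    have hso : orderOf s ∣ 2 ^ k := orderOf_dvd_of_pow_eq_one (congrArg Subtype.val hk)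
    have heven : 2 ∣ orderOf s := by
      obtain ⟨j, -, hj⟩ := (Nat.dvd_prime_pow Nat.prime_two).1 hso
      rw [hj]
      exact dvd_pow_self 2 fun h0 => hs1 (orderOf_eq_one_iff.1 (by rw [hj, h0, pow_zero]))
    have hsub : ({α, β, γ} : Set Ω) ⊆ fixedBy Ω s := by
      rintro a (rfl | rfl | rfl)
      exacts [hSα _ hs, hsβ, hsγ]
    refine (Set.eq_of_subset_of_ncard_le hsub ?_ (Set.toFinite _)).symm
    rw [← hset, hT3, ← Nat.card_coe_set_eq]
    rcases fx_of_even_three h3 heven with h | h | h <;> unfold fx at h <;> omega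
  have hle : Nat.card (S : Subgroup G) ≤ 2 * Nat.card S₀ := by
    have hsub : stabilizer (S : Subgroup G) β = S₀.subgroupOf (S : Subgroup G) := by
      ext s
      simp [hS₀, Subgroup.mem_subgroupOf, Subgroup.smul_def]
    rw [← (stabilizer (S : Subgroup G) β).card_mul_index, index_stabilizer, mul_comm,
      show Nat.card (stabilizer (S : Subgroup G) β) = Nat.card S₀ by
        rw [hsub]; exact Nat.card_congr (Subgroup.subgroupOfEquivOfLe inf_le_left).toEquiv]
    refine Nat.mul_le_mul_right _ ((Set.ncard_le_ncard horb (Set.toFinite _)).trans_eq ?_)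
    rw [hpair, Set.ncard_pair hβγ]
  refine ⟨S, α, β, γ, huS, hS, hset, hαβ, hαγ, hβγ, hSα, hle, ?_, hfix⟩
  haveI := Fintype.ofFinite Ω
  haveI := Fintype.ofFinite (orbitRel.Quotient S₀ Ω)
  have hburn := sum_card_fixedBy_eq_card_orbits_mul_card_group S₀ Ω
  rw [← Finset.add_sum_erase _ _ (Finset.mem_univ 1)] at hburn
  have h1 : Fintype.card (fixedBy Ω (1 : S₀)) = 3 * p := by
    rw [← Nat.card_eq_fintype_card, fixedBy_one_eq_univ, Nat.card_congr (Equiv.Set.univ Ω), H.card_Ω]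
  have h2 : ∀ s ∈ (Finset.univ : Finset S₀).erase 1, Fintype.card (fixedBy Ω s) = 3 := fun s hs => by
    have hne : (s : G) ≠ 1 := fun h => (Finset.mem_erase.1 hs).1 (Subtype.ext h)
    rw [← Nat.card_eq_fintype_card, show fixedBy Ω s = fixedBy Ω (s : G) from rfl,
      hfix s.1 s.2.1 hne s.2.2, ← hset]
    exact h3 u hu
  rw [h1, Finset.sum_congr rfl h2, Finset.sum_const, Finset.card_erase_of_mem (Finset.mem_univ _),
    Finset.card_univ, smul_eq_mul] at hburn
  rw [Nat.card_eq_fintype_card]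
  have hpos : 0 < Fintype.card S₀ := Fintype.card_pos
  have hp5 := H.five_le
  obtain ⟨n, hn⟩ : Fintype.card S₀ ∣ 3 * p + (Fintype.card S₀ - 1) * 3 := hburn ▸ Dvd.intro_left _ rfl
  refine (Nat.dvd_add_left (Dvd.intro 3 rfl : Fintype.card S₀ ∣ Fintype.card S₀ * 3)).1 ⟨n, ?_⟩
  rw [← hn]
  omega

/-- The exponent of two is at most one more than that of `3p - 3`. -/
theorem Hyp.twoExp_card_le [IsSimpleGroup G] [IsPretransitive G Ω] (H : Hyp Ω p P)
    (h3 : ∀ v : G, orderOf v = 2 → fx Ω v = 3) :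
    twoExp (Nat.card G) ≤ twoExp (3 * p - 3) + 1 := by
  haveI : Fact (Nat.Prime 2) := ⟨Nat.prime_two⟩
  obtain ⟨u, hu⟩ := H.exists_two
  obtain ⟨S, α, β, γ, -, -, -, -, -, -, -, hle, hdvd, -⟩ := H.triangle h3 hu
  have hp5 := H.five_le
  obtain ⟨k, hk⟩ := IsPGroup.iff_card.1
    (S.isPGroup'.to_le (inf_le_left : (S : Subgroup G) ⊓ stabilizer G β ≤ S))
  rw [hk] at hle hdvd
  rw [S.card_eq_multiplicity, ← pow_succ'] at hle
  have h1 : k ≤ twoExp (3 * p - 3) := (le_twoExp_iff (by omega)).2 hdvd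
  exact ((Nat.pow_le_pow_iff_right (by norm_num)).1 hle).trans (Nat.succ_le_succ h1)

/-- Frobenius: if `g ^ n ≠ 1` for some `g`, at least `n` elements miss `x ^ n = 1`. -/
theorem le_card_pow_ne_one {n : ℕ} (hn : n ∣ Nat.card G) {g : G} (hg : g ^ n ≠ 1) :
    n ≤ Nat.card {z : G // z ^ n ≠ 1} := by
  have h := CfsgLib.StructC.dvd_card_pow_eq_one n hn
  have e : Nat.card {z : G // z ^ n = 1} + Nat.card {z : G // z ^ n ≠ 1} = Nat.card G := by
    rw [← Nat.card_sum]
    exact Nat.card_congr (Equiv.sumCompl _)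
  have : Nonempty {z : G // z ^ n ≠ 1} := ⟨⟨g, hg⟩⟩
  exact Nat.le_of_dvd Nat.card_pos ((Nat.dvd_add_right h).1 (e.symm ▸ hn))

end CfsgLib.Perm.ThreeP
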