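import Mathlib.GroupTheory.SpecificGroups.Dihedral
import Mathlib.GroupTheory.OrderOfElement
import Mathlib.GroupTheory.Index
import Mathlib.GroupTheory.QuotientGroup.Basic

/-!
Generators of a non-abelian group of order eight with a non-central involution.
-/

set_option autoImplicit false
set_option linter.style.haveILetI false
set_option linter.unusedSectionVars false

namespace CfsgLib.Perm.ThreeP

theorem exists_dihedral_gens {G : Type*} [Group G] [Finite G] (S : Subgroup G)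
    (hS : Nat.card S = 8) {u t : G} (hu : orderOf u = 2) (huS : u ∈ S)
    (huc : ∀ s ∈ S, s * u = u * s) (ht : orderOf t = 2) (htS : t ∈ S)
    (htc : ∃ s ∈ S, s * t ≠ t * s) :
    ∃ σ ∈ S, orderOf σ = 4 ∧ σ ^ 2 = u ∧ t * σ * t⁻¹ = σ⁻¹ ∧ σ * t * σ⁻¹ = t * u ∧
      Subgroup.closure ({σ, t} : Set G) = S ∧ Nonempty (S ≃* DihedralGroup 4) := by
  classical
  obtain ⟨s, hs, hst⟩ := htc
  have hu2 : u * u = 1 := by rw [← pow_two, ← hu, pow_orderOf_eq_one]
  have hu1 : u ≠ 1 := fun h => by rw [h, orderOf_one] at hu; norm_num at hu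
  have ht2 : t * t = 1 := by rw [← pow_two, ← ht, pow_orderOf_eq_one]
  let Z : Subgroup S := Subgroup.zpowers ⟨u, huS⟩
  haveI hZn : Z.Normal := by
    refine ⟨fun n hn x => ?_⟩
    obtain ⟨i, rfl⟩ := Subgroup.mem_zpowers_iff.1 hn
    have hc : Commute x (⟨u, huS⟩ : S) := Subtype.ext (huc x x.2)
    rw [(hc.zpow_right i).eq, mul_inv_cancel_right]
    exact zpow_mem (Subgroup.mem_zpowers _) i
  have hZc : Nat.card Z = 2 := by
    rw [Nat.card_zpowers, Subgroup.orderOf_mk, hu]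
  have hQ : Nat.card (S ⧸ Z) = 4 := by
    have := Z.card_mul_index
    rw [hZc, hS, Subgroup.index_eq_card] at this
    omega
  have hZ : ∀ x : S, x ∈ Z → (x : G) = 1 ∨ (x : G) = u := by
    intro x hx
    obtain ⟨i, rfl⟩ := Subgroup.mem_zpowers_iff.1 hx
    rcases Int.even_or_odd i with ⟨j, rfl⟩ | ⟨j, rfl⟩
    · left
      show u ^ (j + j) = 1
      rw [← two_mul, zpow_mul, zpow_two, hu2, one_zpow]
    · right
      show u ^ (2 * j + 1) = u
      rw [zpow_add, zpow_mul, zpow_two, hu2, one_zpow, one_mul, zpow_one]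
  -- the quotient is elementary abelian
  have hsq : ∀ q : S ⧸ Z, q * q = 1 := by
    intro q
    obtain ⟨x, rfl⟩ := QuotientGroup.mk_surjective q
    by_contra hne
    have h4 : orderOf (QuotientGroup.mk x : S ⧸ Z) = 4 := by
      have hd : orderOf (QuotientGroup.mk x : S ⧸ Z) ∣ 2 ^ 2 := by
        have := orderOf_dvd_natCard (QuotientGroup.mk x : S ⧸ Z)
        rwa [hQ] at this
      obtain ⟨i, hi, e⟩ := (Nat.dvd_prime_pow Nat.prime_two).1 hd
      interval_cases i
      · exact absurd (orderOf_eq_one_iff.1 e) (fun e => hne (by rw [e, mul_one]))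
      · refine absurd ?_ hne
        rw [← pow_two, ← show orderOf (QuotientGroup.mk x : S ⧸ Z) = 2 from e, pow_orderOf_eq_one]
      · exact e
    have htop : Subgroup.zpowers (QuotientGroup.mk x : S ⧸ Z) = ⊤ :=
      Subgroup.eq_top_of_card_eq _ (by rw [Nat.card_zpowers, h4, hQ])
    have hrep : ∀ a : S, ∃ (i : ℤ) (z : S), z ∈ Z ∧ a = x ^ i * z := by
      intro a
      obtain ⟨i, hi⟩ := Subgroup.mem_zpowers_iff.1
        (htop ▸ Subgroup.mem_top (QuotientGroup.mk a : S ⧸ Z))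
      refine ⟨i, (x ^ i)⁻¹ * a, ?_, by group⟩
      rw [← QuotientGroup.eq]
      exact hi
    have hzc : ∀ z ∈ Z, ∀ a : S, Commute z a := by
      intro z hz a
      obtain ⟨j, rfl⟩ := Subgroup.mem_zpowers_iff.1 hz
      exact Commute.zpow_left (show Commute (⟨u, huS⟩ : S) a from Subtype.ext (huc a a.2).symm) j
    refine hst (congrArg Subtype.val (?_ : (⟨s, hs⟩ : S) * ⟨t, htS⟩ = ⟨t, htS⟩ * ⟨s, hs⟩))
    obtain ⟨i, z, hz, ha⟩ := hrep ⟨s, hs⟩
    obtain ⟨j, z', hz', hb⟩ := hrep ⟨t, htS⟩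
    rw [ha, hb]
    exact (((Commute.zpow_zpow (Commute.refl x) i j).mul_right (hzc z' hz' _).symm).mul_left
      ((hzc z hz _).mul_right (hzc z hz _))).eq
  have hcomm : s * t * s⁻¹ * t⁻¹ = u := by
    have hq : ∀ a b : S ⧸ Z, a * b = b * a := fun a b => by
      calc a * b = (b * b) * (a * b) * (a * a) := by rw [hsq, hsq, one_mul, mul_one]
        _ = b * ((b * a) * (b * a)) * a := by group
        _ = b * a := by rw [hsq, mul_one]
    have hmem : (⟨s, hs⟩ : S) * ⟨t, htS⟩ * (⟨s, hs⟩ : S)⁻¹ * (⟨t, htS⟩ : S)⁻¹ ∈ Z := by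
      rw [← QuotientGroup.eq_one_iff]
      simp only [QuotientGroup.mk_mul, QuotientGroup.mk_inv]
      rw [hq (QuotientGroup.mk (⟨s, hs⟩ : S)), mul_inv_cancel_right, mul_inv_cancel]
    refine (hZ _ hmem).resolve_left fun h => hst ?_
    have h' : s * t * s⁻¹ * t⁻¹ = 1 := h
    rw [mul_inv_eq_one, mul_inv_eq_iff_eq_mul] at h'
    exact h'
  have hsts : s * t * s⁻¹ = t * u := by
    rw [huc t htS, ← hcomm, inv_mul_cancel_right]
  have hs2 : s * s = 1 ∨ s * s = u := by
    refine hZ (⟨s, hs⟩ * ⟨s, hs⟩ : S) ?_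
    rw [← QuotientGroup.eq_one_iff, QuotientGroup.mk_mul]
    exact hsq _
  obtain ⟨σ, hσS, hσ2, hσt⟩ : ∃ σ ∈ S, σ * σ = u ∧ σ * t * σ⁻¹ = t * u := by
    rcases hs2 with h | h
    · refine ⟨s * t, mul_mem hs htS, ?_, by rw [← hsts]; group⟩
      have hsi : s⁻¹ = s := inv_eq_of_mul_eq_one_right h
      calc s * t * (s * t) = (s * t * s⁻¹) * t := by rw [hsi]; group
        _ = u * (t * t) := by rw [hsts, huc t htS, mul_assoc]
        _ = u := by rw [ht2, mul_one]
    · exact ⟨s, hs, h, hsts⟩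
  have hσ4 : orderOf σ = 4 := by
    have h4 : σ ^ (2 ^ 2) = 1 := by
      rw [show (2 : ℕ) ^ 2 = 2 * 2 from rfl, pow_mul, pow_two σ, hσ2, pow_two, hu2]
    haveI : Fact (Nat.Prime 2) := ⟨Nat.prime_two⟩
    exact orderOf_eq_prime_pow (fun h => hu1 (by rwa [pow_one, pow_two, hσ2] at h)) h4
  have hinv : t * σ * t⁻¹ = σ⁻¹ := by
    refine eq_inv_of_mul_eq_one_left ?_
    have e : σ * t = t * u * σ := by rw [← hσt]; group
    calc t * σ * t⁻¹ * σ = t * σ * t⁻¹ * σ := rfl
      _ = t * σ * (t * σ) := by rw [inv_eq_of_mul_eq_one_right ht2]; group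
      _ = t * (σ * t) * σ := by group
      _ = (t * t) * u * (σ * σ) := by rw [e]; group
      _ = 1 := by rw [ht2, hσ2, one_mul, hu2]
  have hclo : Subgroup.closure ({σ, t} : Set G) ≤ S := (Subgroup.closure_le S).2 (by
    rintro x (rfl | rfl)
    exacts [hσS, htS])
  have htn : t ∉ Subgroup.zpowers σ := by
    intro h
    obtain ⟨i, rfl⟩ := Subgroup.mem_zpowers_iff.1 h
    rw [(Commute.self_zpow σ i).eq, mul_inv_cancel_right, left_eq_mul] at hσt
    exact hu1 hσt
  have hcS : Subgroup.closure ({σ, t} : Set G) = S := by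
    refine Subgroup.eq_of_le_of_card_ge hclo ?_
    have hle : Subgroup.zpowers σ ≤ Subgroup.closure ({σ, t} : Set G) :=
      Subgroup.zpowers_le.2 (Subgroup.subset_closure (Set.mem_insert _ _))
    have hlt : Nat.card (Subgroup.zpowers σ) < Nat.card (Subgroup.closure ({σ, t} : Set G)) :=
      Set.Finite.card_lt_card (Set.toFinite _) (SetLike.coe_ssubset_coe.2
        (lt_of_le_of_ne hle fun e => htn
          (e.ge (Subgroup.subset_closure (Set.mem_insert_of_mem _ rfl)))))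
    rw [Nat.card_zpowers, hσ4] at hlt
    have hd := Subgroup.card_dvd_of_le hclo
    rw [hS] at hd ⊢
    obtain ⟨i, -, e⟩ := (Nat.dvd_prime_pow Nat.prime_two).1 (show _ ∣ 2 ^ 3 from hd)
    rw [e] at hlt ⊢
    exact (show 8 = 2 ^ 3 from rfl).le.trans (Nat.pow_le_pow_right two_pos (by
      by_contra h
      have := Nat.pow_le_pow_right two_pos (show i ≤ 2 by omega)
      omega))
  refine ⟨σ, hσS, hσ4, by rw [pow_two, hσ2], hinv, hσt, hcS, ?_⟩
  -- the isomorphism
  let P : ZMod 4 → G := fun i => σ ^ i.val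
  have hP : ∀ i j, P (i + j) = P i * P j := fun i j => by
    show σ ^ (i + j).val = σ ^ i.val * σ ^ j.val
    rw [← pow_add, pow_eq_pow_iff_modEq, hσ4, ZMod.val_add]
    exact Nat.mod_modEq _ _
  have hP0 : P 0 = 1 := by simp [P]
  have hPsub : ∀ i j, P (j - i) = (P i)⁻¹ * P j := fun i j => by
    rw [eq_inv_mul_iff_mul_eq, ← hP, add_sub_cancel]
  have hPt : ∀ i, P i * t = t * (P i)⁻¹ := fun i => by
    have h : (t * σ * t⁻¹) ^ i.val = (σ ^ i.val)⁻¹ := by rw [hinv, inv_pow]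
    rw [conj_pow] at h
    show σ ^ i.val * t = t * (σ ^ i.val)⁻¹
    rw [← h, inv_eq_of_mul_eq_one_right ht2, ← mul_assoc, ← mul_assoc, ht2, one_mul]
  let f0 : DihedralGroup 4 → G := fun x => match x with
    | .r i => P i
    | .sr i => t * P i
  have hf : ∀ a b, f0 (a * b) = f0 a * f0 b := by
    rintro (i | i) (j | j)
    · rw [DihedralGroup.r_mul_r]; exact hP i j
    · rw [DihedralGroup.r_mul_sr]
      show t * P (j - i) = P i * (t * P j)
      rw [hPsub, ← mul_assoc, ← mul_assoc, hPt]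
    · rw [DihedralGroup.sr_mul_r]
      show t * P (i + j) = t * P i * P j
      rw [hP, mul_assoc]
    · rw [DihedralGroup.sr_mul_sr]
      show P (j - i) = t * P i * (t * P j)
      rw [hPsub, mul_assoc, ← mul_assoc (P i) t, hPt, ← mul_assoc, ← mul_assoc, ht2, one_mul]
  let f : DihedralGroup 4 →* G := MonoidHom.mk' f0 hf
  have hr : f.range = S := by
    refine le_antisymm ?_ ?_
    · rintro _ ⟨x, rfl⟩
      cases x with
      | r i => exact pow_mem hσS _
      | sr i => exact mul_mem htS (pow_mem hσS _)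
    · refine hcS.ge.trans ((Subgroup.closure_le _).2 ?_)
      intro x hx
      rcases hx with h | h
      · rw [h]; exact ⟨DihedralGroup.r 1, pow_one σ⟩
      · rw [Set.mem_singleton_iff.1 h]; exact ⟨DihedralGroup.sr 0, (congrArg (t * ·) hP0).trans (mul_one t)⟩
  let g : DihedralGroup 4 →* S := f.codRestrict S fun x => hr ▸ ⟨x, rfl⟩
  have hg : Function.Surjective g := fun y => by
    obtain ⟨x, hx⟩ := hr.ge y.2
    exact ⟨x, Subtype.ext hx⟩
  refine ⟨(MulEquiv.ofBijective g ((Nat.bijective_iff_surjective_and_card _).2 ⟨hg, ?_⟩)).symm⟩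
  rw [DihedralGroup.nat_card, hS]

end CfsgLib.Perm.ThreeP
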