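import Mathlib.GroupTheory.Index
import Mathlib.GroupTheory.OrderOfElement
import Mathlib.GroupTheory.QuotientGroup.Basic
import Mathlib.GroupTheory.SpecificGroups.Cyclic
import Mathlib.GroupTheory.GroupAction.Quotient
import Mathlib.Data.Finset.Prod
import Mathlib.Algebra.Group.Conj

/-!
Pairs of conjugate involutions whose product has the central involution as a power.
-/

set_option autoImplicit false
set_option linter.style.haveILetI false
set_option linter.unusedSectionVars false

namespace CfsgLib.Perm.ThreeP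

/-- A cyclic group has at most one involution. -/
theorem invol_unique_zpowers {G : Type*} [Group G] [Finite G] {g u u' : G}
    (h : u ∈ Subgroup.zpowers g) (h' : u' ∈ Subgroup.zpowers g) (hu : orderOf u = 2)
    (hu' : orderOf u' = 2) : u = u' := by
  classical
  by_contra hne
  letI := Fintype.ofFinite (Subgroup.zpowers g)
  have hle := IsCyclic.card_pow_eq_one_le (α := Subgroup.zpowers g) (n := 2) two_pos
  have h1 : ∀ x : G, orderOf x = 2 → x ≠ 1 ∧ x ^ 2 = 1 := fun x hx =>
    ⟨fun e => by rw [e, orderOf_one] at hx; norm_num at hx, by rw [← hx, pow_orderOf_eq_one]⟩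
  have hsub : ({1, ⟨u, h⟩, ⟨u', h'⟩} : Finset (Subgroup.zpowers g)) ⊆
      Finset.univ.filter fun a : Subgroup.zpowers g => a ^ 2 = 1 := by
    intro a ha
    simp only [Finset.mem_insert, Finset.mem_singleton] at ha
    refine Finset.mem_filter.2 ⟨Finset.mem_univ a, ?_⟩
    rcases ha with rfl | rfl | rfl
    exacts [one_pow 2, Subtype.ext (h1 u hu).2, Subtype.ext (h1 u' hu').2]
  have h3 : ({1, ⟨u, h⟩, ⟨u', h'⟩} : Finset (Subgroup.zpowers g)).card = 3 :=
    Finset.card_eq_three.2 ⟨_, _, _, fun e => (h1 u hu).1 (congrArg Subtype.val e).symm,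
      fun e => (h1 u' hu').1 (congrArg Subtype.val e).symm,
      fun e => hne (congrArg Subtype.val e), rfl⟩
  have := (Finset.card_le_card hsub).trans hle
  omega

theorem sq_le_two_mul_pairs {C : Type*} [Group C] [Finite C] (N : Subgroup C) [N.Normal]
    (hN : Odd (Nat.card N)) (hidx : N.index = 8) {u τ σ : C} (hu : orderOf u = 2)
    (huc : ∀ c : C, c * u = u * c) (hτ : orderOf τ = 2) (hτu : τ ≠ u)
    (hσ : σ * τ * σ⁻¹ = τ * u) :
    Nat.card {v : C // IsConj τ v} ^ 2 ≤ 2 * Nat.card {vw : C × C //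
      IsConj τ vw.1 ∧ IsConj τ vw.2 ∧ u ∈ Subgroup.zpowers (vw.1 * vw.2)} := by
  classical
  letI := Fintype.ofFinite C
  let φ : C →* C ⧸ N := QuotientGroup.mk' N
  have hu2 : u * u = 1 := by rw [← pow_two, ← hu, pow_orderOf_eq_one]
  have hτ2 : τ * τ = 1 := by rw [← pow_two, ← hτ, pow_orderOf_eq_one]
  have hinvN : ∀ x : C, x * x = 1 → x ≠ 1 → φ x ≠ 1 := by
    intro x hx hx1 h
    have hmem : x ∈ N := (QuotientGroup.eq_one_iff x).1 h
    have h2 : 2 ∣ Nat.card N := by
      refine Dvd.dvd.trans (dvd_of_eq ?_) (Subgroup.orderOf_dvd_natCard N hmem)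
      exact (orderOf_eq_prime (by rw [pow_two]; exact hx) hx1).symm
    exact hN.not_two_dvd_nat h2
  have hu1 : u ≠ 1 := fun h => by rw [h, orderOf_one] at hu; norm_num at hu
  have hτ1 : τ ≠ 1 := fun h => by rw [h, orderOf_one] at hτ; norm_num at hτ
  have hub : φ u ≠ 1 := hinvN u hu2 hu1
  have hτb : φ τ ≠ 1 := hinvN τ hτ2 hτ1
  have hτub : φ τ ≠ φ u := by
    intro h
    refine hinvN (τ * u) ?_ (fun e => hτu ?_) ?_
    · calc τ * u * (τ * u) = τ * (u * τ) * u := by group
        _ = 1 := by rw [← huc τ, ← mul_assoc τ τ u, hτ2, one_mul, hu2]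
    · rw [← mul_one τ, ← hu2, ← mul_assoc, e, one_mul]
    · rw [map_mul, h, ← map_mul, hu2, map_one]
  -- the class modulo `N`
  set M := Subgroup.centralizer ({φ τ} : Set (C ⧸ N)) with hM
  have hconjσ : φ σ * φ τ * (φ σ)⁻¹ = φ τ * φ u := by
    rw [← map_mul, ← map_inv, ← map_mul, hσ, map_mul]
  have hσM : φ σ ∉ M := fun h => by
    rw [hM, Subgroup.mem_centralizer_singleton_iff] at h
    rw [h, mul_inv_cancel_right, left_eq_mul] at hconjσ
    exact hub hconjσ
  have huτ : φ u * φ τ = φ τ * φ u := by rw [← map_mul, ← map_mul, huc τ]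
  have hidxM : M.index = 2 := by
    have hcard : Nat.card (C ⧸ N) = 8 := hidx
    have h4 : 4 ≤ Nat.card M := by
      have hsub : ({1, φ τ, φ u, φ τ * φ u} : Finset (C ⧸ N)) ⊆ (M : Set (C ⧸ N)).toFinset := by
        intro x hx
        simp only [Finset.mem_insert, Finset.mem_singleton] at hx
        rw [Set.mem_toFinset, SetLike.mem_coe, hM, Subgroup.mem_centralizer_singleton_iff]
        rcases hx with rfl | rfl | rfl | rfl
        · rw [one_mul, mul_one]
        · rfl
        · exact huτ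
        · rw [mul_assoc, huτ]
      have h := Finset.card_le_card hsub
      rw [Set.toFinset_card, ← Nat.card_eq_fintype_card] at h
      refine le_trans (le_of_eq ?_) h
      have e1 : φ τ * φ u ≠ φ τ := fun e => hub (mul_eq_left.1 e)
      have e2 : φ τ * φ u ≠ φ u := fun e => hτb (mul_eq_right.1 e)
      have e3 : φ τ * φ u ≠ 1 := fun e => hτub (by
        rw [← mul_one (φ τ), ← map_one φ, ← hu2, map_mul, ← mul_assoc, e, one_mul])
      rw [Finset.card_insert_of_notMem (by simp [hτb.symm, hub.symm, e3.symm]),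
        Finset.card_insert_of_notMem (by simp [hτub, e1.symm]),
        Finset.card_insert_of_notMem (by simp [e2.symm]), Finset.card_singleton]
    have h := M.card_mul_index
    rw [hcard] at h
    have h1 : M.index ≠ 1 := fun e => hσM (Subgroup.index_eq_one.1 e ▸ Subgroup.mem_top _)
    have h0 : M.index ≠ 0 := fun e => by rw [e, mul_zero] at h; omega
    have h4' : 4 * M.index ≤ 8 := h ▸ Nat.mul_le_mul_right _ h4
    omega
  have hclass : ∀ c : C, φ (c * τ * c⁻¹) = φ τ ∨ φ (c * τ * c⁻¹) = φ τ * φ u := by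
    intro c
    simp only [map_mul, map_inv]
    by_cases hc : φ c ∈ M
    · left
      rw [hM, Subgroup.mem_centralizer_singleton_iff] at hc
      rw [hc, mul_inv_cancel_right]
    · right
      have hm : (φ σ)⁻¹ * φ c ∈ M := by
        rw [Subgroup.mul_mem_iff_of_index_two hidxM, inv_mem_iff]
        exact ⟨fun h => absurd h hσM, fun h => absurd h hc⟩
      rw [hM, Subgroup.mem_centralizer_singleton_iff] at hm
      calc φ c * φ τ * (φ c)⁻¹ = φ σ * ((φ σ)⁻¹ * φ c * φ τ) * (φ c)⁻¹ := by group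
        _ = φ τ * φ u := by rw [hm, ← hconjσ]; group
  let K : Finset C := Finset.univ.filter fun v => IsConj τ v
  let P : Finset (C × C) := Finset.univ.filter fun vw =>
    IsConj τ vw.1 ∧ IsConj τ vw.2 ∧ u ∈ Subgroup.zpowers (vw.1 * vw.2)
  have hK : Nat.card {v : C // IsConj τ v} = K.card := by
    rw [Nat.card_eq_fintype_card, Fintype.card_subtype]
  have hP : Nat.card {vw : C × C //
      IsConj τ vw.1 ∧ IsConj τ vw.2 ∧ u ∈ Subgroup.zpowers (vw.1 * vw.2)} = P.card := by
    rw [Nat.card_eq_fintype_card, Fintype.card_subtype]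
  rw [hK, hP, pow_two, ← Finset.card_product]
  have hKu : ∀ v, IsConj τ v → IsConj τ (v * u) := by
    intro v hv
    obtain ⟨c, rfl⟩ := isConj_iff.1 hv
    refine isConj_iff.2 ⟨c * σ, ?_⟩
    calc c * σ * τ * (c * σ)⁻¹ = c * (σ * τ * σ⁻¹) * c⁻¹ := by group
      _ = c * τ * (u * c⁻¹) := by rw [hσ]; group
      _ = c * τ * c⁻¹ * u := by rw [← huc c⁻¹]; group
  have hgood : ∀ v w, IsConj τ v → IsConj τ w → φ v ≠ φ w → u ∈ Subgroup.zpowers (v * w) := by
    intro v w hv hw hne
    obtain ⟨c, rfl⟩ := isConj_iff.1 hv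
    obtain ⟨d, rfl⟩ := isConj_iff.1 hw
    have hprod : φ (c * τ * c⁻¹ * (d * τ * d⁻¹)) = φ u := by
      have ht : φ τ * φ τ = 1 := by rw [← map_mul, hτ2, map_one]
      rcases hclass c with h1 | h1 <;> rcases hclass d with h2 | h2 <;>
        rw [h1, h2] at hne <;> rw [map_mul, h1, h2]
      · exact absurd rfl hne
      · rw [← mul_assoc, ht, one_mul]
      · rw [mul_assoc, huτ, ← mul_assoc, ht, one_mul]
      · exact absurd rfl hne
    generalize c * τ * c⁻¹ * (d * τ * d⁻¹) = g at hprod ⊢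
    have hn : g * u ∈ N := (QuotientGroup.eq_one_iff _).1 (show φ (g * u) = 1 by
      rw [map_mul, hprod, ← map_mul, hu2, map_one])
    have hk : Odd (orderOf (g * u)) :=
      hN.of_dvd_nat (Subgroup.orderOf_dvd_natCard N hn)
    obtain ⟨j, hj⟩ := hk
    refine Subgroup.mem_zpowers_iff.2 ⟨((2 * j + 1 : ℕ) : ℤ), ?_⟩
    rw [zpow_natCast]
    have h1 : (g * u) ^ (2 * j + 1) = 1 := by rw [← hj, pow_orderOf_eq_one]
    rw [(show Commute g u from huc g).mul_pow, pow_succ u, pow_mul, pow_two u, hu2, one_pow,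
      one_mul] at h1
    rw [eq_inv_of_mul_eq_one_left h1]
    exact inv_eq_of_mul_eq_one_right hu2
  refine Finset.card_le_mul_card_image_of_maps_to (f := fun x : C × C =>
    if φ x.1 ≠ φ x.2 then x else (x.1, x.2 * u)) (fun x hx => ?_) 2 fun y _ => ?_
  · simp only [K, Finset.mem_product, Finset.mem_filter, Finset.mem_univ, true_and] at hx
    simp only [P, Finset.mem_filter, Finset.mem_univ, true_and]
    split_ifs with h
    · exact ⟨hx.1, hx.2, hgood _ _ hx.1 hx.2 h⟩
    · refine ⟨hx.1, hKu _ hx.2, hgood _ _ hx.1 (hKu _ hx.2) fun e => hub ?_⟩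
      rw [not_not] at h
      dsimp only at e
      rw [h, map_mul, left_eq_mul] at e
      exact e
  · refine (Finset.card_le_card (t := {y, (y.1, y.2 * u)}) fun x hx => ?_).trans
      Finset.card_le_two
    obtain ⟨-, h⟩ := Finset.mem_filter.1 hx
    simp only [Finset.mem_insert, Finset.mem_singleton]
    split_ifs at h
    · exact Or.inl h
    · right
      rw [← h, mul_assoc, hu2, mul_one]

end CfsgLib.Perm.ThreeP
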