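import Cfsg.Agent.Lib.Perm.ThreeP.RankLambda
import Cfsg.Agent.Lib.Perm.ThreeP.PairCount
import Cfsg.Agent.Lib.Perm.ThreeP.Dihedral
import Cfsg.Agent.Lib.BlockB.PrincipalLambda
import Cfsg.Agent.Lib.BlockB.PModular
import Cfsg.Agent.S0514
import Cfsg.Agent.S4482

/-!
The row of degree `2p - 1`: the dihedral Sylow two-subgroup bounds `p`.
-/

set_option autoImplicit false
set_option linter.unusedSectionVars false
set_option linter.style.haveILetI false

namespace CfsgLib.Perm.ThreeP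

open MulAction Cfsg CfsgLib CfsgLib.Block CfsgLib.Block.BrauerReynolds
open scoped _root_.Classical

universe u v

variable {G : Type u} [Group G] [Finite G] {Ω : Type v} [MulAction G Ω] [Finite Ω]
  [IsPretransitive G Ω] [FaithfulSMul G Ω] {p : ℕ}
  [hpf : Fact p.Prime] {P : Sylow p G} {x : G} {χ ψ : IrrCharacter G} {val : G → ℤ}

theorem sq_cases {S₀ : Subgroup G} (h4 : Nat.card S₀ = 4) {w y : G} (hw : w ∈ S₀) (hw2 : w ^ 2 ≠ 1)
    (hy : y ∈ S₀) : orderOf w = 4 ∧ (y ^ 2 = 1 ∨ y ^ 2 = w ^ 2) := by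
  have h4' : ∀ z ∈ S₀, orderOf z ∣ 2 ^ 2 := fun z hz => by
    have := S₀.orderOf_dvd_natCard hz; rwa [h4] at this
  have hwo : orderOf w = 4 := by
    obtain ⟨k, hk, he⟩ := (Nat.dvd_prime_pow Nat.prime_two).1 (h4' w hw)
    interval_cases k
    · exact absurd (orderOf_dvd_iff_pow_eq_one.1 (by rw [he]; norm_num)) hw2
    · exact absurd (orderOf_dvd_iff_pow_eq_one.1 (by rw [he]; norm_num)) hw2
    · simpa using he
  refine ⟨hwo, ?_⟩
  by_cases hy2 : y ^ 2 = 1
  · exact Or.inl hy2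
  right
  have hz : Subgroup.zpowers w = S₀ :=
    Subgroup.eq_of_le_of_card_ge (Subgroup.zpowers_le.2 hw) (by rw [Nat.card_zpowers, hwo, h4])
  have hyw : y ∈ Subgroup.zpowers w := hz ▸ hy
  have ho : ∀ z ∈ S₀, z ^ 2 ≠ 1 → orderOf (z ^ 2) = 2 := fun z hz hz2 =>
    orderOf_eq_prime (by rw [← pow_mul]; exact orderOf_dvd_iff_pow_eq_one.1 (h4' z hz)) hz2
  exact invol_unique_zpowers (g := w) (Subgroup.pow_mem _ hyw 2)
    (Subgroup.pow_mem _ (Subgroup.mem_zpowers w) 2) (ho y hy hy2) (ho w hw hw2)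

/-- An outer involution not central in the Sylow two-subgroup. -/
theorem Hyp.outer_involution [IsSimpleGroup G] (H : Hyp Ω p P)
    (h3 : ∀ v : G, orderOf v = 2 → fx Ω v = 3) (hp8 : p % 8 = 5) {S : Sylow 2 G}
    (hS : Nat.card (S : Subgroup G) = 8) {α β γ : Ω} (hSα : ∀ s ∈ (S : Subgroup G), s • α = α)
    (hS₀ : Nat.card ((S : Subgroup G) ⊓ stabilizer G β : Subgroup G) = 4)
    (hfix : ∀ s ∈ (S : Subgroup G), s ≠ 1 → s • β = β → fixedBy Ω s = {α, β, γ})
    (hT3 : ({α, β, γ} : Set Ω).ncard = 3)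
    (hTu : ∀ s ∈ (S : Subgroup G), ∀ b ∈ ({α, β, γ} : Set Ω), s • b ∈ ({α, β, γ} : Set Ω))
    (hαβ : α ≠ β) (hαγ : α ≠ γ) :
    ∃ t ∈ (S : Subgroup G), orderOf t = 2 ∧ t • β ≠ β ∧ ∃ s ∈ (S : Subgroup G), s * t ≠ t * s := by
  haveI : Fact (Nat.Prime 2) := ⟨Nat.prime_two⟩
  set SG := (S : Subgroup G) with hSG
  set S₀ := SG ⊓ stabilizer G β with hS₀def
  haveI : Fintype SG := Fintype.ofFinite SG
  haveI : Fintype Ω := Fintype.ofFinite Ω
  haveI := Fintype.ofFinite (orbitRel.Quotient SG Ω)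
  -- products of two outer elements are inner
  have hsw : ∀ s ∈ SG, s • β ≠ β → s • β = γ ∧ s • γ = β := fun s hs hne => by
    have h1 : s • β = γ := by
      rcases hTu s hs β (by simp) with h | h | h
      · exact absurd (MulAction.injective s (h.trans (hSα s hs).symm)) hαβ.symm
      · exact absurd h hne
      · exact h
    refine ⟨h1, ?_⟩
    rcases hTu s hs γ (by simp) with h | h | h
    · exact absurd (MulAction.injective s (h.trans (hSα s hs).symm)) hαγ.symm
    · exact h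
    · exact absurd (MulAction.injective s (h1.trans h.symm)) (fun e => hne (h1.trans e.symm))
  have hmul : ∀ a ∈ SG, ∀ b ∈ SG, a • β ≠ β → b • β ≠ β → a * b ∈ S₀ := fun a ha b hb hab hbb => by
    refine ⟨SG.mul_mem ha hb, ?_⟩
    change (a * b) • β = β
    rw [mul_smul, (hsw b hb hbb).1, (hsw a ha hab).2]
  have hburn := sum_card_fixedBy_eq_card_orbits_mul_card_group SG Ω
  rw [← Finset.sum_filter_add_sum_filter_not Finset.univ (fun s : SG => (s : G) • β = β),
    ← Finset.add_sum_erase _ _ (a := (1 : SG)) (by simp),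
    ← Nat.card_eq_fintype_card (α := SG), hS] at hburn
  have e1 : Fintype.card (fixedBy Ω (1 : SG)) = 3 * p := by
    rw [← Nat.card_eq_fintype_card, fixedBy_one_eq_univ, Nat.card_congr (Equiv.Set.univ Ω), H.card_Ω]
  have hin : (Finset.univ.filter fun s : SG => (s : G) • β = β).card = 4 := by
    rw [← Fintype.card_subtype, ← Nat.card_eq_fintype_card, ← hS₀]
    exact Nat.card_congr
      { toFun := fun s => ⟨s.1.1, s.1.2, s.2⟩
        invFun := fun s => ⟨⟨s.1, s.2.1⟩, s.2.2⟩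
        left_inv := fun s => rfl
        right_inv := fun s => rfl }
  have hout : (Finset.univ.filter fun s : SG => ¬ (s : G) • β = β).card = 4 := by
    have := Finset.card_filter_add_card_filter_not (s := Finset.univ) (fun s : SG => (s : G) • β = β)
    rw [hin, Finset.card_univ, ← Nat.card_eq_fintype_card, hS] at this
    omega
  rw [e1, Finset.sum_congr rfl (fun (s : SG) hs => show Fintype.card (fixedBy Ω s) = 3 by
      simp only [Finset.mem_erase, Finset.mem_filter] at hs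
      rw [← Nat.card_eq_fintype_card, show fixedBy Ω s = fixedBy Ω (s : G) from rfl,
        hfix s.1 s.2 (fun h => hs.1 (Subtype.ext h)) hs.2.2, Nat.card_coe_set_eq, hT3] :
      ∀ s ∈ (Finset.univ.filter fun s : SG => (s : G) • β = β).erase 1, Fintype.card (fixedBy Ω s) = 3),
    Finset.sum_const, Finset.card_erase_of_mem (by simp), hin, smul_eq_mul] at hburn
  have hone : ∀ s : SG, ¬ (s : G) • β = β → orderOf (s : G) ≠ 2 → Fintype.card (fixedBy Ω s) = 1 := by
    intro s hs ho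
    have hne1 : (s : G) ≠ 1 := fun h => hs (by rw [h, one_smul])
    have hsq : ((s : G) ^ 2) • β = β := by
      rw [sq]; exact (hmul _ s.2 _ s.2 hs hs).2
    have hsq1 : (s : G) ^ 2 ≠ 1 := fun h => ho (orderOf_eq_prime h hne1)
    have hT := hfix _ (SG.pow_mem s.2 2) hsq1 hsq
    rw [← Nat.card_eq_fintype_card, Nat.card_eq_one_iff_unique]
    refine ⟨⟨?_⟩, ⟨⟨α, hSα _ s.2⟩⟩⟩
    have key : ∀ b : fixedBy Ω s, b.1 = α := fun b => by
      have hb : (s : G) • b.1 = b.1 := b.2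
      have : b.1 ∈ fixedBy Ω ((s : G) ^ 2) := by rw [mem_fixedBy, sq, mul_smul, hb, hb]
      rw [hT] at this
      rcases this with h | h | h
      · exact h
      · exact absurd (h ▸ hb) hs
      · rw [h] at hb
        exact absurd (MulAction.injective (s : G) ((hsw _ s.2 hs).1.trans hb.symm))
          (fun e => hs ((hsw _ s.2 hs).1.trans e.symm))
    exact fun a b => Subtype.ext ((key a).trans (key b).symm)
  obtain ⟨t, ht, htn⟩ : ∃ t : SG, orderOf (t : G) = 2 ∧ ¬ (t : G) • β = β := by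
    by_contra hno
    push Not at hno
    rw [Finset.sum_congr rfl (fun (s : SG) hs => hone s (Finset.mem_filter.1 hs).2
      fun h => (Finset.mem_filter.1 hs).2 (hno s h)), Finset.sum_const, hout, smul_eq_mul] at hburn
    omega
  refine ⟨t, t.2, ht, htn, ?_⟩
  by_contra hcen
  push Not at hcen
  have ht2 : (t : G) * t = 1 := invol_mul_self ht
  by_cases hex : ∀ w ∈ S₀, w ^ 2 = 1
  · have hall : ∀ s : SG, ¬ (s : G) • β = β → Fintype.card (fixedBy Ω s) = 3 := fun s hs => by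
      rw [← Nat.card_eq_fintype_card]
      refine h3 (s : G) (orderOf_eq_prime ?_ fun h => hs (by rw [h, one_smul]))
      have h := hex _ (hmul _ s.2 _ t.2 hs htn)
      rw [(show Commute (s : G) t from hcen _ s.2).mul_pow, sq (t : G), ht2, mul_one] at h
      exact h
    rw [Finset.sum_congr rfl (fun (s : SG) hs => hall s (Finset.mem_filter.1 hs).2),
      Finset.sum_const, hout, smul_eq_mul] at hburn
    omega
  · push Not at hex
    obtain ⟨w, hw, hw2⟩ := hex
    obtain ⟨hwo, -⟩ := sq_cases hS₀ hw hw2 hw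
    have hz : Subgroup.zpowers w = S₀ :=
      Subgroup.eq_of_le_of_card_ge (Subgroup.zpowers_le.2 hw) (by rw [Nat.card_zpowers, hwo, hS₀])
    have hdec : ∀ s ∈ SG, ∃ i : ℤ, s = w ^ i ∨ s = t * w ^ i := fun s hs => by
      by_cases hsβ : s • β = β
      · obtain ⟨i, hi⟩ := Subgroup.mem_zpowers_iff.1 (show s ∈ Subgroup.zpowers w from hz ▸ ⟨hs, hsβ⟩)
        exact ⟨i, Or.inl hi.symm⟩
      · obtain ⟨i, hi⟩ := Subgroup.mem_zpowers_iff.1
          (show (t : G) * s ∈ Subgroup.zpowers w from hz ▸ hmul _ t.2 _ hs htn hsβ)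
        exact ⟨i, Or.inr (by rw [hi, ← mul_assoc, ht2, one_mul])⟩
    have htw : Commute (t : G) w := (hcen w hw.1).symm
    haveI : IsMulCommutative SG := ⟨⟨fun a b => Subtype.ext (by
      change Commute (a : G) b
      obtain ⟨i, hi⟩ := hdec a a.2
      obtain ⟨j, hj⟩ := hdec b b.2
      have hij : Commute (w ^ i) (w ^ j) := Commute.zpow_zpow_self w i j
      rcases hi with hi | hi <;> rcases hj with hj | hj <;> rw [hi, hj]
      · exact hij
      · exact ((htw.zpow_right i).symm).mul_right hij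
      · exact (htw.zpow_right j).mul_left hij
      · exact ((Commute.refl (t : G)).mul_right (htw.zpow_right j)).mul_left
          (((htw.zpow_right i).symm).mul_right hij))⟩⟩
    have hw2o : orderOf (w ^ 2) = 2 := orderOf_eq_prime (by
      rw [← pow_mul]; exact orderOf_dvd_iff_pow_eq_one.1 (by rw [hwo])) hw2
    obtain ⟨g, hg⟩ := isConj_iff.1 (H.conj_of_two hw2o ht)
    obtain ⟨n, hn, hn'⟩ := S.conj_eq_normalizer_conj_of_mem (w ^ 2) g⁻¹ (SG.pow_mem hw.1 2)
      (by rw [inv_inv, hg]; exact t.2)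
    rw [inv_inv, hg] at hn'
    have hy : n⁻¹ * w * n ∈ SG := by
      have := (Subgroup.mem_normalizer_iff.1 (Subgroup.inv_mem _ hn) w).1 hw.1
      rwa [inv_inv] at this
    have hsq : (n⁻¹ * w * n) ^ 2 = t := by rw [hn', sq, sq]; group
    have hin0 : ∀ y ∈ SG, y ^ 2 ∈ S₀ := fun y hy => by
      refine ⟨SG.pow_mem hy 2, ?_⟩
      by_cases hyβ : y • β = β
      · exact (stabilizer G β).pow_mem hyβ 2
      · rw [sq]; exact (hmul _ hy _ hy hyβ hyβ).2
    have := hin0 _ hy
    rw [hsq] at this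
    exact htn this.2

theorem Mid.regTotal_ne_zero [IsSimpleGroup G] [Fintype G] (M : Mid Ω p x χ val ψ) {r : ℕ} {u : G}
    (hu : orderOf u = 2) (hF : MidFacts Ω p val r u) : BlockB.regTotal 2 (χ : G → ℂ) ≠ 0 := by
  have h : BlockB.regTotal 2 (χ : G → ℂ) =
      ((∑ g : G, val g : ℤ) : ℂ) - ((Finset.univ.filter fun g : G => 2 ∣ orderOf g).card : ℂ) := by
    rw [Int.cast_sum, Finset.card_eq_sum_ones, Nat.cast_sum, Finset.sum_filter, ← Finset.sum_sub_distrib]
    refine Finset.sum_congr rfl fun g _ => ?_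
    rw [BlockA.regInd, M.row.val_eq]
    by_cases hg : 2 ∣ orderOf g
    · rw [if_pos hg, if_pos hg, hF.val_even g hg]; simp
    · rw [if_neg hg, if_neg hg]; simp
  rw [h, M.row.sum_val, Int.cast_zero, zero_sub, neg_ne_zero, Nat.cast_ne_zero]
  exact Finset.card_ne_zero.2 ⟨u, Finset.mem_filter.2 ⟨Finset.mem_univ _, by rw [hu]⟩⟩

set_option maxHeartbeats 1000000 in
/-- The dihedral case bounds `p`. -/
theorem Mid.le_bound [IsSimpleGroup G] (M : Mid Ω p x χ val ψ) (H : Hyp Ω p P)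
    (h3 : ∀ v : G, orderOf v = 2 → fx Ω v = 3) {u : G} (hu : orderOf u = 2) {r : ℕ}
    (hF : MidFacts Ω p val r u) (hd : twoExp (p - 1) = 2) : p ≤ 433 := by
  haveI : Fact (Nat.Prime 2) := ⟨Nat.prime_two⟩
  haveI : Fintype G := Fintype.ofFinite G
  haveI : Fintype Ω := Fintype.ofFinite Ω
  have hp5 := H.five_le
  have hr := hF.r_pos
  have hp8 : p % 8 = 5 := by
    by_contra h
    have := hF.four_dvd
    have := (le_twoExp_iff (a := p - 1) (k := 3) (by omega)).2 (by norm_num; omega)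
    omega
  obtain ⟨S, α, β, γ, huS, hSC, hset, hαβ, hαγ, hβγ, hSα, hle, hdvd, hfix⟩ := H.triangle h3 hu
  have hS : Nat.card (S : Subgroup G) = 8 := by
    rw [S.card_eq_multiplicity, show (Nat.card G).factorization 2 = 3 by
      have := hF.twoExp_G; rw [hd] at this; exact this]
    norm_num
  have hS₀ : Nat.card ((S : Subgroup G) ⊓ stabilizer G β : Subgroup G) = 4 := by
    set S₀ := (S : Subgroup G) ⊓ stabilizer G β
    obtain ⟨k, hk⟩ := IsPGroup.iff_card.1 (S.isPGroup'.to_le (inf_le_left : S₀ ≤ S))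
    have h1 : k ≤ twoExp (3 * p - 3) := (le_twoExp_iff (by omega)).2 (hk ▸ hdvd)
    rw [show 3 * p - 3 = 3 * (p - 1) by omega, twoExp_mul (by omega) (by omega),
      twoExp_odd (show 3 % 2 = 1 by norm_num), zero_add, hd] at h1
    rw [hS, hk] at hle
    rw [hk]
    interval_cases k <;> simp_all
  have hT3 : ({α, β, γ} : Set Ω).ncard = 3 := by rw [← hset, ← Nat.card_coe_set_eq]; exact h3 u hu
  have hCm : ∀ c ∈ Subgroup.centralizer ({u} : Set G), c * u = u * c := fun c hc =>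
    Subgroup.mem_centralizer_singleton_iff.1 hc
  have hTu : ∀ s ∈ Subgroup.centralizer ({u} : Set G), ∀ b ∈ ({α, β, γ} : Set Ω),
      s • b ∈ ({α, β, γ} : Set Ω) := by
    intro s hs b hb
    rw [← hset] at hb ⊢
    rw [mem_fixedBy, smul_smul, ← hCm s hs, mul_smul, (hb : u • b = b)]
  obtain ⟨t, htS, ht, htβ, htc⟩ := H.outer_involution h3 hp8 hS hSα hS₀ hfix hT3
    (fun s hs => hTu s (hSC hs)) hαβ hαγ
  obtain ⟨σ, hσS, hσo, hσ2, hrel, hσt, hgen, hiso⟩ := exists_dihedral_gens (S : Subgroup G) hS hu huS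
    (fun s hs => hCm s (hSC hs)) ht htS htc
  have ht2 : t * t = 1 := invol_mul_self ht
  have hst : (σ * t) * (σ * t) = 1 := by
    calc σ * t * (σ * t) = σ * (t * σ * t⁻¹) * (t * t) := by group
      _ = 1 := by rw [hrel, ht2, mul_one, mul_inv_cancel]
  have hstne : σ * t ≠ 1 := fun h => by
    rw [mul_eq_one_iff_eq_inv, invol_inv ht] at h
    rw [h, ht] at hσo; omega
  have hsto : orderOf (σ * t) = 2 := orderOf_eq_prime (by rw [sq, hst]) hstne
  have htu : t ≠ u := fun h => by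
    obtain ⟨s, hs, hne⟩ := htc
    exact hne (h ▸ hCm s (hSC hs))
  -- the order formula
  obtain ⟨M2, hM2⟩ := BlockB.exists_isPModular Nat.prime_two
  have hχB : χ ∈ principalBlock M2 G :=
    (BlockB.mem_principalBlock_iff_regTotal hM2 χ).2 (M.regTotal_ne_zero hu hF)
  have hdeg : charDegree (χ : G → ℂ) = 2 * p - 1 := by
    have h : (charDegree (χ : G → ℂ) : ℂ) = ((2 * p - 1 : ℕ) : ℂ) := by
      rw [BlockB.irr_degree_cast, M.row.val_eq, M.row.val_one, Int.cast_natCast]
    exact_mod_cast h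
  obtain ⟨-, hform⟩ := Cfsg.Agent.S4482.result M2 hM2 3 le_rfl S σ t hσS htS (by rw [hσo]; norm_num) ht
    hrel hgen ⟨by norm_num; rw [hσ2]; exact isConj_iff.1 (H.conj_of_two hu ht),
      by norm_num; rw [hσ2]; exact isConj_iff.1 (H.conj_of_two hu hsto)⟩ χ hχB M.row.ne_one 1 (Or.inl rfl)
    (fun l hl hl' => by
      rw [M.row.val_eq, hF.val_even _ ?_]
      rw [orderOf_pow, hσo]
      norm_num at hl'
      interval_cases l <;> norm_num)
  rw [hdeg, hF.card_G, show σ ^ 2 ^ (3 - 2) = u by norm_num; exact hσ2, hF.card_C] at hform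
  set V₁ := Nat.card (Subgroup.centralizer ({u, t} : Set G)) with hV₁
  set V₂ := Nat.card (Subgroup.centralizer ({u, σ * t} : Set G)) with hV₂
  have hV₁p : 0 < V₁ := Nat.card_pos
  have hV₂p : 0 < V₂ := Nat.card_pos
  have hW : (4 * (r : ℚ)) * ((V₁ : ℚ) + V₂) ^ 2 = (V₁ : ℚ) ^ 2 * (V₂ : ℚ) ^ 2 := by
    push_cast [Nat.cast_sub (show 1 ≤ 2 * p by omega), Nat.cast_sub (show 1 ≤ 2 * p - 1 by omega)] at hform
    have h1 : (V₁ : ℚ) ≠ 0 := Nat.cast_ne_zero.2 (by omega)
    have h2 : (V₂ : ℚ) ≠ 0 := Nat.cast_ne_zero.2 (by omega)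
    have hp' : (5 : ℚ) ≤ p := by exact_mod_cast hp5
    have hr' : (0 : ℚ) < r := by exact_mod_cast hr
    have hne : (p : ℚ) * (2 * p - 1) * (2 * p - 1 - 1) ^ 3 * r ^ 2 ≠ 0 := by
      have : (0 : ℚ) < 2 * p - 1 - 1 := by linarith
      have : (0 : ℚ) < 2 * p - 1 := by linarith
      positivity
    have hq : ((V₁ : ℚ) ^ 2 * (V₂ : ℚ) ^ 2) * ((1 / (V₁ : ℚ) + 1 / V₂) ^ 2) = ((V₁ : ℚ) + V₂) ^ 2 := by
      field_simp; ring
    refine mul_left_cancel₀ hne ?_
    linear_combination -((V₁ : ℚ) ^ 2 * (V₂ : ℚ) ^ 2) * hform -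
      (4 * (p : ℚ) * (2 * p - 1) * (2 * p - 1 - 1) ^ 3 * r ^ 3) * hq
  -- the better class
  obtain ⟨τ, hτ, hτS, hτσ, hτne, hV⟩ : ∃ τ : G, orderOf τ = 2 ∧ τ ∈ (S : Subgroup G) ∧
      σ * τ * σ⁻¹ = τ * u ∧ τ ≠ u ∧
      Nat.card (Subgroup.centralizer ({u, τ} : Set G)) ^ 2 ≤ 16 * r := by
    have hW' : 4 * r * (V₁ + V₂) ^ 2 = V₁ ^ 2 * V₂ ^ 2 := by exact_mod_cast hW
    rcases le_total V₁ V₂ with hle' | hle'
    · refine ⟨t, ht, htS, hσt, htu, Nat.le_of_mul_le_mul_right ?_ (pow_pos hV₂p 2)⟩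
      rw [← hV₁, ← hW']
      calc 4 * r * (V₁ + V₂) ^ 2 ≤ 4 * r * (2 * V₂) ^ 2 :=
            Nat.mul_le_mul_left _ (Nat.pow_le_pow_left (by omega) 2)
        _ = _ := by ring
    · refine ⟨σ * t, hsto, (S : Subgroup G).mul_mem hσS htS, ?_, ?_,
        Nat.le_of_mul_le_mul_right ?_ (pow_pos hV₁p 2)⟩
      · calc σ * (σ * t) * σ⁻¹ = σ * (σ * t * σ⁻¹) := by group
          _ = σ * t * u := by rw [hσt, mul_assoc]
      · intro h
        rw [← hσ2, sq, mul_left_cancel_iff] at h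
        rw [← h, ht] at hσo; omega
      · rw [← hV₂, mul_comm, ← hW']
        calc 4 * r * (V₁ + V₂) ^ 2 ≤ 4 * r * (2 * V₁) ^ 2 :=
              Nat.mul_le_mul_left _ (Nat.pow_le_pow_left (by omega) 2)
          _ = _ := by ring
  set V := Nat.card (Subgroup.centralizer ({u, τ} : Set G))
  -- the centraliser in the point stabiliser
  set C := Subgroup.centralizer ({u} : Set G) with hC
  set CH := C ⊓ stabilizer G α with hCH
  have hSCH : (S : Subgroup G) ≤ CH := fun s hs => ⟨hSC hs, hSα s hs⟩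
  obtain ⟨N, hNn, hNo, k, hNi⟩ := Cfsg.Agent.S0514.result S 4 (by norm_num) hiso u hu
  have hk : k = 3 := by
    have h := N.card_mul_index
    rw [hNi] at h
    have h' := congrArg twoExp h
    rw [twoExp_mul Nat.card_pos.ne' (by positivity), twoExp_odd (Nat.odd_iff.1 hNo)] at h'
    have hv := H.factorization_centralizer hu
    change twoExp (Nat.card C) = twoExp (Nat.card G) at hv
    rw [hF.twoExp_G, hd] at hv
    rw [hv, twoExp, Nat.prime_two.factorization_pow, Finsupp.single_eq_same, zero_add] at h'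
    exact h'
  subst hk
  haveI := hNn
  set N' := N.comap (Subgroup.inclusion (inf_le_left : CH ≤ C)) with hN'
  have hN'o : Odd (Nat.card N') := hNo.of_dvd_nat
    (Subgroup.card_comap_dvd_of_injective N _ (Subgroup.inclusion_injective _))
  have hN'i : N'.index = 8 := by
    refine Nat.dvd_antisymm ?_ ?_
    · rw [hN', Subgroup.index_comap, show (8 : ℕ) = N.index by rw [hNi]; norm_num]
      exact Subgroup.relIndex_dvd_index_of_normal N _
    · have h8 : 8 ∣ Nat.card CH := hS ▸ Subgroup.card_dvd_of_le hSCH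
      rw [← N'.card_mul_index, mul_comm] at h8
      refine Nat.Coprime.dvd_of_dvd_mul_right ?_ h8
      rw [show (8 : ℕ) = 2 ^ 3 by norm_num]
      exact Nat.Coprime.pow_left _ (Nat.prime_two.coprime_iff_not_dvd.2
        fun h => Nat.not_even_iff_odd.2 hN'o (even_iff_two_dvd.2 h))
  have hu' : orderOf (⟨u, hSCH huS⟩ : CH) = 2 := by rw [Subgroup.orderOf_mk, hu]
  set τ' : CH := ⟨τ, hSCH hτS⟩ with hτ'
  have hpairs := sq_le_two_mul_pairs N' hN'o hN'i (u := ⟨u, hSCH huS⟩) (τ := τ') (σ := ⟨σ, hSCH hσS⟩) hu'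
    (fun c => Subtype.ext (hCm _ c.2.1)) (by rw [hτ', Subgroup.orderOf_mk, hτ])
    (fun h => hτne (congrArg Subtype.val h)) (Subtype.ext hτσ)
  set n := Nat.card {v : CH // IsConj τ' v} with hn
  have hC3 : Nat.card C ≤ 3 * Nat.card CH := by
    have hsub : stabilizer C α = CH.subgroupOf C := by
      ext c
      simp [hCH, Subgroup.mem_subgroupOf, Subgroup.smul_def]
    rw [← (stabilizer C α).card_mul_index, index_stabilizer, mul_comm,
      show Nat.card (stabilizer C α) = Nat.card CH by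
        rw [hsub]; exact Nat.card_congr (Subgroup.subgroupOfEquivOfLe inf_le_left).toEquiv]
    refine Nat.mul_le_mul_right _ (le_of_le_of_eq (Set.ncard_le_ncard ?_ (Set.toFinite _)) hT3)
    rintro _ ⟨c, rfl⟩
    exact hTu _ c.2 α (by simp)
  have hclass : Nat.card CH ≤ n * V := by
    haveI : Fintype CH := Fintype.ofFinite CH
    rw [← Char.natCard_carrier_mul_centralizer τ']
    refine Nat.mul_le_mul (le_of_eq (Nat.card_congr (Equiv.setCongr (t := {v | IsConj τ' v})
      (Set.ext fun v => ?_)))) ?_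
    · rw [ConjClasses.mem_carrier_iff_mk_eq, ConjClasses.mk_eq_mk_iff_isConj]
      exact ⟨fun h => h.symm, fun h => h.symm⟩
    · refine Nat.card_le_card_of_injective
        (fun c => (⟨((c : CH) : G), ?_⟩ : Subgroup.centralizer ({u, τ} : Set G)))
        fun a b h => Subtype.ext (Subtype.ext (congrArg
          (fun z : Subgroup.centralizer ({u, τ} : Set G) => (z : G)) h))
      rw [Subgroup.mem_centralizer_iff]
      rintro z (rfl | rfl)
      · exact (hCm _ (c : CH).2.1).symm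
      · exact (congrArg Subtype.val (Subgroup.mem_centralizer_singleton_iff.1 c.2)).symm
  have hn144 : r * (2 * p - 1 - 1) ^ 2 ≤ 144 * n ^ 2 := by
    have h1 : r * (2 * p - 1 - 1) ≤ 3 * n * V := by
      rw [← hF.card_C, mul_assoc]
      exact hC3.trans (Nat.mul_le_mul_left _ hclass)
    have h2 := Nat.pow_le_pow_left h1 2
    refine Nat.le_of_mul_le_mul_left ?_ hr
    calc r * (r * (2 * p - 1 - 1) ^ 2) = (r * (2 * p - 1 - 1)) ^ 2 := by ring
      _ ≤ (3 * n * V) ^ 2 := h2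
      _ = 9 * n ^ 2 * V ^ 2 := by ring
      _ ≤ 9 * n ^ 2 * (16 * r) := Nat.mul_le_mul_left _ hV
      _ = _ := by ring
  -- pairs fixing the point
  set Hs := stabilizer G α with hHs
  set uH : Hs := ⟨u, hSα u huS⟩ with huH
  set U := {z : Hs // IsConj uH z} with hU
  set Pr := {vw : CH × CH // IsConj τ' vw.1 ∧ IsConj τ' vw.2 ∧
    (⟨u, hSCH huS⟩ : CH) ∈ Subgroup.zpowers (vw.1 * vw.2)} with hPr
  choose h hh using fun z : U => isConj_iff.1 z.2
  have hinvol : ∀ v : CH, IsConj τ' v → orderOf ((v : G)) = 2 := fun v hv => by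
    obtain ⟨c, hc⟩ := isConj_iff.1 hv
    rw [← hc, Subgroup.coe_mul, Subgroup.coe_mul, Subgroup.coe_inv]
    exact invol_conj hτ _
  have hmap : ∀ (z : U) (v : CH), IsConj τ' v →
      orderOf ((h z : G) * v * (h z : G)⁻¹) = 2 ∧ ((h z : G) * v * (h z : G)⁻¹) • α = α := fun z v hv => by
    refine ⟨invol_conj (hinvol v hv) _, ?_⟩
    exact mem_stabilizer_iff.1 (Hs.mul_mem (Hs.mul_mem (h z).2 v.2.2) (Hs.inv_mem (h z).2))
  have hinj : Nat.card U * Nat.card Pr ≤ swc G α α * swc G α α := by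
    rw [← Nat.card_prod, swc, ← Nat.card_prod]
    refine Nat.card_le_card_of_injective (fun zp => ((⟨_, hmap zp.1 _ zp.2.2.1⟩ :
      {v : G // orderOf v = 2 ∧ v • α = α}), (⟨_, hmap zp.1 _ zp.2.2.2.1⟩ :
      {v : G // orderOf v = 2 ∧ v • α = α}))) ?_
    rintro ⟨z, ⟨⟨v, w⟩, hv, hw, hzp⟩⟩ ⟨z', ⟨⟨v', w'⟩, hv', hw', hzp'⟩⟩ he
    simp only [Prod.mk.injEq, Subtype.mk.injEq] at he
    obtain ⟨he1, he2⟩ := he
    have hu0 : ∀ (z : U) (v w : CH), (⟨u, hSCH huS⟩ : CH) ∈ Subgroup.zpowers (v * w) →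
        (z.1 : G) ∈ Subgroup.zpowers (((h z : G) * v * (h z : G)⁻¹) * ((h z : G) * w * (h z : G)⁻¹)) := by
      intro z v w hzp
      obtain ⟨i, hi⟩ := Subgroup.mem_zpowers_iff.1 hzp
      refine Subgroup.mem_zpowers_iff.2 ⟨i, ?_⟩
      rw [show (h z : G) * v * (h z : G)⁻¹ * ((h z : G) * w * (h z : G)⁻¹) =
        (h z : G) * ((v : G) * w) * (h z : G)⁻¹ by group, conj_zpow,
        show ((v : G) * w) ^ i = u from (by simpa using congrArg Subtype.val hi)]
      exact congrArg Subtype.val (hh z)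
    have hzo : ∀ z : U, orderOf (z.1 : G) = 2 := fun z => by
      rw [← hh z, Subgroup.coe_mul, Subgroup.coe_mul, Subgroup.coe_inv]
      exact invol_conj hu _
    have hzz : z = z' := by
      have a := hu0 z v w hzp
      have b := hu0 z' v' w' hzp'
      rw [← he1, ← he2] at b
      exact Subtype.ext (Subtype.ext (invol_unique_zpowers a b (hzo z) (hzo z')))
    subst hzz
    rw [mul_left_inj, mul_right_inj] at he1 he2
    obtain rfl := Subtype.ext he1
    obtain rfl := Subtype.ext he2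
    rfl
  have hUc : Nat.card Hs ≤ Nat.card U * Nat.card C := by
    haveI : Fintype Hs := Fintype.ofFinite Hs
    rw [← Char.natCard_carrier_mul_centralizer uH]
    refine Nat.mul_le_mul (le_of_eq (Nat.card_congr (Equiv.setCongr (t := {z | IsConj uH z})
      (Set.ext fun z => ?_)))) ?_
    · rw [ConjClasses.mem_carrier_iff_mk_eq, ConjClasses.mk_eq_mk_iff_isConj]
      exact ⟨fun h => h.symm, fun h => h.symm⟩
    · refine Nat.card_le_card_of_injective (fun c => (⟨((c : Hs) : G), ?_⟩ : C))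
        fun a b h => Subtype.ext (Subtype.ext (congrArg (fun z : C => (z : G)) h))
      exact Subgroup.mem_centralizer_singleton_iff.2
        (congrArg Subtype.val (Subgroup.mem_centralizer_singleton_iff.1 c.2))
  obtain ⟨A, hA, -⟩ := M.exists_sub H α
  obtain ⟨β₁, hb1⟩ := hA.ne
  obtain ⟨β₂, hb2, hb2'⟩ := hA.ne'
  obtain ⟨hc0, -, -, -, -⟩ := hA.equations M H h3 hu hF hb1 hb2 hb2'
  have hc0' : swc G α α = (2 * p - 1) * r := by
    zify [show 1 ≤ 2 * p by omega]
    linarith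
  have hHs3 : 3 * p * Nat.card Hs = Nat.card G := by
    rw [← H.card_Ω, ← index_stabilizer_of_transitive G α, mul_comm]
    exact Subgroup.card_mul_index _
  rw [hF.card_G] at hHs3
  rw [hF.card_C] at hUc
  rw [hc0'] at hinj
  set g := 2 * p - 1 - 1 with hg
  set f := 2 * p - 1 with hf
  have hU3 : f * r ≤ 3 * Nat.card U := by
    refine Nat.le_of_mul_le_mul_right (c := p * (r * g)) ?_
      (Nat.mul_pos (show 0 < p by omega) (Nat.mul_pos hr (show 0 < g by omega)))
    calc f * r * (p * (r * g)) = 3 * p * Nat.card Hs := by rw [hHs3]; ring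
      _ ≤ 3 * p * (Nat.card U * (r * g)) := Nat.mul_le_mul_left _ hUc
      _ = _ := by ring
  have hfin : g ^ 2 ≤ 864 * f := by
    have hn2 : r * g ^ 2 ≤ 288 * Nat.card Pr := by
      calc r * g ^ 2 ≤ 144 * n ^ 2 := hn144
        _ ≤ 144 * (2 * Nat.card Pr) := Nat.mul_le_mul_left _ hpairs
        _ = _ := by ring
    refine Nat.le_of_mul_le_mul_left (?_ : f * r * r * g ^ 2 ≤ f * r * r * (864 * f))
      (Nat.mul_pos (Nat.mul_pos (show 0 < f by omega) hr) hr)
    calc f * r * r * g ^ 2 = f * r * (r * g ^ 2) := by ring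
      _ ≤ 3 * Nat.card U * (288 * Nat.card Pr) := Nat.mul_le_mul hU3 hn2
      _ = 864 * (Nat.card U * Nat.card Pr) := by ring
      _ ≤ 864 * (f * r * (f * r)) := Nat.mul_le_mul_left _ hinj
      _ = _ := by ring
  by_contra hcon
  have h434 : 864 * f < g ^ 2 := by
    obtain ⟨q, hq⟩ : ∃ q, p = 434 + q := ⟨p - 434, by omega⟩
    rw [show f = 867 + 2 * q by omega, show g = 866 + 2 * q by omega]
    ring_nf
    omega
  omega

end CfsgLib.Perm.ThreeP
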