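import Mathlib.GroupTheory.Sylow
import Mathlib.GroupTheory.SpecificGroups.Cyclic
import Mathlib.GroupTheory.Subgroup.Centralizer
import Mathlib.GroupTheory.GroupAction.Quotient
import Mathlib.Tactic.NormNum.Prime

/-!
Two endgames: a prime acting as a cycle with two fixed points.
-/

set_option autoImplicit false
set_option linter.style.haveILetI false
set_option linter.unusedSectionVars false

namespace CfsgLib.Perm.ThreeP

open MulAction

variable {G Ω : Type*} [Group G] [Finite G] [MulAction G Ω] [FaithfulSMul G Ω] [Finite Ω]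

/-- A self-centralising Sylow subgroup of prime order `q` on `q + 2` points: the Sylow count. -/
theorem sylow_count_of_cycle {q M : ℕ} (hq : q.Prime) (hq5 : 5 ≤ q) (hΩ : Nat.card Ω = q + 2)
    (hG : Nat.card G = q * M) (hqM : ¬ q ∣ M)
    (hinv : ∀ v : G, orderOf v = 2 → Nat.card (fixedBy Ω v) ≠ q) :
    ∃ d, d ∣ q - 1 ∧ d ∣ M ∧ M % q = d % q := by
  classical
  haveI := Fact.mk hq
  obtain ⟨y, hy⟩ := exists_prime_orderOf_dvd_card' (G := G) q (hG ▸ dvd_mul_right q M)
  set Y := Subgroup.zpowers y with hY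
  have hYc : Nat.card Y = q := by rw [hY, Nat.card_zpowers, hy]
  have hYp : IsPGroup q Y := IsPGroup.of_card (n := 1) (by rw [hYc, pow_one])
  -- the fixed points
  have hy1 : y ≠ 1 := fun h => by rw [h, orderOf_one] at hy; exact hq.ne_one hy.symm
  obtain ⟨z, hz⟩ : ∃ z : Ω, y • z ≠ z := by
    by_contra h
    push Not at h
    exact hy1 (FaithfulSMul.eq_of_smul_eq_smul (α := Ω) fun x => by rw [h, one_smul])
  have horb : (orbit Y z).ncard = q := by
    have h1 : (orbit Y z).ncard ∣ q := by
      rw [← index_stabilizer, ← hYc]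
      exact Subgroup.index_dvd_card _
    rcases (Nat.dvd_prime hq).1 h1 with h | h
    · exfalso
      obtain ⟨w, hw⟩ := Set.ncard_eq_one.1 h
      have hz' : z ∈ orbit Y z := mem_orbit_self z
      have hyz : y • z ∈ orbit Y z := ⟨⟨y, Subgroup.mem_zpowers y⟩, rfl⟩
      rw [hw, Set.mem_singleton_iff] at hz' hyz
      exact hz (hyz.trans hz'.symm)
    · exact h
  set F := fixedPoints Y Ω with hF
  have hdisj : Disjoint (orbit Y z) F := Set.disjoint_left.2 fun w hw hwF => by
    have : orbit Y w = orbit Y z := orbit_eq_iff.2 hw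
    have h1 : (orbit Y w).ncard = 1 := by
      have e : orbit Y w = {w} := Set.eq_singleton_iff_unique_mem.2
        ⟨mem_orbit_self w, fun v hv => by obtain ⟨x, rfl⟩ := hv; exact hwF x⟩
      rw [e, Set.ncard_singleton]
    rw [this, horb] at h1
    exact hq.ne_one h1
  have hF2 : F.ncard = 2 := by
    have h := hYp.card_modEq_card_fixedPoints Ω
    rw [hΩ, Nat.ModEq, Nat.add_mod_left, Nat.mod_eq_of_lt (by omega : 2 < q),
      Nat.card_coe_set_eq] at h
    have hle : (orbit Y z).ncard + F.ncard ≤ q + 2 := by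
      rw [← Set.ncard_union_eq hdisj, ← hΩ, ← Set.ncard_univ]
      exact Set.ncard_le_ncard (Set.subset_univ _)
    rw [horb] at hle
    rw [Nat.mod_eq_of_lt (by omega : F.ncard < q)] at h
    exact h.symm
  have hunion : orbit Y z ∪ F = Set.univ := by
    refine Set.eq_of_subset_of_ncard_le (Set.subset_univ _) ?_
    rw [Set.ncard_union_eq hdisj, Set.ncard_univ, hΩ, horb, hF2]
  obtain ⟨a, b, hab, hFab⟩ := Set.ncard_eq_two.1 hF2
  -- the centraliser
  have hcent : Subgroup.centralizer (Y : Set G) ≤ Y := by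
    intro g hg
    have hgF : ∀ w ∈ F, g • w ∈ F := fun w hw k => by
      show (k : G) • g • w = g • w
      rw [← mul_smul, Subgroup.mem_centralizer_iff.1 hg k k.2, mul_smul]
      exact congrArg (g • ·) (hw k)
    have hgz : g • z ∈ orbit Y z := by
      have : g • z ∈ orbit Y z ∪ F := hunion ▸ Set.mem_univ _
      refine this.resolve_right fun h => Set.disjoint_left.1 hdisj (mem_orbit_self z) ?_
      intro k
      have h1 := h k
      change (k : G) • g • z = g • z at h1
      rw [← mul_smul, Subgroup.mem_centralizer_iff.1 hg k k.2, mul_smul] at h1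
      exact smul_left_cancel g h1
    obtain ⟨⟨k, hk⟩, hkz⟩ := hgz
    set h := k⁻¹ * g with hh
    have hhc : h ∈ Subgroup.centralizer (Y : Set G) := by
      refine mul_mem (inv_mem (Subgroup.mem_centralizer_iff.2 fun x hx => ?_)) hg
      obtain ⟨i, rfl⟩ := Subgroup.mem_zpowers_iff.1 hx
      obtain ⟨j, rfl⟩ := Subgroup.mem_zpowers_iff.1 hk
      exact zpow_mul_comm y i j
    have hhz : ∀ w ∈ orbit Y z, h • w = w := by
      rintro _ ⟨x, rfl⟩
      show h • (x : G) • z = (x : G) • z
      rw [← mul_smul, ← Subgroup.mem_centralizer_iff.1 hhc x x.2, mul_smul, hh, mul_smul]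
      rw [← (show k • z = g • z from hkz), inv_smul_smul]
    have hhF : h • a ∈ ({a, b} : Set Ω) ∧ h • b ∈ ({a, b} : Set Ω) := by
      have hkF : ∀ w ∈ F, k⁻¹ • g • w ∈ F := fun w hw =>
        (show ((⟨k, hk⟩ : Y)⁻¹ : Y) • g • w = g • w from hgF w hw _).symm ▸ hgF w hw
      rw [← hFab, hh, mul_smul, mul_smul]
      exact ⟨hkF a (by rw [hFab]; exact Set.mem_insert _ _),
        hkF b (by rw [hFab]; exact Set.mem_insert_of_mem _ rfl)⟩
    have hall : ∀ w, w = a ∨ w = b ∨ w ∈ orbit Y z := fun w => by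
      have h0 : w ∈ orbit Y z ∪ F := hunion ▸ Set.mem_univ _
      rw [hFab] at h0
      rcases h0 with h0 | h0 | h0
      exacts [Or.inr (Or.inr h0), Or.inl h0, Or.inr (Or.inl h0)]
    by_contra hgY
    have hh1 : h ≠ 1 := fun e => hgY (inv_mul_eq_one.1 e ▸ hk)
    have hb' : h • a = b ∧ h • b = a := by
      have hne' : h • a ≠ h • b := fun e => hab (MulAction.injective h e)
      rcases hhF.1 with e1 | e1 <;> rcases hhF.2 with e2 | e2
      · exact absurd (e1.trans e2.symm) hne'
      · refine absurd ?_ hh1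
        refine FaithfulSMul.eq_of_smul_eq_smul (α := Ω) fun w => ?_
        rw [one_smul]
        rcases hall w with rfl | rfl | h0
        exacts [e1, e2, hhz w h0]
      · exact ⟨e1, e2⟩
      · exact absurd (e1.trans e2.symm) hne'
    have h2 : orderOf h = 2 := by
      refine orderOf_eq_prime ?_ hh1
      refine FaithfulSMul.eq_of_smul_eq_smul (α := Ω) fun w => ?_
      rw [pow_two, mul_smul, one_smul]
      rcases hall w with rfl | rfl | h0
      · rw [hb'.1, hb'.2]
      · rw [hb'.2, hb'.1]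
      · rw [hhz w h0, hhz w h0]
    refine hinv h h2 ?_
    rw [show fixedBy Ω h = orbit Y z from Set.ext fun w => ⟨fun hw => ?_, hhz w⟩,
      Nat.card_coe_set_eq, horb]
    rcases hall w with rfl | rfl | h0
    · exact absurd ((show h • w = w from hw).symm.trans hb'.1) hab
    · exact absurd (hb'.2.symm.trans (show h • w = w from hw)) hab
    · exact h0
  -- the count
  obtain ⟨P, hP⟩ := hYp.exists_le_sylow
  have hPY : (P : Subgroup G) = Y := by
    refine (Subgroup.eq_of_le_of_card_ge hP ?_).symm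
    rw [P.card_eq_multiplicity, hYc, hG, Nat.factorization_mul hq.ne_zero (by
      rintro rfl; exact hqM (dvd_zero q)), Finsupp.add_apply, hq.factorization_self,
      Nat.factorization_eq_zero_of_not_dvd hqM, pow_one]
  set N := Subgroup.normalizer (Y : Set G) with hN
  haveI : IsCyclic Y := isCyclic_of_prime_card (p := q) hYc
  set φ := Y.normalizerMonoidHom with hφ
  have hker : Nat.card φ.ker = q := by
    have hle : Y ≤ Subgroup.centralizer (Y : Set G) := fun x hx =>
      Subgroup.mem_centralizer_iff.2 fun w hw => by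
        obtain ⟨i, rfl⟩ := Subgroup.mem_zpowers_iff.1 hw
        obtain ⟨j, rfl⟩ := Subgroup.mem_zpowers_iff.1 hx
        exact zpow_mul_comm y i j
    rw [hφ, Subgroup.normalizerMonoidHom_ker, le_antisymm hcent hle,
      Nat.card_congr (Subgroup.subgroupOfEquivOfLe Subgroup.le_normalizer).toEquiv, hYc]
  have hd : φ.ker.index ∣ q - 1 := by
    rw [Subgroup.index_ker]
    have h := Subgroup.card_subgroup_dvd_card φ.range
    rwa [IsCyclic.card_mulAut, hYc, Nat.totient_prime hq] at h
  have hNc : Nat.card N = q * φ.ker.index := by rw [← φ.ker.card_mul_index, hker]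
  have hM : φ.ker.index * N.index = M := by
    refine Nat.eq_of_mul_eq_mul_left hq.pos ?_
    rw [← mul_assoc, ← hNc, Subgroup.card_mul_index, hG]
  have hn : N.index % q = 1 := by
    have h := card_sylow_modEq_one q G
    rw [P.card_eq_index_normalizer, Nat.ModEq, Nat.one_mod_eq_one.2 hq.ne_one] at h
    rwa [show (P : Set G) = (Y : Set G) from congrArg SetLike.coe hPY] at h
  refine ⟨φ.ker.index, hd, hM ▸ dvd_mul_right _ _, ?_⟩
  rw [← hM, Nat.mul_mod, hn, mul_one, Nat.mod_mod]

theorem false_of_thirty_three (hΩ : Nat.card Ω = 33) {r : ℕ} (hr : r = 21 ∨ r = 45)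
    (hG : Nat.card G = 11 * 32 * 31 * r ^ 2)
    (hinv : ∀ v : G, orderOf v = 2 → Nat.card (MulAction.fixedBy Ω v) = 1) : False := by
  obtain ⟨d, hd, hdM, hmod⟩ := sylow_count_of_cycle (G := G) (Ω := Ω) (q := 31)
    (M := 11 * 32 * r ^ 2) (by norm_num) (by norm_num) hΩ (by rw [hG]; ring)
    (by rcases hr with rfl | rfl <;> norm_num) fun v hv => by rw [hinv v hv]; norm_num
  have hd30 : d ≤ 30 := Nat.le_of_dvd (by norm_num) hd
  rcases hr with rfl | rfl <;> interval_cases d <;> revert hd hdM hmod <;> norm_num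

theorem false_of_fifteen (hΩ : Nat.card Ω = 15) {e : ℕ} (hG : Nat.card G = 3640 * 9 ^ e)
    (hinv : ∀ v : G, orderOf v = 2 → Nat.card (MulAction.fixedBy Ω v) = 3) : False := by
  have h9 : ∀ e : ℕ, 9 ^ e % 13 = 1 ∨ 9 ^ e % 13 = 9 ∨ 9 ^ e % 13 = 3 := by
    intro e
    induction e with
    | zero => simp
    | succ n ih => rw [pow_succ, Nat.mul_mod]; rcases ih with h | h | h <;> rw [h] <;> norm_num
  have hM : (280 * 9 ^ e) % 13 = 7 ∨ (280 * 9 ^ e) % 13 = 11 ∨ (280 * 9 ^ e) % 13 = 8 := by
    rw [Nat.mul_mod]; rcases h9 e with h | h | h <;> rw [h] <;> norm_num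
  obtain ⟨d, hd, -, hmod⟩ := sylow_count_of_cycle (G := G) (Ω := Ω) (q := 13)
    (M := 280 * 9 ^ e) (by norm_num) (by norm_num) hΩ (by rw [hG]; ring)
    (fun h => by rcases hM with h' | h' | h' <;> omega) fun v hv => by rw [hinv v hv]; norm_num
  have hd12 : d ≤ 12 := Nat.le_of_dvd (by norm_num) hd
  interval_cases d <;> omega

end CfsgLib.Perm.ThreeP
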