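import Mathlib.GroupTheory.GroupAction.MultipleTransitivity
import Mathlib.GroupTheory.GroupAction.Quotient
import Mathlib.GroupTheory.Perm.Cycle.Type
import Mathlib.GroupTheory.PGroup
import Mathlib.Tactic.NormNum.Prime

/-!
No transitive but not doubly transitive group of degree 15 has an element of order seven with one
fixed point and even order.
-/

set_option autoImplicit false
set_option linter.style.haveILetI false
set_option linter.unusedSectionVars false

namespace CfsgLib.Perm.ThreeP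

open MulAction

theorem false_of_seven {G Ω : Type*} [Group G] [Finite G] [MulAction G Ω] [FaithfulSMul G Ω]
    [Finite Ω] [MulAction.IsPretransitive G Ω] (hΩ : Nat.card Ω = 15)
    (hn2 : ¬ MulAction.IsMultiplyPretransitive G Ω 2) (h7 : 7 ∣ Nat.card G)
    (hy : ∀ y : G, orderOf y = 7 → Nat.card (MulAction.fixedBy Ω y) = 1)
    (h2 : ∃ v : G, orderOf v = 2) : False := by
  classical
  haveI : Fact (Nat.Prime 7) := ⟨by norm_num⟩
  obtain ⟨y, hy7⟩ := exists_prime_orderOf_dvd_card' (G := G) 7 h7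
  obtain ⟨⟨hsub⟩, ⟨⟨a, ha⟩⟩⟩ := Nat.card_eq_one_iff_unique.1 (hy y hy7)
  replace ha : y • a = a := ha
  set H := stabilizer G a with hH
  have hY : ∀ c : Ω, c ≠ a → (orbit (Subgroup.zpowers y) c).ncard = 7 := by
    intro c hc
    have h1 : (orbit (Subgroup.zpowers y) c).ncard ∣ 7 := by
      rw [← index_stabilizer]
      refine (Subgroup.index_dvd_card _).trans ?_
      rw [Nat.card_zpowers, hy7]
    rcases (Nat.dvd_prime (by norm_num)).1 h1 with h | h
    · exfalso
      obtain ⟨w, hw⟩ := Set.ncard_eq_one.1 h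
      have hc' : c ∈ orbit (Subgroup.zpowers y) c := mem_orbit_self c
      have hyc : y • c ∈ orbit (Subgroup.zpowers y) c := ⟨⟨y, Subgroup.mem_zpowers y⟩, rfl⟩
      rw [hw, Set.mem_singleton_iff] at hc' hyc
      exact hc (congrArg Subtype.val (hsub ⟨c, hyc.trans hc'.symm⟩ ⟨a, ha⟩))
    · exact h
  have hYH : ∀ c : Ω, orbit (Subgroup.zpowers y) c ⊆ orbit H c := by
    rintro c _ ⟨⟨g, hg⟩, rfl⟩
    exact ⟨⟨g, Subgroup.zpowers_le.2 (mem_stabilizer_iff.2 ha) hg⟩, rfl⟩
  have hnota : ∀ c : Ω, c ≠ a → orbit H c ⊆ {a}ᶜ := by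
    intro c hc w hw hwa
    obtain ⟨g, rfl⟩ := hw
    rw [Set.mem_singleton_iff] at hwa
    refine hc (MulAction.injective (g : G) ?_)
    show (g : G) • c = (g : G) • a
    rw [mem_stabilizer_iff.1 g.2]
    exact hwa
  have hcompl : ({a}ᶜ : Set Ω).ncard = 14 := by
    rw [Set.ncard_compl, Set.ncard_singleton, hΩ]
  -- no suborbit of length fourteen
  have hsuborb : ∀ c : Ω, c ≠ a → (orbit H c).ncard = 7 := by
    intro c hc
    by_contra hne
    have hne' : orbit (Subgroup.zpowers y) c ≠ orbit H c := fun h => hne (h ▸ hY c hc)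
    obtain ⟨d, hdH, hdY⟩ := Set.exists_of_ssubset ((hYH c).ssubset_of_ne hne')
    have hd : d ≠ a := fun h => hnota c hc hdH (Set.mem_singleton_iff.2 h)
    have hdisj : Disjoint (orbit (Subgroup.zpowers y) c) (orbit (Subgroup.zpowers y) d) := by
      rw [Set.disjoint_left]
      intro w hw1 hw2
      refine hdY ?_
      have e1 := orbit_eq_iff.2 hw1
      have e2 := orbit_eq_iff.2 hw2
      rw [← e1, e2]
      exact mem_orbit_self d
    have hsub2 : orbit (Subgroup.zpowers y) c ∪ orbit (Subgroup.zpowers y) d ⊆ orbit H c :=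
      Set.union_subset (hYH c) ((hYH d).trans (orbit_eq_iff.2 hdH).le)
    have heq : orbit H c = {a}ᶜ := by
      refine Set.eq_of_subset_of_ncard_le (hnota c hc) ?_
      rw [hcompl]
      refine le_trans (le_of_eq ?_) (Set.ncard_le_ncard hsub2)
      rw [Set.ncard_union_eq hdisj, hY c hc, hY d hd]
    have htrans : ∀ u v : Ω, u ≠ a → v ≠ a → ∃ g ∈ H, g • u = v := by
      intro u v hu hv
      obtain ⟨g, hg⟩ : u ∈ orbit H c := heq ▸ hu
      obtain ⟨k, hk⟩ : v ∈ orbit H c := heq ▸ hv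
      refine ⟨(k : G) * (g : G)⁻¹, mul_mem k.2 (inv_mem g.2), ?_⟩
      rw [mul_smul, ← show (g : G) • c = u from hg, inv_smul_smul]
      exact hk
    refine hn2 (is_two_pretransitive_iff.2 fun {x z x' z'} hxz hxz' => ?_)
    obtain ⟨g, hg⟩ := exists_smul_eq G x a
    obtain ⟨k, hk⟩ := exists_smul_eq G a x'
    obtain ⟨m, hm, hmz⟩ := htrans (g • z) (k⁻¹ • z')
      (fun h => hxz (MulAction.injective g (hg.trans h.symm)))
      (fun h => hxz' (by rw [← hk, ← inv_smul_eq_iff.1 h]))
    refine ⟨k * m * g, ?_, ?_⟩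
    · rw [mul_smul, mul_smul, hg, mem_stabilizer_iff.1 hm, hk]
    · rw [mul_smul, mul_smul, hmz, smul_inv_smul]
  -- a self-paired orbital
  obtain ⟨v, hv⟩ := h2
  have hv1 : v ≠ 1 := fun h => by rw [h, orderOf_one] at hv; norm_num at hv
  obtain ⟨c, hc⟩ : ∃ c : Ω, v • c ≠ c := by
    by_contra h
    push Not at h
    exact hv1 (FaithfulSMul.eq_of_smul_eq_smul (α := Ω) fun x => by rw [h, one_smul])
  obtain ⟨g, hg⟩ := exists_smul_eq G c a
  set u := g * v * g⁻¹ with hu
  set b := u • a with hb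
  have hba : b ≠ a := fun h => hc (by
    rw [hb, hu, mul_smul, mul_smul, ← hg, inv_smul_smul] at h
    exact MulAction.injective g h)
  have hub : u • b = a := by
    rw [hb, ← mul_smul, show u * u = g * (v * v) * g⁻¹ by rw [hu]; group, ← pow_two, ← hv,
      pow_orderOf_eq_one, mul_one, mul_inv_cancel, one_smul]
  set Δ := orbit G (a, b) with hΔ
  have hsize : Δ.ncard = 15 * 7 := by
    rw [hΔ, ← index_stabilizer, ← hΩ, ← index_stabilizer_of_transitive G a, ← hsuborb b hba,
      ← index_stabilizer (G := H)]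
    have hle : stabilizer G (a, b) ≤ H := fun x hx => congrArg Prod.fst (mem_stabilizer_iff.1 hx)
    rw [← Subgroup.relIndex_mul_index hle, mul_comm, Subgroup.relIndex]
    congr 2
    ext ⟨x, hx⟩
    simp only [Subgroup.mem_subgroupOf, mem_stabilizer_iff, Prod.smul_mk, Prod.mk.injEq]
    exact ⟨fun h => h.2, fun h => ⟨mem_stabilizer_iff.1 hx, h⟩⟩
  have hswap : ∀ x ∈ Δ, x.swap ∈ Δ := by
    rintro _ ⟨k, rfl⟩
    exact ⟨k * u, Prod.ext (show (k * u) • a = k • b by rw [mul_smul, ← hb])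
      (show (k * u) • b = k • a by rw [mul_smul, hub])⟩
  have hfree : ∀ x ∈ Δ, x.swap ≠ x := by
    rintro _ ⟨k, rfl⟩ h
    exact hba (MulAction.injective k (show k • b = k • a from congrArg Prod.fst h))
  letI := Fintype.ofFinite Δ
  let σ : Equiv.Perm Δ :=
    { toFun := fun x => ⟨x.1.swap, hswap _ x.2⟩
      invFun := fun x => ⟨x.1.swap, hswap _ x.2⟩
      left_inv := fun x => Subtype.ext (Prod.swap_swap x.1)
      right_inv := fun x => Subtype.ext (Prod.swap_swap x.1) }
  have hσ2 : σ ^ 2 ^ 1 = 1 := by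
    ext x : 1
    rw [pow_one, pow_two]
    exact Subtype.ext (Prod.swap_swap x.1)
  haveI : Fact (Nat.Prime 2) := ⟨Nat.prime_two⟩
  have hodd : ¬ 2 ∣ Fintype.card Δ := by
    rw [← Nat.card_eq_fintype_card, Nat.card_coe_set_eq, hsize]; norm_num
  obtain ⟨x, hx⟩ := Equiv.Perm.exists_fixed_point_of_prime hodd hσ2
  exact hfree x.1 x.2 (congrArg Subtype.val hx)

end CfsgLib.Perm.ThreeP
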