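import Cfsg.Agent.Lib.Block.BTInvolution
import Cfsg.Agent.Lib.Block.BTSquare
import Cfsg.Agent.Lib.Char.FS
import Cfsg.Agent.Lib.Perm.Basic

/-!
Transitive groups of degree `3p` whose Sylow `p`-normalizer has order `2p`: the basic counts.
-/

set_option autoImplicit false
set_option linter.unusedSectionVars false
set_option linter.style.haveILetI false

namespace CfsgLib.Perm.ThreeP

open MulAction CfsgLib.Block.BrauerReynolds

universe u v

variable {G : Type u} [Group G] [Finite G] {Ω : Type v} [MulAction G Ω] [Finite Ω]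

/-- The number of fixed points. -/
noncomputable abbrev fx (Ω : Type v) [MulAction G Ω] (g : G) : ℕ := Nat.card (fixedBy Ω g)

theorem fx_one : fx Ω (1 : G) = Nat.card Ω := by
  rw [fx, fixedBy_one_eq_univ, Nat.card_congr (Equiv.Set.univ Ω)]

theorem fx_conj (c g : G) : fx Ω (c * g * c⁻¹) = fx Ω g := by
  refine Nat.card_congr
    { toFun := fun a => ⟨c⁻¹ • a.1, ?_⟩
      invFun := fun a => ⟨c • a.1, ?_⟩
      left_inv := fun a => by simp
      right_inv := fun a => by simp }
  · have h : (c * g * c⁻¹) • a.1 = a.1 := a.2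
    rw [mul_smul, mul_smul] at h
    rw [mem_fixedBy]
    conv_rhs => rw [← h, inv_smul_smul]
  · have h : g • a.1 = a.1 := a.2
    simp [mem_fixedBy, mul_smul, h]

theorem fx_of_isConj {g h : G} (hgh : IsConj g h) : fx Ω h = fx Ω g := by
  obtain ⟨c, rfl⟩ := isConj_iff.1 hgh
  exact fx_conj c g

/-- A nontrivial element of a faithful action does not fix everything. -/
theorem fx_lt [FaithfulSMul G Ω] {g : G} (hg : g ≠ 1) : fx Ω g < Nat.card Ω := by
  refine lt_of_le_of_ne (Finite.card_subtype_le _) fun h => hg (eq_of_smul_eq_smul (α := Ω) fun a => ?_)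
  have hu : fixedBy Ω g = Set.univ :=
    Set.eq_of_subset_of_ncard_le (Set.subset_univ _)
      (le_of_eq (by rw [Set.ncard_univ, ← Nat.card_coe_set_eq]; exact h.symm)) (Set.toFinite _)
  rw [one_smul]
  exact (hu ▸ Set.mem_univ a : a ∈ fixedBy Ω g)

theorem sum_fx [Fintype G] [IsPretransitive G Ω] [Nonempty Ω] :
    ∑ g : G, fx Ω g = Nat.card G := by
  classical
  have := Fintype.ofFinite Ω
  have := Fintype.ofFinite (orbitRel.Quotient G Ω)
  have h := sum_card_fixedBy_eq_card_orbits_mul_card_group G Ω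
  have h1 : Fintype.card (orbitRel.Quotient G Ω) = 1 := by
    refine Fintype.card_eq_one_iff.2 ⟨⟦Classical.arbitrary Ω⟧, fun q => ?_⟩
    induction q using Quotient.ind with
    | _ a =>
      obtain ⟨g, hg⟩ := exists_smul_eq G (Classical.arbitrary Ω) a
      exact Quotient.sound ⟨g, hg⟩
  rw [h1, one_mul] at h
  rw [Nat.card_eq_fintype_card, ← h]
  exact Finset.sum_congr rfl fun g _ => Nat.card_eq_fintype_card

/-- At least one orbit on ordered triples of distinct points. -/
theorem card_le_sum_triples [Fintype G] (h3 : 3 ≤ Nat.card Ω) :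
    Nat.card G ≤ ∑ g : G, fx Ω g * (fx Ω g - 1) * (fx Ω g - 2) := by
  classical
  have := Fintype.ofFinite Ω
  have hne : Nonempty (Fin 3 ↪ Ω) := Function.Embedding.nonempty_of_card_le (by
    rw [Fintype.card_fin, ← Nat.card_eq_fintype_card]; exact h3)
  have := Fintype.ofFinite (orbitRel.Quotient G (Fin 3 ↪ Ω))
  have h := sum_card_fixedBy_eq_card_orbits_mul_card_group G (Fin 3 ↪ Ω)
  have h0 : 0 < Fintype.card (orbitRel.Quotient G (Fin 3 ↪ Ω)) :=
    Fintype.card_pos_iff.2 ⟨⟦Classical.arbitrary _⟧⟩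
  calc Nat.card G ≤ Fintype.card (orbitRel.Quotient G (Fin 3 ↪ Ω)) * Fintype.card G := by
        rw [Nat.card_eq_fintype_card]; exact Nat.le_mul_of_pos_left _ h0
    _ = _ := h.symm
    _ ≤ _ := Finset.sum_le_sum fun g _ => ?_
  have e : fx Ω g * (fx Ω g - 1) * (fx Ω g - 2) = Fintype.card (Fin 3 ↪ fixedBy Ω g) := by
    rw [Fintype.card_embedding_eq, Fintype.card_fin, fx, Nat.card_eq_fintype_card]
    simp [Nat.descFactorial]
    ring
  rw [e]
  refine Fintype.card_le_of_injective (fun f => ⟨fun i => ⟨f.1 i, ?_⟩, fun i j hij => ?_⟩) ?_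
  · have := congrArg (fun (k : Fin 3 ↪ Ω) => k i) (f.2 : g • f.1 = f.1)
    exact this
  · exact f.1.injective (congrArg Subtype.val hij)
  · intro a b hab
    apply Subtype.ext
    ext i
    exact congrArg (fun (k : Fin 3 ↪ fixedBy Ω g) => ((k i : fixedBy Ω g) : Ω)) hab

/-- The hypotheses. -/
structure Hyp (Ω : Type v) [MulAction G Ω] (p : ℕ) (P : Sylow p G) : Prop where
  five_le : 5 ≤ p
  perf : commutator G = ⊤
  card_P : Nat.card P = p
  cent : Subgroup.centralizer ((P : Subgroup G) : Set G) = (P : Subgroup G)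
  card_N : Nat.card (Subgroup.normalizer ((P : Subgroup G) : Set G)) = 2 * p
  card_Ω : Nat.card Ω = 3 * p

variable {p : ℕ} [hpf : Fact p.Prime] {P : Sylow p G}

theorem Hyp.odd (H : Hyp Ω p P) : p % 2 = 1 :=
  hpf.out.eq_two_or_odd.resolve_left (by have := H.five_le; omega)

theorem Hyp.nonempty (H : Hyp Ω p P) : Nonempty Ω :=
  (Nat.card_ne_zero.1 (by rw [H.card_Ω]; have := H.five_le; omega)).1

theorem Hyp.sq_not_dvd (H : Hyp Ω p P) : ¬ p ^ 2 ∣ Nat.card G := fun h => by
  rw [← (P : Subgroup G).card_mul_index, show Nat.card (P : Subgroup G) = p from H.card_P, sq] at h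
  exact P.not_dvd_index (Nat.dvd_of_mul_dvd_mul_left hpf.out.pos h)

theorem Hyp.dvd_card (H : Hyp Ω p P) : p ∣ Nat.card G := by
  have h := Subgroup.card_subgroup_dvd_card (P : Subgroup G)
  rwa [show Nat.card (P : Subgroup G) = p from H.card_P] at h

theorem Hyp.free [IsPretransitive G Ω] (H : Hyp Ω p P) {g : G} (hg : p ∣ orderOf g) :
    fx Ω g = 0 := by
  have : IsEmpty (fixedBy Ω g) := ⟨fun a => H.sq_not_dvd ?_⟩
  · exact Nat.card_of_isEmpty
  have h1 : p ∣ Nat.card (stabilizer G a.1) := hg.trans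
    (Subgroup.orderOf_dvd_natCard _ (mem_stabilizer_iff.2 a.2))
  rw [CfsgLib.Perm.natCard_eq_mul_stabilizer (G := G) a.1, H.card_Ω, sq]
  exact mul_dvd_mul (Dvd.intro_left 3 rfl) h1

theorem Hyp.free_P [IsPretransitive G Ω] (H : Hyp Ω p P) {y : G} (hy : y ∈ (P : Subgroup G))
    (hy1 : y ≠ 1) : fx Ω y = 0 := by
  refine H.free ?_
  have h := (P : Subgroup G).orderOf_dvd_natCard hy
  rw [show Nat.card (P : Subgroup G) = p from H.card_P] at h
  rcases hpf.out.eq_one_or_self_of_dvd _ h with h | h
  · exact absurd (orderOf_eq_one_iff.1 h) hy1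
  · rw [h]

open scoped Classical in
/-- The number of singular elements. -/
theorem Hyp.card_singular [Fintype G] (H : Hyp Ω p P) :
    2 * p * (Finset.univ.filter fun g : G => p ∣ orderOf g).card = (p - 1) * Nat.card G := by
  have hp := hpf.out
  set S := Finset.univ.filter fun g : G => p ∣ orderOf g with hS
  have hPc : Nat.card (P : Subgroup G) = p := H.card_P
  have h1 : ∀ s : G, ((Finset.univ : Finset G).filter fun g => s⁻¹ * g * s ∈ (P : Subgroup G)).card = p := by
    intro s
    conv_rhs => rw [← hPc]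
    rw [Nat.card_eq_fintype_card, Fintype.card_subtype]
    exact Finset.card_equiv (MulAut.conj s⁻¹).toEquiv fun g => by simp
  have htot : ∑ g : G, (Finset.univ.filter fun s : G => s⁻¹ * g * s ∈ (P : Subgroup G)).card =
      Nat.card G * p := by
    rw [Finset.sum_congr rfl fun g _ => Finset.card_filter _ _, Finset.sum_comm,
      Finset.sum_congr rfl fun s _ => ((Finset.card_filter _ _).symm.trans (h1 s)),
      Finset.sum_const, Finset.card_univ, smul_eq_mul, Nat.card_eq_fintype_card]
  have hsing : ∀ g ∈ S, (Finset.univ.filter fun s : G => s⁻¹ * g * s ∈ (P : Subgroup G)).card = 2 * p := by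
    intro g hg
    obtain ⟨s₀, hs₀, hs₀1⟩ := exists_conj_mem H.card_P H.cent (Finset.mem_filter.1 hg).2
    rw [← H.card_N, Nat.card_eq_fintype_card, Fintype.card_subtype]
    refine Finset.card_equiv (Equiv.mulLeft s₀⁻¹) fun s => ?_
    simp only [Finset.mem_filter, Finset.mem_univ, true_and, Equiv.coe_mulLeft]
    have hgen : ∀ z ∈ (P : Subgroup G), z ≠ 1 → Subgroup.zpowers z = (P : Subgroup G) := fun z hz hz1 => by
      refine Subgroup.eq_of_le_of_card_ge (Subgroup.zpowers_le.2 hz) ?_
      rcases hp.eq_one_or_self_of_dvd _ ((Subgroup.card_dvd_of_le (Subgroup.zpowers_le.2 hz)).trans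
        (dvd_of_eq hPc)) with h | h
      · rw [Nat.card_zpowers, orderOf_eq_one_iff] at h; exact absurd h hz1
      · rw [h, hPc]
    constructor
    · intro hs
      set n := s₀⁻¹ * s with hn
      set z := s₀⁻¹ * g * s₀ with hz
      have e : s⁻¹ * g * s = n⁻¹ * z * n := by rw [hn, hz]; group
      rw [e] at hs
      refine Subgroup.mem_normalizer_fintype fun w hw => ?_
      have hne : n⁻¹ * z * n ≠ 1 := fun h => hs₀1 (by
        have h' := congrArg (fun t => n * t * n⁻¹) h
        simpa [mul_assoc] using h')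
      have hw' : w ∈ Subgroup.zpowers (n⁻¹ * z * n) := (hgen _ hs hne).symm ▸ hw
      obtain ⟨i, rfl⟩ := Subgroup.mem_zpowers_iff.1 hw'
      rw [← conj_zpow, show n * (n⁻¹ * z * n) * n⁻¹ = z by group]
      exact Subgroup.zpow_mem _ hs₀ i
    · intro hs
      have := (Subgroup.mem_normalizer_iff''.1 hs (s₀⁻¹ * g * s₀)).1 hs₀
      simpa [mul_assoc] using this
  have hother : ∀ g ∈ Sᶜ, (Finset.univ.filter fun s : G => s⁻¹ * g * s ∈ (P : Subgroup G)).card =
      if g = 1 then Nat.card G else 0 := by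
    intro g hg
    split_ifs with h1g
    · subst h1g
      rw [Finset.filter_true_of_mem (fun s _ => by simp), Finset.card_univ, Nat.card_eq_fintype_card]
    · refine Finset.card_eq_zero.2 (Finset.filter_eq_empty_iff.2 fun {s} _ hs => ?_)
      refine (Finset.mem_compl.1 hg) (Finset.mem_filter.2 ⟨Finset.mem_univ _, ?_⟩)
      have ho : orderOf (s⁻¹ * g * s) = orderOf g := by
        simpa using MulEquiv.orderOf_eq (MulAut.conj s⁻¹) g
      have hd := (P : Subgroup G).orderOf_dvd_natCard hs
      rw [ho, hPc] at hd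
      rcases hp.eq_one_or_self_of_dvd _ hd with h | h
      · exact absurd (orderOf_eq_one_iff.1 h) h1g
      · rw [h]
  rw [← Finset.sum_add_sum_compl S, Finset.sum_congr rfl hsing, Finset.sum_congr rfl hother,
    Finset.sum_const, smul_eq_mul, Finset.sum_ite_eq' Sᶜ 1 (fun _ => Nat.card G),
    if_pos (Finset.mem_compl.2 fun h => hp.ne_one (by
      have := (Finset.mem_filter.1 h).2
      rwa [orderOf_one, Nat.dvd_one] at this))] at htot
  have : (p - 1) * Nat.card G + Nat.card G = Nat.card G * p := by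
    rw [← Nat.succ_mul, mul_comm]
    congr 1
    have := hp.pos
    omega
  linarith

/-- An involution inverting the Sylow subgroup; all involutions are conjugate to it. -/
theorem Hyp.exists_inverter [IsSimpleGroup G] (H : Hyp Ω p P) :
    ∃ (M : Ideal Cfsg.AlgInt) (_ : Cfsg.IsPModular p M) (u : G), orderOf u = 2 ∧
      u ∈ Subgroup.normalizer ((P : Subgroup G) : Set G) ∧
      (∀ y ∈ (P : Subgroup G), u * y * u = y⁻¹) ∧ ∀ s : G, orderOf s = 2 → IsConj s u := by
  obtain ⟨M, hM⟩ := BlockB.exists_isPModular (p := p) hpf.out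
  obtain ⟨e, t, d₀, σ, CF, YF, ε, D⟩ := Block.BrauerTuan.exists_rowData H.perf hM P H.card_P
  have he : e = 2 := by
    have h := D.e_eq
    rw [H.cent] at h
    have h2 := ((P : Subgroup G).subgroupOf (Subgroup.normalizer ((P : Subgroup G) : Set G))).card_mul_index
    rw [Nat.card_congr (Subgroup.subgroupOfEquivOfLe Subgroup.le_normalizer).toEquiv, H.card_N,
      show Nat.card (P : Subgroup G) = p from H.card_P, show ((P : Subgroup G).subgroupOf
        (Subgroup.normalizer ((P : Subgroup G) : Set G))).index = e from h, mul_comm 2 p] at h2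
    exact Nat.eq_of_mul_eq_mul_left hpf.out.pos h2
  subst he
  obtain ⟨u, hu, huN, hall⟩ :=
    Block.BrauerTuan.isConj_involution_of_e_two H.perf H.five_le hM P H.card_P H.cent D
  refine ⟨M, hM, u, hu, huN, fun y hy => ?_, hall⟩
  have huu : u * u = 1 := by rw [← sq, ← hu, pow_orderOf_eq_one]
  have hui : u⁻¹ = u := inv_eq_of_mul_eq_one_right huu
  have hzy : u * y * u ∈ (P : Subgroup G) := by
    have h := (Subgroup.mem_normalizer_iff.1 huN y).1 hy
    rwa [hui] at h
  by_contra hne
  have hw1 : y * (u * y * u) ≠ 1 := fun h => hne (eq_inv_of_mul_eq_one_right h)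
  have hyc : ∀ a ∈ (P : Subgroup G), ∀ b ∈ (P : Subgroup G), a * b = b * a := fun a ha b hb => by
    have hcy : IsCyclic (P : Subgroup G) := isCyclic_of_prime_card H.card_P
    let : CommGroup (P : Subgroup G) := IsCyclic.commGroup
    exact congrArg Subtype.val (mul_comm (⟨a, ha⟩ : (P : Subgroup G)) ⟨b, hb⟩)
  have hcomm : Commute (y * (u * y * u)) u := by
    change y * (u * y * u) * u = u * (y * (u * y * u))
    calc y * (u * y * u) * u = (u * y * u) * y * u := by rw [hyc y hy _ hzy]
      _ = u * (y * (u * y * u)) := by simp only [mul_assoc]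
  have huP : u ∈ (P : Subgroup G) :=
    eq_one_of_commute H.card_P H.cent (Subgroup.mul_mem _ hy hzy) hw1 hcomm
  have h2 := (P : Subgroup G).orderOf_dvd_natCard huP
  rw [hu, show Nat.card (P : Subgroup G) = p from H.card_P] at h2
  have := H.odd
  omega

/-- An involution inverting the Sylow subgroup fixes one or three points. -/
theorem Hyp.fx_inverter [IsPretransitive G Ω] (H : Hyp Ω p P) {u : G} (hu : orderOf u = 2)
    (hinv : ∀ y ∈ (P : Subgroup G), u * y * u = y⁻¹) : fx Ω u = 1 ∨ fx Ω u = 3 := by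
  classical
  have hp := hpf.out
  have huu : u * u = 1 := by rw [← sq, ← hu, pow_orderOf_eq_one]
  have := Fintype.ofFinite (orbitRel.Quotient (P : Subgroup G) Ω)
  have hle : fx Ω u ≤ Nat.card (orbitRel.Quotient (P : Subgroup G) Ω) := by
    refine Nat.card_le_card_of_injective (fun a => ⟦a.1⟧) fun a b hab => ?_
    obtain ⟨⟨y, hy⟩, hyab⟩ := Quotient.exact hab
    have hy' : y • b.1 = a.1 := hyab
    by_cases hy1 : y = 1
    · rw [hy1, one_smul] at hy'
      exact Subtype.ext hy'.symm
    exfalso
    have e1 : (y * y) • b.1 = b.1 := by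
      have ha : u • a.1 = a.1 := a.2
      have hb : u • b.1 = b.1 := b.2
      have h3 : y⁻¹ • b.1 = a.1 := by rw [← hinv y hy, mul_smul, mul_smul, hb, hy', ha]
      rw [mul_smul, hy', ← h3, smul_inv_smul]
    have hyy : y * y ≠ 1 := fun h => by
      have h1 := orderOf_dvd_of_pow_eq_one (show y ^ 2 = 1 by rw [sq, h])
      have h2 := (P : Subgroup G).orderOf_dvd_natCard hy
      rw [show Nat.card (P : Subgroup G) = p from H.card_P] at h2
      rcases hp.eq_one_or_self_of_dvd _ h2 with h3 | h3
      · exact hy1 (orderOf_eq_one_iff.1 h3)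
      · rw [h3] at h1
        have := Nat.le_of_dvd two_pos h1
        have := H.five_le
        omega
    have h0 := H.free_P (Subgroup.mul_mem _ hy hy) hyy
    have : Nonempty (fixedBy Ω (y * y)) := ⟨⟨b.1, e1⟩⟩
    exact Nat.card_pos.ne' h0
  have horb : Nat.card (orbitRel.Quotient (P : Subgroup G) Ω) = 3 := by
    have := Fintype.ofFinite G
    have := Fintype.ofFinite Ω
    have h := sum_card_fixedBy_eq_card_orbits_mul_card_group (P : Subgroup G) Ω
    rw [Finset.sum_eq_single (1 : (P : Subgroup G))] at h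
    · rw [← Nat.card_eq_fintype_card, fixedBy_one_eq_univ, Nat.card_congr (Equiv.Set.univ Ω), H.card_Ω,
        ← Nat.card_eq_fintype_card, ← Nat.card_eq_fintype_card,
        show Nat.card (P : Subgroup G) = p from H.card_P] at h
      exact (Nat.eq_of_mul_eq_mul_right hp.pos h).symm
    · intro y _ hy
      rw [← Nat.card_eq_fintype_card]
      exact H.free_P y.2 fun h => hy (Subtype.ext h)
    · simp
  have := Fintype.ofFinite Ω
  have hpar : fx Ω u % 2 = 1 := by
    have hd : IsPGroup 2 (Subgroup.zpowers u) := IsPGroup.of_card (n := 1) (by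
      rw [Nat.card_zpowers, hu, pow_one])
    have : Fact (Nat.Prime 2) := ⟨Nat.prime_two⟩
    have h := hd.card_modEq_card_fixedPoints (α := Ω)
    have e : Nat.card (fixedPoints (Subgroup.zpowers u) Ω) = fx Ω u := by
      refine Nat.card_congr (Equiv.setCongr (Set.ext fun a => ?_))
      simp only [mem_fixedPoints, mem_fixedBy]
      refine ⟨fun h => h ⟨u, Subgroup.mem_zpowers u⟩, fun h g => ?_⟩
      obtain ⟨g, hg⟩ := g
      obtain ⟨i, rfl⟩ := Subgroup.mem_zpowers_iff.1 hg
      have : u ∈ stabilizer G a := h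
      exact (stabilizer G a).zpow_mem this i
    rw [e, H.card_Ω] at h
    have := H.odd
    unfold Nat.ModEq at h
    omega
  omega

end CfsgLib.Perm.ThreeP
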