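import Cfsg.Agent.S4706
import Cfsg.Agent.Lib.Block.BRTheorem
import Mathlib.LinearAlgebra.Matrix.ProjectiveSpecialLinearGroup
import Mathlib.GroupTheory.GroupAction.Primitive

/-!
Simple groups of degree `3p` with Sylow normaliser of order `2p`: the imprimitive case.
-/

set_option autoImplicit false
set_option linter.style.haveILetI false
set_option linter.unusedSectionVars false

namespace CfsgLib.Perm.ThreeP

open Cfsg MulAction

theorem psl_two_of_not_primitive {G : Type*} [Group G] [Finite G] [IsSimpleGroup G]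
    (hG : ¬ IsMulCommutative G) (p : ℕ) (hp : p.Prime) (hp3 : 3 < p) {Ω : Type*} [Fintype Ω]
    [MulAction G Ω] [FaithfulSMul G Ω] (htr : MulAction.IsPretransitive G Ω)
    (hΩ : Fintype.card Ω = 3 * p) (P : Sylow p G)
    (hN : Nat.card ↥(Subgroup.normalizer ((P : Subgroup G) : Set G)) = 2 * p)
    (hnp : ¬ MulAction.IsPreprimitive G Ω) :
    ∃ (F : Type) (_ : Field F) (_ : Fintype F) (m : ℕ), Fintype.card F = 2 ^ m ∧ p = 2 ^ m + 1 ∧
      Nonempty (G ≃* Matrix.ProjectiveSpecialLinearGroup (Fin 2) F) := by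
  classical
  haveI := Fact.mk hp
  haveI : Nontrivial Ω := by
    rw [← Fintype.one_lt_card_iff_nontrivial, hΩ]
    omega
  obtain ⟨a⟩ := (inferInstance : Nonempty Ω)
  have hidx : (stabilizer G a).index = 3 * p := by
    rw [index_stabilizer_of_transitive, Nat.card_eq_fintype_card, hΩ]
  have hnc : ¬ IsCoatom (stabilizer G a) := fun h => hnp ((isCoatom_stabilizer_iff_preprimitive G a).1 h)
  have hne : stabilizer G a ≠ ⊤ := fun h => by rw [h, Subgroup.index_top] at hidx; omega
  obtain ⟨H, hlt, hH⟩ : ∃ H : Subgroup G, stabilizer G a < H ∧ H ≠ ⊤ := by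
    by_contra hc
    push Not at hc
    exact hnc ⟨hne, hc⟩
  have hd : H.index ∣ 3 * p := hidx ▸ Subgroup.index_dvd_of_le hlt.le
  have hd1 : H.index ≠ 1 := fun h => hH (Subgroup.index_eq_one.1 h)
  have hd2 : H.index ≠ 3 * p := fun h => by
    have := Subgroup.relIndex_mul_index hlt.le
    rw [h, hidx] at this
    exact hlt.not_ge (Subgroup.relIndex_eq_one.1 (by
      nlinarith [this, hp.pos, Nat.one_le_iff_ne_zero.2 (show 3 * p ≠ 0 by omega)]))
  let f : G →* Equiv.Perm (G ⧸ H) := MulAction.toPermHom G (G ⧸ H)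
  have hf : Function.Injective f := by
    rw [← MonoidHom.ker_eq_bot_iff]
    refine ((MonoidHom.normal_ker f).eq_bot_or_eq_top).resolve_right fun h => hH ?_
    rw [Subgroup.eq_top_iff']
    intro g
    have h1 : f g = 1 := MonoidHom.mem_ker.1 (h ▸ Subgroup.mem_top g)
    have h2 : g • ((1 : G) : G ⧸ H) = ((1 : G) : G ⧸ H) :=
      DFunLike.congr_fun h1 ((1 : G) : G ⧸ H)
    rw [MulAction.Quotient.smul_coe, QuotientGroup.eq] at h2
    simpa using h2
  have hpG : p ∣ Nat.card G := by
    have := (stabilizer G a).index_dvd_card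
    rw [hidx] at this
    exact (dvd_mul_left p 3).trans this
  have hcard : H.index = p := by
    obtain ⟨x, y, hx, hy, hxy⟩ := (Nat.dvd_mul).1 hd
    rcases (Nat.dvd_prime Nat.prime_three).1 hx with rfl | rfl <;>
      rcases (Nat.dvd_prime hp).1 hy with rfl | rfl
    · exact absurd hxy.symm hd1
    · rw [← hxy, one_mul]
    · exfalso
      have h6 : p ∣ Nat.factorial 3 := by
        refine hpG.trans ((Subgroup.card_dvd_of_injective f hf).trans ?_)
        rw [Nat.card_perm, ← Subgroup.index_eq_card, ← hxy]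
      rw [Nat.Prime.dvd_factorial hp] at h6
      omega
    · exact absurd hxy.symm hd2
  letI := Fintype.ofFinite (G ⧸ H)
  have hα : Fintype.card (G ⧸ H) = p := by
    rw [← Nat.card_eq_fintype_card, ← Subgroup.index_eq_card, hcard]
  let e : G ≃* f.range := MonoidHom.ofInjective hf
  let P' : Sylow p f.range := P.mapSurjective (f := e.toMonoidHom) e.surjective
  have hP' : (P' : Subgroup f.range) = (P : Subgroup G).map e.toMonoidHom := rfl
  have hN' : Nat.card (Subgroup.normalizer ((P' : Subgroup f.range) : Set f.range)) = 2 * p := by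
    rw [hP', ← Subgroup.map_equiv_normalizer_eq,
      Subgroup.card_map_of_injective (f := e.toMonoidHom) e.injective, hN]
  rcases Cfsg.Agent.S4706.result (by omega) hα f.range P' hN' with hn | ⟨m, F, hF, hF', hpm, hFc, ⟨i⟩⟩
  · exfalso
    have hPn : (P : Subgroup G).Normal := by
      have h := hn.comap e.toMonoidHom
      rwa [hP', Subgroup.comap_map_eq_self_of_injective (f := e.toMonoidHom) e.injective] at h
    rcases hPn.eq_bot_or_eq_top with h | h
    · exact P.ne_bot_of_dvd_card hpG h
    · refine hG ?_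
      have hGp : IsPGroup p G := (h ▸ P.2 : IsPGroup p (⊤ : Subgroup G)).of_equiv Subgroup.topEquiv
      haveI : Nontrivial G := IsSimpleGroup.toNontrivial
      haveI := hGp.center_nontrivial
      have hc : Subgroup.center G = ⊤ := (Subgroup.Normal.eq_bot_or_eq_top inferInstance).resolve_left
        ((Subgroup.nontrivial_iff_ne_bot _).1 inferInstance)
      exact ⟨⟨fun x y => (Subgroup.mem_center_iff.1 (hc ▸ Subgroup.mem_top y) x)⟩⟩
  · have hm : 0 < m := Nat.pos_of_ne_zero fun h => by rw [h] at hpm; omega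
    obtain ⟨j⟩ := CfsgLib.Block.BrauerReynolds.psl_equiv_sl_char_two F hm hFc
    exact ⟨F, hF, hF', m, hFc, hpm, ⟨(e.trans i).trans j.symm⟩⟩

end CfsgLib.Perm.ThreeP
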