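import Cfsg.Agent.Lib.Classical.SLTwoSylow
import Mathlib.GroupTheory.GroupAction.Primitive

/-!
`SL₂(2^m)` has no primitive action on `3(2^m + 1)` points.
-/

set_option autoImplicit false
set_option linter.style.haveILetI false

namespace CfsgLib.Perm.ThreeP

open MulAction Matrix
open scoped MatrixGroups

theorem card_normalizer_uSL_ge {F : Type*} [Field F] [Fintype F] :
    (Fintype.card F - 1) * Fintype.card F ≤
      Nat.card (Subgroup.normalizer (CfsgLib.Classical.uSL F : Set SL(2, F))) := by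
  classical
  let g : Fˣ × F → SL(2, F) := fun x => ⟨!![(x.1 : F), x.2; 0, ((x.1⁻¹ : Fˣ) : F)], by
    rw [det_fin_two_of]; simp⟩
  have hg : Function.Injective g := fun x y h => by
    have h1 := congrArg (fun s : SL(2, F) => s.1 0 0) h
    have h2 := congrArg (fun s : SL(2, F) => s.1 0 1) h
    simp [g] at h1 h2
    exact Prod.ext (Units.ext h1) h2
  have hmem : ∀ x, g x ∈ Subgroup.normalizer (CfsgLib.Classical.uSL F : Set SL(2, F)) := by
    intro x
    refine Subgroup.mem_normalizer_fintype fun y hy => ?_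
    obtain ⟨b, rfl⟩ := hy
    obtain ⟨s, hs, hs'⟩ := CfsgLib.Classical.conj_mem_of_lower_zero
      (g := Matrix.SpecialLinearGroup.toGL (g x)) (by simp [g, Matrix.SpecialLinearGroup.toGL]) b
    rw [← map_mul, ← map_inv, ← map_mul] at hs'
    rw [← Matrix.SpecialLinearGroup.toGL_injective hs']
    exact hs
  calc (Fintype.card F - 1) * Fintype.card F = Nat.card (Fˣ × F) := by
        rw [Nat.card_prod, Nat.card_units, Nat.card_eq_fintype_card]
    _ ≤ _ := Nat.card_le_card_of_injective (fun x => ⟨g x, hmem x⟩)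
        fun x y h => hg (congrArg Subtype.val h)

theorem not_primitive_of_sl_two {G Ω : Type*} [Group G] [Finite G] [MulAction G Ω] [Finite Ω]
    [MulAction.IsPretransitive G Ω] {F : Type} [Field F] [Fintype F] {m : ℕ} (hm : 2 ≤ m)
    (hF : Fintype.card F = 2 ^ m) (e : G ≃* Matrix.SpecialLinearGroup (Fin 2) F)
    (hΩ : Nat.card Ω = 3 * (2 ^ m + 1)) : ¬ MulAction.IsPreprimitive G Ω := by
  classical
  intro hprim
  haveI : CharP F 2 := ringChar.of_eq (FiniteField.even_card_iff_char_two.2 (by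
    rw [hF, show m = m - 1 + 1 by omega, pow_succ, Nat.mul_mod_left]))
  haveI : Nontrivial Ω := by
    rw [← Finite.one_lt_card_iff_nontrivial, hΩ]
    have := Nat.one_le_two_pow (n := m)
    omega
  obtain ⟨a⟩ := (inferInstance : Nonempty Ω)
  set H := (stabilizer G a).map e.toMonoidHom with hH
  have hidx : H.index = 3 * (2 ^ m + 1) := by
    rw [hH, Subgroup.index_map_of_bijective (f := e.toMonoidHom) e.bijective,
      index_stabilizer_of_transitive, hΩ]
  have hmax : IsCoatom H := by
    have h := (isCoatom_stabilizer_iff_preprimitive G a).2 hprim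
    exact (OrderIso.isCoatom_iff (MulEquiv.mapSubgroup e) _).2 h
  obtain ⟨Q, hQ⟩ := CfsgLib.Classical.exists_sylow_uSL (F := F) 2
  -- `H` contains a Sylow `2`-subgroup
  obtain ⟨R⟩ : Nonempty (Sylow 2 H) := inferInstance
  obtain ⟨S, hS⟩ := (R.2.map H.subtype).exists_le_sylow
  have hSH : (S : Subgroup SL(2, F)) ≤ H := by
    have hc : Nat.card (S : Subgroup SL(2, F)) ≤ Nat.card ((R : Subgroup H).map H.subtype) := by
      refine le_of_eq ?_
      rw [Subgroup.card_map_of_injective H.subtype_injective, S.card_eq_multiplicity,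
        R.card_eq_multiplicity, ← H.card_mul_index, hidx, Nat.factorization_mul Nat.card_pos.ne'
        (by omega), Finsupp.add_apply, Nat.factorization_eq_zero_of_not_dvd (n := 3 * (2 ^ m + 1)),
        add_zero]
      rw [show m = m - 1 + 1 by omega, pow_succ]
      omega
    rw [← Subgroup.eq_of_le_of_card_ge hS hc]
    exact Subgroup.map_subtype_le _
  have hle : H ≤ Subgroup.normalizer ((S : Subgroup SL(2, F)) : Set SL(2, F)) := by
    intro x hx
    by_contra hxn
    have hne : x • S ≠ S := fun h => hxn (Sylow.smul_eq_iff_mem_normalizer.1 h)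
    have hxS : ((x • S : Sylow 2 SL(2, F)) : Subgroup SL(2, F)) ≤ H := by
      rintro _ ⟨y, hy, rfl⟩
      exact mul_mem (mul_mem hx (hSH hy)) (inv_mem hx)
    exact hmax.1 (eq_top_iff.2
      ((CfsgLib.Classical.sylow_sl_two_sup_eq_top 2 _ _ hne).symm.le.trans (sup_le hxS hSH)))
  have hN : Nat.card (Subgroup.normalizer ((S : Subgroup SL(2, F)) : Set SL(2, F))) =
      Nat.card (Subgroup.normalizer (CfsgLib.Classical.uSL F : Set SL(2, F))) := by
    obtain ⟨g, rfl⟩ := MulAction.exists_smul_eq SL(2, F) Q S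
    rw [Sylow.coe_subgroup_smul, hQ, Subgroup.pointwise_smul_def,
      show Subgroup.map (MulDistribMulAction.toMonoidEnd (MulAut SL(2, F)) SL(2, F) (MulAut.conj g))
        (CfsgLib.Classical.uSL F) = (CfsgLib.Classical.uSL F).map (MulAut.conj g).toMonoidHom from rfl,
      ← Subgroup.map_equiv_normalizer_eq,
      Subgroup.card_map_of_injective (f := (MulAut.conj g).toMonoidHom) (MulAut.conj g).injective]
  have hNne : Subgroup.normalizer ((S : Subgroup SL(2, F)) : Set SL(2, F)) ≠ H := by
    intro h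
    have h1 := Nat.mul_le_mul_right H.index (card_normalizer_uSL_ge (F := F))
    rw [← hN, h, Subgroup.card_mul_index, CfsgLib.Classical.card_sl_two_eq, hidx, hF] at h1
    obtain ⟨r, hr⟩ : ∃ r, 2 ^ m = r + 2 := ⟨2 ^ m - 2, by
      have : 4 ≤ 2 ^ m := Nat.pow_le_pow_right (show 0 < 2 by norm_num) hm
      omega⟩
    rw [hr, show r + 2 - 1 = r + 1 by omega,
      show (r + 2) ^ 2 - 1 = (r + 1) * (r + 3) from Nat.sub_eq_of_eq_add (by ring)] at h1
    have h0 : 0 < (r + 1) * (r + 2) * (r + 3) := by positivity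
    nlinarith [h1, h0]
  have htop := hmax.2 _ (lt_of_le_of_ne hle (Ne.symm hNne))
  haveI hSn := Subgroup.normalizer_eq_top_iff.1 htop
  haveI := Sylow.unique_of_normal S hSn
  -- two distinct Sylow subgroups
  let w : SL(2, F) := ⟨!![0, 1; -1, 0], by rw [det_fin_two_of]; simp⟩
  have hw : w • Q = Q := Subsingleton.elim _ _
  rw [Sylow.smul_eq_iff_mem_normalizer,
    show (Q : Set SL(2, F)) = (CfsgLib.Classical.uSL F : Set SL(2, F)) from congrArg SetLike.coe hQ]
    at hw
  have h2 : w * CfsgLib.Classical.uElt 1 * w⁻¹ ∈ CfsgLib.Classical.uSL F :=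
    (Subgroup.mem_normalizer_iff.1 hw _).1 ⟨1, rfl⟩
  obtain ⟨b, hb⟩ := h2
  have h3 := congrArg (fun s : SL(2, F) => (s : Matrix (Fin 2) (Fin 2) F) 1 0) hb
  have hwv : (w : Matrix (Fin 2) (Fin 2) F) = !![0, 1; -1, 0] := rfl
  clear_value w
  simp [hwv, CfsgLib.Classical.uElt_val, Matrix.SpecialLinearGroup.coe_mul,
    Matrix.SpecialLinearGroup.coe_inv, adjugate_fin_two, Matrix.mul_apply, Fin.sum_univ_two] at h3

end CfsgLib.Perm.ThreeP
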