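import Cfsg.Agent.Lib.Perm.ThreeP.TopOne
import Cfsg.Agent.Lib.Perm.ThreeP.Dihedral2
import Cfsg.Agent.Lib.Perm.ThreeP.SLPoints
import Cfsg.Agent.Lib.Perm.ThreeP.Fifteen
import Cfsg.Agent.Lib.Block.BRDegrees

/-!
Primitive simple groups of degree `3p` with Sylow normalizer of order `2p`.
-/

set_option autoImplicit false
set_option linter.unusedSectionVars false
set_option linter.style.haveILetI false

namespace CfsgLib.Perm.ThreeP

open MulAction Cfsg CfsgLib CfsgLib.Block CfsgLib.Block.BrauerReynolds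
open scoped _root_.Classical

universe u v

variable {G : Type u} [Group G] [Finite G] {Ω : Type v} [MulAction G Ω] [Finite Ω]
  [IsPretransitive G Ω] [FaithfulSMul G Ω] {p : ℕ}
  [hpf : Fact p.Prime] {P : Sylow p G} {x : G} {χ ψ : IrrCharacter G} {val : G → ℤ}

theorem rho_five {p : ℕ} {ρ : ℤ} (h : 2 * (p : ℤ) = 6 * ρ ^ 2 + 3 * ρ + 1) (hp : p ≤ 433)
    (h8 : p % 8 = 5) : p = 5 ∧ ρ = 1 := by
  have h1 : ρ ≤ 12 := by nlinarith
  have h2 : -13 ≤ ρ := by nlinarith
  interval_cases ρ <;> omega

theorem Mid.card_eq [IsSimpleGroup G] (M : Mid Ω p x χ val ψ) (H : Hyp Ω p P) :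
    p = 5 ∧ Nat.card G = 360 := by
  haveI : Fintype Ω := Fintype.ofFinite Ω
  obtain ⟨u, hu⟩ := H.exists_two
  have h3 : ∀ v : G, orderOf v = 2 → fx Ω v = 3 :=
    H.fx_two.resolve_left fun h1 => M.false_of_one H h1
  obtain ⟨r, hF⟩ := M.facts H h3 hu
  obtain ⟨α, A, ρ, hA, ha, hq, hd⟩ := M.suborbit H h3 hu hF
  have hp5 := H.five_le
  have hp8 : p % 8 = 5 := by
    by_contra h
    have := hF.four_dvd
    have := (le_twoExp_iff (a := p - 1) (k := 3) (by omega)).2 (by norm_num; omega)
    omega
  obtain ⟨rfl, rfl⟩ := rho_five hq (M.le_bound H h3 hu hF hd) hp8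
  refine ⟨rfl, ?_⟩
  have hG : Nat.card G = 360 * r ^ 2 := by rw [hF.card_G]
  have hA6 : A.ncard = 6 := by omega
  set Hs := stabilizer G α with hHs
  have hHc : Nat.card Hs = 24 * r ^ 2 := by
    have h := (stabilizer G α).card_mul_index
    rw [index_stabilizer_of_transitive G α, H.card_Ω, hG] at h
    rw [hHs]
    omega
  let Am : SubMulAction Hs Ω :=
    { carrier := A, smul_mem' := fun h b hb => hA.invar h h.2 b hb }
  have hker : Function.Injective (MulAction.toPermHom Hs Am) := by
    rw [← MonoidHom.ker_eq_bot_iff, Subgroup.eq_bot_iff_forall]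
    intro k hk
    by_contra hk1
    have hfA : ∀ b ∈ insert α A, (k : G) • b = b := by
      intro b hb
      rcases Set.mem_insert_iff.1 hb with rfl | hb
      · exact k.2
      · exact congrArg Subtype.val (DFunLike.congr_fun (MonoidHom.mem_ker.1 hk) (⟨b, hb⟩ : Am))
    have h7 : ∀ y ∈ Subgroup.zpowers (k : G), y ≠ 1 → fx Ω y = 7 := by
      intro y hy hy1
      have hle := M.row.two_fx_lt H hy1
      have hge : (insert α A).ncard ≤ fx Ω y := by
        rw [fx, Nat.card_coe_set_eq]
        refine Set.ncard_le_ncard (fun b hb => ?_) (Set.toFinite _)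
        have : Subgroup.zpowers (k : G) ≤ stabilizer G b := Subgroup.zpowers_le.2 (hfA b hb)
        exact this hy
      rw [Set.ncard_insert_of_notMem hA.not_mem (Set.toFinite _), hA6] at hge
      omega
    have hk1' : (k : G) ≠ 1 := fun h => hk1 (Subtype.ext h)
    obtain ⟨q, hq', hqd⟩ := Nat.exists_prime_and_dvd
      (show orderOf (k : G) ≠ 1 from fun h => hk1' (orderOf_eq_one_iff.1 h))
    haveI := Fact.mk hq'
    set y := (k : G) ^ (orderOf (k : G) / q)
    have hyo : orderOf y = q := orderOf_pow_orderOf_div (orderOf_pos _).ne' hqd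
    have hy7 := h7 y (Subgroup.pow_mem _ (Subgroup.mem_zpowers _) _) fun h => by
      rw [h, orderOf_one] at hyo; exact hq'.ne_one hyo.symm
    have hP : IsPGroup q (Subgroup.zpowers y) :=
      IsPGroup.of_card (n := 1) (by rw [Nat.card_zpowers, hyo, pow_one])
    have hmod := hP.card_modEq_card_fixedPoints (α := Ω)
    have efix : Nat.card (fixedPoints (Subgroup.zpowers y) Ω) = fx Ω y := by
      refine Nat.card_congr (Equiv.setCongr (Set.ext fun a => ?_))
      simp only [mem_fixedPoints, mem_fixedBy]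
      refine ⟨fun h => h ⟨y, Subgroup.mem_zpowers y⟩, fun h g => ?_⟩
      exact (Subgroup.zpowers_le.2 (show y ∈ stabilizer G a from h)) g.2
    rw [efix, hy7, H.card_Ω] at hmod
    have hq8 : q ∣ 8 := (Nat.modEq_iff_dvd' (show 7 ≤ 3 * 5 by norm_num)).1 hmod.symm
    have hq2 : q = 2 := (Nat.prime_dvd_prime_iff_eq hq' Nat.prime_two).1
      (hq'.dvd_of_dvd_pow (m := 2) (n := 3) (by norm_num; exact hq8))
    have := h3 y (hyo.trans hq2)
    omega
  have hdvd : Nat.card Hs ∣ 720 := by
    have h := Subgroup.card_dvd_of_injective _ hker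
    rw [Nat.card_perm, show Nat.card Am = A.ncard from Nat.card_coe_set_eq A, hA6] at h
    simpa [Nat.factorial] using h
  rw [hHc] at hdvd
  have hr30 : r ^ 2 ∣ 30 := Nat.dvd_of_mul_dvd_mul_left (show 0 < 24 by norm_num) (by simpa using hdvd)
  have hr5 : r ≤ 5 := by
    have := Nat.le_of_dvd (by norm_num) hr30
    nlinarith
  have := hF.r_pos
  interval_cases r <;> first | omega | (norm_num at hr30)

theorem card_eq_of_primitive [IsSimpleGroup G] (hprim : IsPreprimitive G Ω) (H : Hyp Ω p P) :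
    p = 5 ∧ Nat.card G = 360 := by
  have hp5 := H.five_le
  rcases H.cases with ⟨m, F, hFf, hFt, hcard, hpm, ⟨e⟩⟩ | ⟨x, χ, val, R, hfx⟩ |
    ⟨x, χ, val, R, ψ, hdeg, hsing, hfx⟩ | ⟨hp, hn2, h7, hy⟩
  · refine absurd hprim (not_primitive_of_sl_two ?_ hcard e (by rw [H.card_Ω, hpm]))
    by_contra hm
    interval_cases m <;> omega
  · exfalso
    rcases H.fx_two with h1 | h3
    · exact R.false_of_top_one H hfx h1
    · exact R.false_of_top_three H hfx h3
  · exact Mid.card_eq ⟨R, hdeg, hsing, hfx⟩ H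
  · exact (false_of_seven (by rw [H.card_Ω, hp]) hn2 h7 hy H.exists_two).elim

theorem hyp_of_normalizer [IsSimpleGroup G] (hG : ¬ IsMulCommutative G) (hp3 : 3 < p)
    (hΩ : Nat.card Ω = 3 * p)
    (hN : Nat.card (Subgroup.normalizer ((P : Subgroup G) : Set G)) = 2 * p) : Hyp Ω p P := by
  have hp5 : 5 ≤ p := by
    rcases hpf.out.eq_two_or_odd with h | h <;> omega
  have hperf : commutator G = ⊤ := by
    refine BrauerTuan.commutator_eq_top fun hc => hG ?_
    letI : CommGroup G := IsCyclic.commGroup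
    exact ⟨⟨fun a b => mul_comm a b⟩⟩
  have : Nonempty Ω := (Nat.card_ne_zero.1 (by rw [hΩ]; omega)).1
  obtain ⟨a⟩ := this
  have hpG : p ∣ Nat.card G := by
    have h := (stabilizer G a).index_dvd_card
    rw [index_stabilizer_of_transitive, hΩ] at h
    exact (dvd_mul_left p 3).trans h
  have hP : Nat.card P = p := by
    have h1 := Subgroup.card_dvd_of_le
      (Subgroup.le_normalizer (H := (P : Subgroup G)))
    rw [hN, P.card_eq_multiplicity] at h1
    have h2 : (Nat.card G).factorization p ≤ 1 := by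
      by_contra h
      have h4 : p ^ 2 ∣ 2 * p := (Nat.pow_dvd_pow p (by omega)).trans h1
      rw [sq] at h4
      have := Nat.le_of_dvd two_pos (Nat.dvd_of_mul_dvd_mul_right hpf.out.pos h4)
      omega
    have h3 := (hpf.out.pow_dvd_iff_le_factorization (k := 1) Nat.card_pos.ne').1 (by rwa [pow_one])
    rw [show Nat.card P = p ^ (Nat.card G).factorization p from P.card_eq_multiplicity,
      show (Nat.card G).factorization p = 1 by omega, pow_one]
  refine ⟨hp5, hperf, hP, ?_, hN, hΩ⟩
  set C := Subgroup.centralizer ((P : Subgroup G) : Set G)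
  set N := Subgroup.normalizer ((P : Subgroup G) : Set G)
  have hle : (P : Subgroup G) ≤ C := by
    have : IsCyclic (P : Subgroup G) := isCyclic_of_prime_card hP
    let : CommGroup (P : Subgroup G) := IsCyclic.commGroup
    intro a ha
    rw [Subgroup.mem_centralizer_iff]
    intro b hb
    exact congrArg Subtype.val (mul_comm (⟨b, hb⟩ : (P : Subgroup G)) ⟨a, ha⟩)
  have hCN : C ≤ N := Subgroup.centralizer_le_normalizer _
  have h2 := two_le_relIndex hperf P hP
  refine (Subgroup.eq_of_le_of_card_ge hle ?_).symm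
  have h := (C.subgroupOf N).card_mul_index
  rw [Nat.card_congr (Subgroup.subgroupOfEquivOfLe hCN).toEquiv, hN,
    show (C.subgroupOf N).index = C.relIndex N from rfl] at h
  rw [show Nat.card (P : Subgroup G) = p from hP]
  nlinarith

end CfsgLib.Perm.ThreeP
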