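import Mathlib.GroupTheory.GroupAction.Quotient
import Mathlib.GroupTheory.Index
import Mathlib.GroupTheory.PGroup
import Mathlib.GroupTheory.Sylow
import Mathlib.GroupTheory.Perm.Cycle.Type
import Mathlib.GroupTheory.Commutator.Basic
import Mathlib.GroupTheory.IndexNormal
import Mathlib.Data.Finite.Perm

/-!
A transitive group of degree `2^n` with small fixed point sets and few large suborbits has point
stabilisers of order dividing `8!`.
-/

set_option autoImplicit false
set_option linter.style.haveILetI false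
set_option linter.unusedSectionVars false

namespace CfsgLib.Perm.ThreeP

open MulAction
open scoped commutatorElement

variable {C X : Type*} [Group C] [MulAction C X]

/-- The size of the suborbit of `y` at `u`. -/
noncomputable def subsize (C : Type*) [Group C] [MulAction C X] (u y : X) : ℕ :=
  (orbit (stabilizer C u) y).ncard

theorem subsize_eq (u y : X) :
    subsize C u y = (stabilizer C y).relIndex (stabilizer C u) := by
  rw [subsize, ← index_stabilizer, Subgroup.relIndex]
  congr 1

theorem subsize_smul (c : C) (u y : X) : subsize C (c • u) (c • y) = subsize C u y := by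
  have h : orbit (stabilizer C (c • u)) (c • y) = (fun z => c • z) '' orbit (stabilizer C u) y := by
    ext z
    constructor
    · rintro ⟨⟨g, hg⟩, rfl⟩
      refine ⟨(c⁻¹ * g * c) • y, ⟨⟨c⁻¹ * g * c, ?_⟩, rfl⟩, ?_⟩
      · rw [mem_stabilizer_iff, mul_smul, mul_smul, mem_stabilizer_iff.1 hg, inv_smul_smul]
      · show c • (c⁻¹ * g * c) • y = g • c • y
        simp only [mul_smul, smul_inv_smul]
    · rintro ⟨_, ⟨⟨g, hg⟩, rfl⟩, rfl⟩
      refine ⟨⟨c * g * c⁻¹, ?_⟩, ?_⟩
      · rw [mem_stabilizer_iff, mul_smul, mul_smul, inv_smul_smul, mem_stabilizer_iff.1 hg]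
      · show (c * g * c⁻¹) • c • y = c • g • y
        simp only [mul_smul, inv_smul_smul]
  rw [subsize, h, Set.ncard_image_of_injective _ (MulAction.injective c)]
  rfl

/-- The fixed points of a stabiliser form an orbit of its normaliser. -/
theorem orbit_normalizer_eq [Finite C] [IsPretransitive C X] (x₀ : X) :
    orbit (Subgroup.normalizer (stabilizer C x₀ : Set C)) x₀ =
      {x | subsize C x₀ x = 1} := by
  ext x
  rw [Set.mem_ofPred_eq, subsize_eq, Subgroup.relIndex_eq_one]
  constructor
  · rintro ⟨⟨c, hc⟩, rfl⟩ k hk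
    rw [mem_stabilizer_iff]
    show k • c • x₀ = c • x₀
    have h := mem_stabilizer_iff.1 ((Subgroup.mem_normalizer_iff'.1 hc (c⁻¹ * k)).2
      (by rwa [mul_inv_cancel_left]))
    conv_rhs => rw [← h]
    simp only [mul_smul, smul_inv_smul]
  · intro h
    obtain ⟨c, rfl⟩ := exists_smul_eq C x₀ x
    have hc : c⁻¹ ∈ Subgroup.normalizer (stabilizer C x₀ : Set C) :=
      Subgroup.mem_normalizer_fintype fun k hk => by
        have := mem_stabilizer_iff.1 (h hk)
        show c⁻¹ * k * c⁻¹⁻¹ ∈ stabilizer C x₀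
        rw [inv_inv, mem_stabilizer_iff, mul_smul, mul_smul, this, inv_smul_smul]
    exact ⟨⟨c, by simpa using inv_mem hc⟩, rfl⟩

/-- Few points lie in large suborbits. -/
theorem count_large [Finite X] (x₀ : X) (hodd : ∀ y, Odd (subsize C x₀ y))
    (hR : Nat.card X ≤ 3 * Nat.card (MulAction.orbitRel.Quotient (stabilizer C x₀) X)) :
    {y | 5 ≤ subsize C x₀ y}.ncard ≤ 5 * {y | subsize C x₀ y = 1}.ncard ∧
      {y | 9 ≤ subsize C x₀ y}.ncard ≤ 3 * {y | subsize C x₀ y = 1}.ncard := by
  classical
  letI := Fintype.ofFinite X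
  letI := Fintype.ofFinite (MulAction.orbitRel.Quotient (stabilizer C x₀) X)
  let π : X → MulAction.orbitRel.Quotient (stabilizer C x₀) X := Quotient.mk''
  let σ : MulAction.orbitRel.Quotient (stabilizer C x₀) X → ℕ := fun q =>
    (MulAction.orbitRel.Quotient.orbit q).ncard
  have hσ : ∀ y, σ (π y) = subsize C x₀ y := fun y => rfl
  have hfib : ∀ (P : ℕ → Prop) [DecidablePred P],
      {y | P (subsize C x₀ y)}.ncard = ∑ q, if P (σ q) then σ q else 0 := by
    intro P _
    rw [Set.ncard_eq_toFinset_card',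
      Finset.card_eq_sum_card_fiberwise (f := π) (t := Finset.univ) fun y _ => Finset.mem_univ _]
    refine Finset.sum_congr rfl fun q _ => ?_
    induction q using Quotient.inductionOn' with
    | h z =>
      have hz : σ (π z) = subsize C x₀ z := hσ z
      show _ = if P (σ (π z)) then σ (π z) else 0
      have hiff : ∀ y, π y = π z → subsize C x₀ y = subsize C x₀ z := fun y hy => by
        rw [← hσ, ← hσ, hy]
      split_ifs with h
      · rw [hz]
        unfold subsize
        rw [Set.ncard_eq_toFinset_card']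
        congr 1
        ext y
        simp only [Finset.mem_filter, Set.mem_toFinset, Set.mem_ofPred_eq]
        constructor
        · exact fun hy => Quotient.exact' hy.2
        · intro hy
          have hy' : π y = π z := Quotient.sound' hy
          exact ⟨show P (subsize C x₀ y) by rw [hiff y hy']; rwa [hz] at h, hy'⟩
      · rw [Finset.card_eq_zero, Finset.filter_eq_empty_iff]
        intro y hy hy'
        refine h ?_
        rw [Set.mem_toFinset, Set.mem_ofPred_eq, hiff y hy'] at hy
        rwa [hz]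
  have htot : Nat.card X = ∑ q, σ q := by
    have := hfib fun _ => True
    simpa [Set.ncard_univ] using this
  have hσodd : ∀ q, Odd (σ q) := fun q => by
    induction q using Quotient.inductionOn' with
    | h z => exact hodd z
  have hRsum : Nat.card X ≤ 3 * ∑ _q : MulAction.orbitRel.Quotient (stabilizer C x₀) X, 1 := by
    rw [Finset.sum_const, Finset.card_univ, smul_eq_mul, mul_one, ← Nat.card_eq_fintype_card]
    exact hR
  rw [htot] at hRsum
  rw [hfib (fun s => 5 ≤ s), hfib (fun s => 9 ≤ s), hfib (fun s => s = 1)]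
  have hA : ∀ q, 2 * (if 5 ≤ σ q then σ q else 0) + 15 ≤
      5 * σ q + 10 * (if σ q = 1 then σ q else 0) := fun q => by
    obtain ⟨j, hj⟩ := hσodd q
    split_ifs <;> omega
  have hB : ∀ q, 2 * (if 9 ≤ σ q then σ q else 0) + 9 ≤
      3 * σ q + 6 * (if σ q = 1 then σ q else 0) := fun q => by
    obtain ⟨j, hj⟩ := hσodd q
    split_ifs <;> omega
  have hA' := Finset.sum_le_sum (s := Finset.univ) fun q _ => hA q
  have hB' := Finset.sum_le_sum (s := Finset.univ) fun q _ => hB q
  simp only [Finset.sum_add_distrib, ← Finset.mul_sum, Finset.sum_const, Finset.card_univ,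
    smul_eq_mul, mul_one] at hA' hB' hRsum
  omega

variable [Finite C] [FaithfulSMul C X] [IsPretransitive C X]

/-- The core of the normaliser of a stabiliser meets it trivially. -/
theorem card_stabilizer_dvd_factorial_of_index {n b : ℕ} (x₀ : X) (hX : Nat.card X = 2 ^ n)
    (hodd : Odd (Nat.card (stabilizer C x₀)))
    (hb : (Subgroup.normalizer (stabilizer C x₀ : Set C)).index = b) :
    Nat.card (stabilizer C x₀) ∣ Nat.factorial b := by
  classical
  set K := stabilizer C x₀ with hK
  set N := Subgroup.normalizer (K : Set C) with hN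
  let f : C →* Equiv.Perm (C ⧸ N) := MulAction.toPermHom C (C ⧸ N)
  have hmemK : ∀ y ∈ f.ker, Odd (orderOf y) → y ∈ K := by
    intro y hy hyo
    have hyN : y ∈ N := by
      have h2 : y • ((1 : C) : C ⧸ N) = ((1 : C) : C ⧸ N) :=
        DFunLike.congr_fun (MonoidHom.mem_ker.1 hy) ((1 : C) : C ⧸ N)
      rw [MulAction.Quotient.smul_coe, QuotientGroup.eq] at h2
      simpa using h2
    have hd : K.relIndex N ∣ 2 ^ n := by
      have := Subgroup.relIndex_dvd_index_of_le (H := K) (K := N) Subgroup.le_normalizer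
      rwa [show K.index = 2 ^ n by rw [hK, index_stabilizer_of_transitive, hX]] at this
    haveI : (K.subgroupOf N).Normal := Subgroup.normal_in_normalizer
    have hmem : y ^ K.relIndex N ∈ K := by
      have := Subgroup.pow_index_mem (K.subgroupOf N) (⟨y, hyN⟩ : N)
      rwa [Subgroup.mem_subgroupOf, Subgroup.coe_pow] at this
    obtain ⟨i, -, hi⟩ := (Nat.dvd_prime_pow Nat.prime_two).1 hd
    rw [hi] at hmem
    have hcop : (2 ^ i).Coprime (orderOf y) := Nat.Coprime.pow_left i (Nat.coprime_two_left.2 hyo)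
    obtain ⟨m, hm⟩ := exists_pow_eq_self_of_coprime hcop
    rw [← hm]
    exact pow_mem hmem m
  have hinj : Function.Injective (f.comp K.subtype) := by
    rw [injective_iff_map_eq_one]
    intro k hk
    refine Subtype.ext (FaithfulSMul.eq_of_smul_eq_smul (α := X) fun x => ?_)
    obtain ⟨c, rfl⟩ := exists_smul_eq C x₀ x
    have ho : Odd (orderOf (c⁻¹ * (k : C) * c)) := by
      rw [show c⁻¹ * (k : C) * c = (MulAut.conj c⁻¹) (k : C) by simp, MulEquiv.orderOf_eq,
        Subgroup.orderOf_coe]
      exact hodd.of_dvd_nat (orderOf_dvd_natCard k)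
    have hker : c⁻¹ * (k : C) * c ∈ f.ker := by
      have := (MonoidHom.normal_ker f).conj_mem (k : C) hk c⁻¹
      rwa [inv_inv] at this
    have h := mem_stabilizer_iff.1 (hmemK _ hker ho)
    show (k : C) • c • x₀ = (1 : C) • c • x₀
    rw [one_smul]
    conv_rhs => rw [← h]
    simp only [mul_smul, smul_inv_smul]
  refine (Subgroup.card_dvd_of_injective _ hinj).trans (dvd_of_eq ?_)
  rw [Nat.card_perm, ← Subgroup.index_eq_card, hb]

theorem card_stabilizer_dvd_factorial_eight [Finite X] {n : ℕ} (hX : Nat.card X = 2 ^ n) (x₀ : X)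
    (hodd : Odd (Nat.card (MulAction.stabilizer C x₀)))
    (hbig : 3 < Nat.card (MulAction.stabilizer C x₀))
    (hR : Nat.card X ≤
      3 * Nat.card (MulAction.orbitRel.Quotient (MulAction.stabilizer C x₀) X))
    (hfix : ∀ c : C, c ≠ 1 → 2 * Nat.card (MulAction.fixedBy X c) ≤ Nat.card X) :
    Nat.card (MulAction.stabilizer C x₀) ∣ Nat.factorial 8 := by
  classical
  set K := stabilizer C x₀ with hK
  set N := Subgroup.normalizer (K : Set C) with hN
  have hKi : K.index = 2 ^ n := by rw [hK, index_stabilizer_of_transitive, hX]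
  have hn1 : {y | subsize C x₀ y = 1}.ncard = K.relIndex N := by
    rw [← orbit_normalizer_eq x₀, ← index_stabilizer, Subgroup.relIndex]
    congr 1
  have hsplit : K.relIndex N * N.index = 2 ^ n := by
    rw [Subgroup.relIndex_mul_index Subgroup.le_normalizer, hKi]
  by_cases hb : N.index ≤ 8
  · exact (card_stabilizer_dvd_factorial_of_index x₀ hX hodd rfl).trans (Nat.factorial_dvd_factorial hb)
  exfalso
  have hb16 : 16 ≤ N.index := by
    obtain ⟨i, -, hi⟩ := (Nat.dvd_prime_pow Nat.prime_two).1 (Dvd.intro_left _ hsplit)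
    rw [hi] at hb ⊢
    have : 4 ≤ i := by
      by_contra h
      exact hb ((Nat.pow_le_pow_right two_pos (show i ≤ 3 by omega)).trans (by norm_num))
    exact (show 16 = 2 ^ 4 by norm_num).le.trans (Nat.pow_le_pow_right two_pos this)
  have hpos : 0 < {y | subsize C x₀ y = 1}.ncard := by
    rw [hn1]
    exact Nat.pos_of_ne_zero (show (K.subgroupOf N).index ≠ 0 from Subgroup.index_ne_zero_of_finite)
  have h16 : 16 * {y | subsize C x₀ y = 1}.ncard ≤ Nat.card X := by
    rw [hn1, hX, ← hsplit, mul_comm]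
    exact Nat.mul_le_mul_left _ hb16
  have hoddy : ∀ y, Odd (subsize C x₀ y) := fun y => by
    rw [subsize_eq]
    exact hodd.of_dvd_nat (Subgroup.relIndex_dvd_card _ _)
  obtain ⟨h5, h9⟩ := count_large x₀ hoddy hR
  -- elements fixing all small suborbits are trivial
  have htriv : ∀ c : C, (∀ y, subsize C x₀ y < 5 → c • y = y) → c = 1 := by
    intro c hc
    by_contra hne
    have h1 := hfix c hne
    have h2 : {y | subsize C x₀ y < 5}.ncard ≤ Nat.card (fixedBy X c) :=
      Set.ncard_le_ncard (fun y hy => hc y hy)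
    have h3 := Set.ncard_add_ncard_compl {y : X | subsize C x₀ y < 5}
    have e : {y : X | subsize C x₀ y < 5}ᶜ = {y | 5 ≤ subsize C x₀ y} := by ext; simp
    rw [e] at h3
    omega
  have hsmall : ∀ y, subsize C x₀ y < 5 → ∀ a ∈ K, ∀ b ∈ K,
      a ^ 3 • y = y ∧ ⁅a, b⁆ • y = y := by
    intro y hy a ha b hb
    set H := (stabilizer C y).subgroupOf K with hH
    have hi : H.index = subsize C x₀ y := by rw [subsize_eq]; rfl
    have hodd' := hoddy y
    rcases (show subsize C x₀ y = 1 ∨ subsize C x₀ y = 3 by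
      obtain ⟨j, hj⟩ := hodd'; omega) with h1 | h3
    · have hle : K ≤ stabilizer C y := Subgroup.relIndex_eq_one.1 (by rw [← subsize_eq, h1])
      exact ⟨mem_stabilizer_iff.1 (hle (pow_mem ha 3)), mem_stabilizer_iff.1 (hle (by
        rw [commutatorElement_def]
        exact mul_mem (mul_mem (mul_mem ha hb) (inv_mem ha)) (inv_mem hb)))⟩
    · haveI hHn : H.Normal := by
        refine Subgroup.normal_of_index_eq_minFac_card ?_
        rw [hi, h3]
        symm
        refine le_antisymm (Nat.minFac_le_of_dvd (by norm_num) ?_) ?_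
        · exact h3 ▸ hi ▸ H.index_dvd_card
        · have hne : Nat.card K ≠ 1 := by omega
          rcases (Nat.minFac_prime hne).eq_two_or_odd with h | h
          · have := Nat.minFac_dvd (Nat.card K)
            rw [h] at this
            exact absurd this hodd.not_two_dvd_nat
          · have := (Nat.minFac_prime hne).two_le
            omega
      refine ⟨mem_stabilizer_iff.1 ?_, mem_stabilizer_iff.1 ?_⟩
      · have := H.pow_index_mem (⟨a, ha⟩ : K)
        rwa [hi, h3, hH, Subgroup.mem_subgroupOf] at this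
      · haveI : Fact (Nat.Prime 3) := ⟨Nat.prime_three⟩
        haveI : IsCyclic (K ⧸ H) := isCyclic_of_prime_card (p := 3) (by
          rw [← Subgroup.index_eq_card, hi, h3])
        have : ⁅(⟨a, ha⟩ : K), (⟨b, hb⟩ : K)⁆ ∈ H := by
          rw [← QuotientGroup.eq_one_iff, ← QuotientGroup.mk'_apply, map_commutatorElement,
            commutatorElement_eq_one_iff_mul_comm]
          exact IsCyclic.commGroup.mul_comm _ _
        exact this
  have hexp : ∀ a ∈ K, a ^ 3 = 1 := fun a ha => htriv _ fun y hy => (hsmall y hy a ha a ha).1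
  have hcomm : ∀ a ∈ K, ∀ b ∈ K, a * b = b * a := fun a ha b hb =>
    commutatorElement_eq_one_iff_mul_comm.1 (htriv _ fun y hy => (hsmall y hy a ha b hb).2)
  haveI : Fact (Nat.Prime 3) := ⟨Nat.prime_three⟩
  have hKp : IsPGroup 3 K := fun k => ⟨1, Subtype.ext (by
    rw [pow_one, Subgroup.coe_pow, hexp k k.2, Subgroup.coe_one])⟩
  obtain ⟨e, he⟩ := IsPGroup.iff_card.1 hKp
  have h59 : ∀ y, 5 ≤ subsize C x₀ y → 9 ≤ subsize C x₀ y := by
    intro y hy
    obtain ⟨i, -, hi⟩ := (Nat.dvd_prime_pow Nat.prime_three).1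
      (he ▸ (subsize_eq (C := C) x₀ y).symm ▸ Subgroup.relIndex_dvd_card _ _ :
        subsize C x₀ y ∣ 3 ^ e)
    rw [hi] at hy ⊢
    have : 2 ≤ i := by
      by_contra h
      have := Nat.pow_le_pow_right (show 0 < 3 by norm_num) (show i ≤ 1 by omega)
      omega
    exact (show 9 = 3 ^ 2 by norm_num).le.trans (Nat.pow_le_pow_right (by norm_num) this)
  have h59' : {y | 5 ≤ subsize C x₀ y}.ncard ≤ {y | 9 ≤ subsize C x₀ y}.ncard :=
    Set.ncard_le_ncard fun y hy => h59 y hy
  obtain ⟨b₁, hb₁⟩ : ∃ b₁, subsize C x₀ b₁ = 3 := by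
    by_contra hc
    push Not at hc
    have hu : (Set.univ : Set X) ⊆ {y | subsize C x₀ y = 1} ∪ {y | 5 ≤ subsize C x₀ y} := fun y _ => by
      have h' := hc y
      obtain ⟨j, hj⟩ := hoddy y
      simp only [Set.mem_union, Set.mem_ofPred_eq]
      omega
    have := (Set.ncard_le_ncard hu).trans (Set.ncard_union_le _ _)
    rw [Set.ncard_univ] at this
    omega
  obtain ⟨c₁, hc₁⟩ := exists_smul_eq C x₀ b₁
  have hcount : {y | 9 ≤ subsize C b₁ y}.ncard = {y | 9 ≤ subsize C x₀ y}.ncard := by
    have : {y | 9 ≤ subsize C b₁ y} = (fun z => c₁ • z) '' {y | 9 ≤ subsize C x₀ y} := by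
      ext y
      simp only [Set.mem_ofPred_eq, Set.mem_image]
      constructor
      · intro hy
        refine ⟨c₁⁻¹ • y, ?_, smul_inv_smul _ _⟩
        rwa [← subsize_smul c₁, hc₁, smul_inv_smul]
      · rintro ⟨z, hz, rfl⟩
        rwa [← hc₁, subsize_smul]
    rw [this, Set.ncard_image_of_injective _ (MulAction.injective c₁)]
  set A := stabilizer C b₁ ⊓ K with hA
  have hcardAt : ∀ u y : X, Nat.card (stabilizer C y ⊓ stabilizer C u : Subgroup C) * subsize C u y =
      Nat.card (stabilizer C u) := by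
    intro u y
    rw [subsize_eq, ← Subgroup.inf_relIndex_right, Subgroup.relIndex,
      ← Nat.card_congr (Subgroup.subgroupOfEquivOfLe (inf_le_right (a := stabilizer C y))).toEquiv,
      Subgroup.card_mul_index]
  have hKu : ∀ u : X, Nat.card (stabilizer C u) = Nat.card K := fun u => by
    have h1 := (stabilizer C u).card_mul_index
    have h2 := K.card_mul_index
    rw [index_stabilizer_of_transitive, hX] at h1
    rw [hKi, ← h1] at h2
    exact (Nat.eq_of_mul_eq_mul_right (Nat.two_pow_pos n) h2).symm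
  have hcommU : ∀ u : X, ∀ a ∈ stabilizer C u, ∀ b ∈ stabilizer C u, a * b = b * a ∧ a ^ 3 = 1 := by
    intro u a ha b hb
    obtain ⟨c, rfl⟩ := exists_smul_eq C x₀ u
    have hmem : ∀ g ∈ stabilizer C (c • x₀), c⁻¹ * g * c ∈ K := fun g hg => by
      rw [hK, mem_stabilizer_iff, mul_smul, mul_smul, mem_stabilizer_iff.1 hg, inv_smul_smul]
    have h1 := hcomm _ (hmem a ha) _ (hmem b hb)
    have h3 := hexp _ (hmem a ha)
    refine ⟨?_, ?_⟩
    · calc a * b = c * ((c⁻¹ * a * c) * (c⁻¹ * b * c)) * c⁻¹ := by group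
        _ = c * ((c⁻¹ * b * c) * (c⁻¹ * a * c)) * c⁻¹ := by rw [h1]
        _ = b * a := by group
    · calc a ^ 3 = c * (c⁻¹ * a * c) ^ 3 * c⁻¹ := by
            rw [← conj_pow]; group
        _ = 1 := by rw [h3, mul_one, mul_inv_cancel]
  -- `A` fixes most points
  have hgood : ∀ y, subsize C x₀ y < 5 → subsize C b₁ y < 9 → ∀ g ∈ A, g • y = y := by
    intro y hy hy9 g hg
    have hgK : g ∈ K := (Subgroup.mem_inf.1 hg).2
    rcases (show subsize C x₀ y = 1 ∨ subsize C x₀ y = 3 by
      obtain ⟨j, hj⟩ := hoddy y; omega) with h1 | h3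
    · rw [subsize_eq, Subgroup.relIndex_eq_one] at h1
      exact mem_stabilizer_iff.1 (h1 hgK)
    by_contra hgy
    set B := stabilizer C y ⊓ K with hB
    set D := stabilizer C y ⊓ stabilizer C b₁ with hD
    have hA3 : Nat.card A * 3 = Nat.card K := hb₁ ▸ hcardAt x₀ b₁
    have hB3 : Nat.card B * 3 = Nat.card K := h3 ▸ hcardAt x₀ y
    have hD3 : Nat.card D * subsize C b₁ y = Nat.card K := (hcardAt b₁ y).trans (hKu b₁)
    have hs1 : subsize C b₁ y = 3 := by
      have hdvd : subsize C b₁ y ∣ 3 ^ e := ⟨Nat.card D, by rw [← he, ← hD3, mul_comm]⟩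
      obtain ⟨i, -, hi⟩ := (Nat.dvd_prime_pow Nat.prime_three).1 hdvd
      rw [hi] at hy9 ⊢
      have : i < 2 := by
        by_contra h
        have := Nat.pow_le_pow_right (show 0 < 3 by norm_num) (show 2 ≤ i by omega)
        omega
      rcases (show i = 0 ∨ i = 1 by omega) with rfl | rfl
      · refine absurd ?_ hgy
        rw [pow_zero, subsize_eq, Subgroup.relIndex_eq_one] at hi
        exact mem_stabilizer_iff.1 (hi (Subgroup.mem_inf.1 hg).1)
      · rfl
    rw [hs1] at hD3
    have hAB : ¬ A ≤ stabilizer C y := fun h => hgy (mem_stabilizer_iff.1 (h hg))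
    by_cases hDK : D ≤ K
    · have hle : D ≤ A := le_inf inf_le_right hDK
      have : D = A := Subgroup.eq_of_le_of_card_ge hle (by omega)
      exact hAB (this ▸ inf_le_left)
    · obtain ⟨d, hdD, hdK⟩ := SetLike.not_le_iff_exists.1 hDK
      obtain ⟨hd2, hd1⟩ := Subgroup.mem_inf.1 hdD
      have hsup : A ⊔ B = K := by
        refine le_antisymm (sup_le inf_le_right inf_le_right) ?_
        have h2 : Nat.card B < Nat.card (A ⊔ B : Subgroup C) := by
          rcases (le_sup_right : B ≤ A ⊔ B).lt_or_eq with h | h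
          · exact Set.Finite.card_lt_card (Set.toFinite _) (SetLike.coe_ssubset_coe.2 h)
          · refine absurd ?_ hAB
            exact (le_sup_left.trans h.ge).trans inf_le_left
        have h4 : Nat.card (A ⊔ B : Subgroup C) ∣ Nat.card K :=
          Subgroup.card_dvd_of_le (sup_le inf_le_right inf_le_right)
        have h6 : Nat.card B ∣ Nat.card (A ⊔ B : Subgroup C) := Subgroup.card_dvd_of_le le_sup_right
        obtain ⟨k, hk⟩ := h6
        rw [hk, ← hB3, Nat.mul_dvd_mul_iff_left Nat.card_pos] at h4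
        have hk3 : k = 3 := ((Nat.dvd_prime Nat.prime_three).1 h4).resolve_left fun h => by
          rw [h, mul_one] at hk
          omega
        exact (Subgroup.eq_of_le_of_card_ge (sup_le inf_le_right inf_le_right)
          (by rw [hk, hk3, hB3])).ge
      have hcentK : K ≤ Subgroup.centralizer {d} := by
        rw [← hsup]
        refine sup_le (fun a ha => Subgroup.mem_centralizer_singleton_iff.2 ?_)
          fun a ha => Subgroup.mem_centralizer_singleton_iff.2 ?_
        · exact (hcommU b₁ a (Subgroup.mem_inf.1 ha).1 d hd1).1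
        · exact (hcommU y a (Subgroup.mem_inf.1 ha).1 d hd2).1
      have hP : IsPGroup 3 (Subgroup.zpowers d) := IsPGroup.of_card (n := 1) (by
        rw [Nat.card_zpowers, pow_one]
        exact orderOf_eq_prime (hcommU b₁ d hd1 d hd1).2 fun h => hdK (h ▸ K.one_mem))
      have hnor : Subgroup.zpowers d ≤ Subgroup.normalizer (K : Set C) := by
        refine Subgroup.zpowers_le.2 (Subgroup.mem_normalizer_fintype fun k hk => ?_)
        show d * k * d⁻¹ ∈ K
        rw [← Subgroup.mem_centralizer_singleton_iff.1 (hcentK hk), mul_inv_cancel_right]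
        exact hk
      obtain ⟨i, hi⟩ := IsPGroup.iff_card.1 (hP.to_sup_of_normal_right' hKp hnor)
      have hlt : Nat.card K < Nat.card (Subgroup.zpowers d ⊔ K : Subgroup C) := by
        refine Set.Finite.card_lt_card (Set.toFinite _) (SetLike.coe_ssubset_coe.2
          (lt_of_le_of_ne le_sup_right fun h => ?_))
        exact hdK (h.ge (Subgroup.mem_sup_left (Subgroup.mem_zpowers d)))
      have hdvd := (Subgroup.zpowers d ⊔ K).card_subgroup_dvd_card
      rw [← K.card_mul_index, hKi, hi, he] at hdvd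
      rw [hi, he] at hlt
      have hei : e + 1 ≤ i := (Nat.pow_lt_pow_iff_right (by norm_num)).1 hlt
      have h3dvd : 3 ^ e * 3 ∣ 3 ^ e * 2 ^ n := by
        rw [← pow_succ]
        exact (pow_dvd_pow 3 hei).trans hdvd
      have := Nat.prime_three.dvd_of_dvd_pow ((Nat.mul_dvd_mul_iff_left (by positivity)).1 h3dvd)
      norm_num at this
  obtain ⟨g, hgA, hg1⟩ : ∃ g ∈ A, g ≠ 1 := by
    rcases Subgroup.bot_or_exists_ne_one A with h | h
    · exfalso
      have hA3 : Nat.card A * 3 = Nat.card K := hb₁ ▸ hcardAt x₀ b₁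
      rw [h, Subgroup.card_bot] at hA3
      omega
    · exact h
  have hsub : ({y | 5 ≤ subsize C x₀ y} ∪ {y | 9 ≤ subsize C b₁ y})ᶜ ⊆ fixedBy X g := fun y hy => by
    simp only [Set.mem_compl_iff, Set.mem_union, Set.mem_ofPred_eq, not_or, not_le] at hy
    exact hgood y hy.1 hy.2 g hgA
  have h1 : _ ≤ Nat.card (fixedBy X g) := Set.ncard_le_ncard hsub
  have h2 := Set.ncard_add_ncard_compl ({y | 5 ≤ subsize C x₀ y} ∪ {y | 9 ≤ subsize C b₁ y})
  have h3 := Set.ncard_union_le {y | 5 ≤ subsize C x₀ y} {y | 9 ≤ subsize C b₁ y}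
  have h4 := hfix g hg1
  omega

end CfsgLib.Perm.ThreeP
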