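import Cfsg.Agent.Lib.Perm.ThreeP.RankThree

/-!
The row of degree `2p - 1`: the intersection number and the exponent of two.
-/

set_option autoImplicit false
set_option linter.unusedSectionVars false
set_option linter.style.haveILetI false

namespace CfsgLib.Perm.ThreeP

open MulAction Cfsg CfsgLib CfsgLib.Block CfsgLib.Block.BrauerReynolds
open scoped _root_.Classical

universe u v

variable {G : Type u} [Group G] [Finite G] {Ω : Type v} [MulAction G Ω] [Finite Ω]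
  [IsPretransitive G Ω] [FaithfulSMul G Ω] {p : ℕ}
  [hpf : Fact p.Prime] {P : Sylow p G} {x : G} {χ ψ : IrrCharacter G} {val : G → ℤ}

theorem Sub.invariant_val {α : Ω} {A : Set Ω} (hA : Sub G α A) {β₁ β₂ : Ω} (h1 : β₁ ∈ A)
    (h2 : β₂ ∉ A) (h2' : β₂ ≠ α) (F : Ω → Ω → ℤ) (hF : ∀ (g : G) β γ, F (g • β) (g • γ) = F β γ)
    (β γ : Ω) :
    F β γ = if γ = β then F α α else if Rel G α A β γ then F α β₁ else F α β₂ := by
  obtain ⟨g, rfl⟩ := exists_smul_eq G α β
  obtain ⟨δ, rfl⟩ : ∃ δ, g • δ = γ := ⟨g⁻¹ • γ, smul_inv_smul _ _⟩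
  rw [hF]
  have hrel : Rel G α A (g • α) (g • δ) ↔ δ ∈ A := by rw [rel_smul_iff, rel_base_iff hA.invar]
  have hfix : ∀ h ∈ stabilizer G α, ∀ ε, F α (h • ε) = F α ε := fun h hh ε => by
    conv_lhs => rw [show α = h • α from (show h • α = α from hh).symm]
    exact hF h α ε
  by_cases hδ : δ = α
  · rw [if_pos (by rw [hδ]), hδ]
  rw [if_neg (fun h => hδ (MulAction.injective g h))]
  by_cases hδA : δ ∈ A
  · obtain ⟨h, hh, rfl⟩ := hA.trans β₁ h1 δ hδA
    rw [if_pos (hrel.2 hδA), hfix h hh]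
  · obtain ⟨h, hh, rfl⟩ := hA.trans' β₂ h2 h2' δ hδA hδ
    rw [if_neg (fun h' => hδA (hrel.1 h')), hfix h hh]

theorem semiregular_dvd (S₀ : Subgroup G) (T W : Set Ω) (hT : ∀ s ∈ S₀, s ≠ 1 → fixedBy Ω s ⊆ T)
    (hTi : ∀ s ∈ S₀, ∀ b ∈ T, s • b = b) (hW : ∀ s ∈ S₀, ∀ b ∈ W, s • b ∈ W) :
    (Nat.card S₀ : ℤ) ∣ (W.ncard : ℤ) - (W ∩ T).ncard := by
  let Wm : SubMulAction S₀ Ω :=
    { carrier := W \ T
      smul_mem' := fun s b hb => ⟨hW _ s.2 _ hb.1, fun h => hb.2 (by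
        have := hTi _ (S₀.inv_mem s.2) _ h
        rw [Subgroup.smul_def, inv_smul_smul] at this
        rw [this]; exact h)⟩ }
  haveI : Fintype S₀ := Fintype.ofFinite _
  haveI : Fintype Wm := Fintype.ofFinite _
  haveI := Fintype.ofFinite (orbitRel.Quotient S₀ Wm)
  have hburn := sum_card_fixedBy_eq_card_orbits_mul_card_group S₀ Wm
  rw [← Finset.add_sum_erase _ _ (Finset.mem_univ 1), Finset.sum_eq_zero (s := Finset.univ.erase 1)
    (fun s hs => Fintype.card_eq_zero_iff.2 ⟨fun b => b.1.2.2 (hT _ s.2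
      (fun h => (Finset.mem_erase.1 hs).1 (Subtype.ext h)) (congrArg Subtype.val b.2))⟩),
    add_zero, ← Nat.card_eq_fintype_card, fixedBy_one_eq_univ, Nat.card_congr (Equiv.Set.univ Wm)] at hburn
  have e : Nat.card Wm = (W \ T).ncard := Nat.card_coe_set_eq (W \ T)
  rw [e] at hburn
  have h := Set.ncard_inter_add_ncard_sdiff_eq_ncard W T (Set.toFinite _)
  rw [show (W.ncard : ℤ) - (W ∩ T).ncard = ((W \ T).ncard : ℤ) by omega, Int.natCast_dvd_natCast, hburn,
    ← Nat.card_eq_fintype_card (α := S₀)]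
  exact dvd_mul_left _ _

theorem lambda_dvd {p ρ l N : ℤ} (h1 : N ∣ ρ - 1) (h2 : N ∣ p - 1) (h3 : N ∣ l - 1)
    (hl : l = 2 * ρ * (2 * ρ + 1) * (3 * ρ + 1) ^ 2 - 2 * ρ * (3 * ρ + 1) +
      2 * (p + ρ - 1) * (2 * ρ + 1) - (3 * p - 2) * (2 * ρ + 1) ^ 2) : N ∣ 84 := by
  have key : ∀ z : ℤ, N ∣ z → (z : ZMod N.natAbs) = 0 := fun z hz =>
    (ZMod.intCast_zmod_eq_zero_iff_dvd z _).2 (Int.natAbs_dvd.2 hz)
  have a1 := key _ h1
  have a2 := key _ h2
  have a3 := key _ h3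
  push_cast [sub_eq_zero] at a1 a2 a3
  have e := congrArg (fun z : ℤ => (z : ZMod N.natAbs)) hl
  simp only [Int.cast_add, Int.cast_sub, Int.cast_mul, Int.cast_pow, Int.cast_ofNat, Int.cast_one,
    a1, a2, a3] at e
  refine Int.natAbs_dvd.1 ((ZMod.intCast_zmod_eq_zero_iff_dvd 84 _).1 ?_)
  push_cast
  linear_combination -e

variable [Fintype Ω]

theorem Sub.ncard_pos {α : Ω} {A : Set Ω} (hA : Sub G α A) (hΩ : Nat.card Ω = 3 * p) :
    0 < A.ncard ∧ A.ncard + 1 < 3 * p := by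
  refine ⟨(Set.ncard_pos (Set.toFinite _)).2 hA.ne, ?_⟩
  obtain ⟨δ, hδ, hδα⟩ := hA.ne'
  have h := Set.ncard_le_ncard (Set.subset_univ (insert δ (insert α A))) (Set.toFinite _)
  rw [Set.ncard_univ, hΩ, Set.ncard_insert_of_notMem
    (fun h => (Set.mem_insert_iff.1 h).elim hδα hδ) (Set.toFinite _),
    Set.ncard_insert_of_notMem hA.not_mem (Set.toFinite _)] at h
  omega

/-- The suborbit with one of the three orbits of an element of order `p`. -/
theorem Mid.exists_one [IsSimpleGroup G] [Fintype G] (M : Mid Ω p x χ val ψ) (H : Hyp Ω p P)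
    (h3 : ∀ v : G, orderOf v = 2 → fx Ω v = 3) {u : G} (hu : orderOf u = 2) {r : ℕ}
    (hF : MidFacts Ω p val r u) (α : Ω) :
    ∃ (A : Set Ω) (β₁ β₂ : Ω), Sub G α A ∧ β₁ ∈ A ∧ β₂ ∉ A ∧ β₂ ≠ α ∧
      Nat.card {β : Ω // Rel G α A β (x • β)} = p ∧ (swc G α β₁ : ℤ) ≠ swc G α β₂ ∧
      (2 * (p : ℤ) = 6 * ((A.ncard : ℤ) - p) ^ 2 + 3 * ((A.ncard : ℤ) - p) + 1) ∧
      (swc G α β₁ : ℤ) = 2 * ((A.ncard : ℤ) - p) * ((swc G α β₂ : ℤ) - swc G α β₁) ∧
      (swc G α β₂ : ℤ) = (2 * ((A.ncard : ℤ) - p) + 1) * ((swc G α β₂ : ℤ) - swc G α β₁) ∧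
      (3 * ((A.ncard : ℤ) - p) + 1) * ((swc G α β₂ : ℤ) - swc G α β₁) = (r : ℤ) * (p - 1) := by
  obtain ⟨A, hA, hB⟩ := M.exists_sub H α
  obtain ⟨β₁, h1⟩ := hA.ne
  obtain ⟨β₂, h2, h2'⟩ := hA.ne'
  have h1' : β₁ ≠ α := fun h => hA.not_mem (h ▸ h1)
  have h1B : β₁ ∉ {δ | δ ∉ A ∧ δ ≠ α} := fun h => h.1 h1
  have hp5 := H.five_le
  obtain ⟨-, -, e1, e2, j, hj, hjc, e3⟩ := hA.equations M H h3 hu hF h1 h2 h2'
  obtain ⟨hpos, hlt⟩ := hA.ncard_pos H.card_Ω
  obtain ⟨hj12, hne, hone⟩ := sub_arith (p := (p : ℤ)) (by omega) (by omega) (by omega)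
    (by exact_mod_cast hF.r_pos) (by omega) (by omega) e1 e2 e3
  rcases hj12 with hj1 | hj2
  · obtain ⟨q1, q2, q3, q4⟩ := hone hj1
    exact ⟨A, β₁, β₂, hA, h1, h2, h2', by rw [hjc, show j = 1 by omega, one_mul], hne, q1, q2, q3, q4⟩
  · obtain ⟨-, -, f1, f2, j', hj', hjc', f3⟩ := hB.equations M H h3 hu hF
      (β₁ := β₂) (β₂ := β₁) ⟨h2, h2'⟩ h1B h1'
    obtain ⟨hpos', hlt'⟩ := hB.ncard_pos H.card_Ω
    obtain ⟨-, hne', hone'⟩ := sub_arith (p := (p : ℤ)) (by omega) (by omega) (by omega)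
      (by exact_mod_cast hF.r_pos) (by omega) (by omega) f1 f2 f3
    have hj1' : (j' : ℤ) = 1 := by
      have : ((j : ℤ) + j' - 3) * ((swc G α β₁ : ℤ) - swc G α β₂) = 0 := by
        linear_combination e3 - f3
      have := (mul_eq_zero.1 this).resolve_right (sub_ne_zero.2 hne)
      omega
    obtain ⟨q1, q2, q3, q4⟩ := hone' hj1'
    exact ⟨_, β₂, β₁, hB, ⟨h2, h2'⟩, h1B, h1', by rw [hjc', show j' = 1 by omega, one_mul], hne',
      q1, q2, q3, q4⟩

set_option maxHeartbeats 1000000 in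
/-- The parameters of the suborbits. -/
theorem Mid.suborbit [IsSimpleGroup G] (M : Mid Ω p x χ val ψ) (H : Hyp Ω p P)
    (h3 : ∀ v : G, orderOf v = 2 → fx Ω v = 3) {u : G} (hu : orderOf u = 2) {r : ℕ}
    (hF : MidFacts Ω p val r u) :
    ∃ (α : Ω) (A : Set Ω) (ρ : ℤ), Sub G α A ∧ (A.ncard : ℤ) = p + ρ ∧
      2 * (p : ℤ) = 6 * ρ ^ 2 + 3 * ρ + 1 ∧ twoExp (p - 1) = 2 := by
  haveI : Fact (Nat.Prime 2) := ⟨Nat.prime_two⟩
  haveI : Fintype G := Fintype.ofFinite G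
  have hp5 := H.five_le
  obtain ⟨S, α, β, γ, huS, hSC, hset, hαβ, hαγ, hβγ, hSα, hle, hdvd, hfix⟩ := H.triangle h3 hu
  set d := twoExp (p - 1) with hd
  have hd2 : 2 ≤ d := (le_twoExp_iff (by omega)).2 (by have := hF.four_dvd; norm_num; exact this)
  set S₀ := (S : Subgroup G) ⊓ stabilizer G β with hS₀
  have hScard : Nat.card (S : Subgroup G) = 2 ^ (d + 1) := by
    rw [S.card_eq_multiplicity]; exact congrArg _ hF.twoExp_G
  have hS₀card : Nat.card S₀ = 2 ^ d := by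
    obtain ⟨k, hk⟩ := IsPGroup.iff_card.1 (S.isPGroup'.to_le (inf_le_left : S₀ ≤ S))
    have h1 : k ≤ twoExp (3 * p - 3) := (le_twoExp_iff (by omega)).2 (hk ▸ hdvd)
    rw [show 3 * p - 3 = 3 * (p - 1) by omega, twoExp_mul (by omega) (by omega),
      twoExp_odd (show 3 % 2 = 1 by norm_num), zero_add] at h1
    rw [hScard, hk, ← pow_succ'] at hle
    have := (Nat.pow_le_pow_iff_right (by norm_num)).1 hle
    rw [hk, show k = d by omega]
  have hTu : ∀ s ∈ (S : Subgroup G), ∀ b ∈ ({α, β, γ} : Set Ω), s • b ∈ ({α, β, γ} : Set Ω) := by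
    intro s hs b hb
    rw [← hset] at hb ⊢
    rw [mem_fixedBy, smul_smul, ← Subgroup.mem_centralizer_singleton_iff.1 (hSC hs), mul_smul,
      (hb : u • b = b)]
  obtain ⟨s₁, hs₁, hs₁β⟩ : ∃ s ∈ (S : Subgroup G), s • β = γ := by
    by_contra hno
    push Not at hno
    have hall : (S : Subgroup G) ≤ S₀ := fun s hs => ⟨hs, by
      rcases hTu s hs β (by simp) with h | h | h
      · exact absurd (MulAction.injective s (h.trans (hSα s hs).symm)) hαβ.symm
      · exact h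
      · exact absurd h (hno s hs)⟩
    have := Subgroup.card_dvd_of_le hall
    rw [hScard, hS₀card, Nat.pow_dvd_pow_iff_le_right (by norm_num)] at this
    omega
  have hsemi : ∀ W : Set Ω, (∀ s ∈ S₀, ∀ b ∈ W, s • b ∈ W) →
      ((2 : ℤ) ^ d) ∣ (W.ncard : ℤ) - (W ∩ {α, β, γ}).ncard := fun W hW => by
    have h := semiregular_dvd S₀ {α, β, γ} W (fun s hs hs1 => (hfix s hs.1 hs1 hs.2).le)
      (fun s hs b hb => by
        by_cases hs1 : s = 1
        · rw [hs1, one_smul]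
        · rw [← hfix s hs.1 hs1 hs.2] at hb
          exact hb) hW
    rw [hS₀card] at h
    exact_mod_cast h
  obtain ⟨A, β₁, β₂, hA, h1, h2, h2', hjc, hne, hq, hc1, hc2, hre⟩ := M.exists_one H h3 hu hF α
  obtain ⟨hc0, hJ, e1, e2, -⟩ := hA.equations M H h3 hu hF h1 h2 h2'
  set ρ := (A.ncard : ℤ) - p with hρ
  set c₁ := (swc G α β₁ : ℤ)
  set c₂ := (swc G α β₂ : ℤ)
  have hval := hA.swc_val h1 h2 h2'
  have hN4 : (4 : ℤ) ∣ 2 ^ d := by
    obtain ⟨k, hk⟩ := Nat.exists_eq_add_of_le hd2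
    rw [hk, pow_add]; norm_num
  have hNp : ((2 : ℤ) ^ d) ∣ (p : ℤ) - 1 := by
    have : ((2 ^ d : ℕ) : ℤ) ∣ ((p - 1 : ℕ) : ℤ) := Int.natCast_dvd_natCast.2 (Nat.ordProj_dvd _ _)
    rw [Nat.cast_sub (by omega)] at this
    push_cast at this
    exact this
  have hS₀α : ∀ s ∈ S₀, s • α = α := fun s hs => hSα s hs.1
  have hWA := hsemi A (fun s hs b hb => hA.invar s (hS₀α s hs) b hb)
  -- both moved points of the triangle lie in `A`
  have hsγ : s₁ • γ = β := by
    rcases hTu s₁ hs₁ γ (by simp) with h | h | h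
    · exact absurd (MulAction.injective s₁ (h.trans (hSα s₁ hs₁).symm)) hαγ.symm
    · exact h
    · exact absurd (MulAction.injective s₁ (hs₁β.trans h.symm)) hβγ
  have hβγA : β ∈ A ↔ γ ∈ A :=
    ⟨fun h => hs₁β ▸ hA.invar s₁ (hSα s₁ hs₁) β h, fun h => hsγ ▸ hA.invar s₁ (hSα s₁ hs₁) γ h⟩
  have hβA : β ∈ A := by
    by_contra hb
    have he : A ∩ {α, β, γ} = ∅ := by
      rw [Set.eq_empty_iff_forall_notMem]
      rintro z ⟨hz, rfl | rfl | rfl⟩
      exacts [hA.not_mem hz, hb hz, hb (hβγA.2 hz)]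
    rw [he, Set.ncard_empty, Nat.cast_zero, sub_zero] at hWA
    obtain ⟨t, ht⟩ := hN4.trans hWA
    obtain ⟨s, hs⟩ := hN4.trans hNp
    have hρ' : ρ = 4 * (t - s) - 1 := by omega
    rw [hρ'] at hq
    have : 2 * (p : ℤ) = 4 * (24 * (t - s) ^ 2 - 9 * (t - s) + 1) := by rw [hq]; ring
    have := H.odd
    omega
  have hγA := hβγA.1 hβA
  have hk2 : (A ∩ {α, β, γ}).ncard = 2 := by
    rw [show A ∩ {α, β, γ} = {β, γ} from ?_, Set.ncard_pair hβγ]
    ext z
    constructor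
    · rintro ⟨hz, rfl | rfl | rfl⟩
      · exact absurd hz hA.not_mem
      · simp
      · simp
    · rintro (rfl | rfl)
      · exact ⟨hβA, by simp⟩
      · exact ⟨hγA, by simp⟩
  rw [hk2] at hWA
  have hρ1 : ((2 : ℤ) ^ d) ∣ ρ - 1 := by
    have := dvd_sub hWA hNp
    push_cast at this
    rwa [show (A.ncard : ℤ) - 2 - ((p : ℤ) - 1) = ρ - 1 by rw [hρ]; ring] at this
  -- symmetry
  have hsymm : ∀ b c : Ω, Rel G α A b c → c ≠ b → Rel G α A c b := fun b c h hcb => by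
    by_contra hno
    have e := congrArg (fun n : ℕ => (n : ℤ)) (swc_comm (G := G) b c)
    simp only [hval b c, hval c b, if_neg hcb, if_neg hcb.symm, if_pos h, if_neg hno] at e
    exact hne e
  have hαrel : Rel G α A α β := (rel_base_iff hA.invar β).2 hβA
  have hβα : Rel G α A β α := hsymm α β hαrel hαβ.symm
  -- the suborbit of `β`
  set Aβ := {z | Rel G α A β z} with hAβ
  obtain ⟨g, hg⟩ := exists_smul_eq G α β
  have hAg : Aβ = (fun z => g • z) '' A := by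
    ext z
    change Rel G α A β z ↔ _
    rw [← hg]
    constructor
    · intro h
      refine ⟨g⁻¹ • z, (rel_base_iff hA.invar _).1 ?_, smul_inv_smul _ _⟩
      rwa [← rel_smul_iff g, smul_inv_smul]
    · rintro ⟨y, hy, rfl⟩
      exact (rel_smul_iff g _ _).2 ((rel_base_iff hA.invar _).2 hy)
  have hAβc : Aβ.ncard = A.ncard := by rw [hAg, Set.ncard_image_of_injective _ (MulAction.injective g)]
  have hββ : β ∉ Aβ := fun h => by
    rw [hAg] at h
    obtain ⟨y, hy, hy'⟩ := h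
    exact hA.not_mem (MulAction.injective g (hy'.trans hg.symm) ▸ hy)
  have hinvβ : ∀ s ∈ S₀, ∀ b ∈ Aβ, s • b ∈ Aβ := fun s hs b hb => by
    have h := (rel_smul_iff s _ _).2 hb
    rwa [(hs.2 : s • β = β)] at h
  have hWB := hsemi Aβ hinvβ
  rw [hAβc] at hWB
  have hγβ : γ ∈ Aβ := by
    by_contra hno
    have he : Aβ ∩ {α, β, γ} = {α} := by
      ext z
      constructor
      · rintro ⟨hz, rfl | rfl | rfl⟩
        · rfl
        · exact absurd hz hββ
        · exact absurd hz hno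
      · rintro rfl; exact ⟨hβα, by simp⟩
    rw [he, Set.ncard_singleton] at hWB
    have := hN4.trans (dvd_sub hWB hWA)
    omega
  -- the intersection number
  have hWL := hsemi (A ∩ Aβ) (fun s hs b hb => ⟨hA.invar s (hS₀α s hs) b hb.1, hinvβ s hs b hb.2⟩)
  rw [show A ∩ Aβ ∩ {α, β, γ} = {γ} from ?_, Set.ncard_singleton, Nat.cast_one] at hWL
  rotate_left
  · ext z
    constructor
    · rintro ⟨⟨hz, hz'⟩, rfl | rfl | rfl⟩
      exacts [absurd hz hA.not_mem, absurd hz' hββ, rfl]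
    · rintro rfl; exact ⟨⟨hγA, hγβ⟩, by simp⟩
  set l := ((A ∩ Aβ).ncard : ℤ) with hl
  -- the square of the swapper matrix
  set J := Finset.univ.filter (fun v : G => orderOf v = 2) with hJdef
  have hJc : (J.card : ℤ) = (p : ℤ) * (2 * p - 1) * r := by
    have : J.card = p * (2 * p - 1) * r := by
      rw [← hJ, Nat.card_eq_fintype_card, Fintype.card_subtype]
    rw [this]; push_cast [Nat.cast_sub (show 1 ≤ 2 * p by omega)]; ring
  have hswc : ∀ b c : Ω, (swc G b c : ℤ) = ∑ v ∈ J, if v • b = c then (1 : ℤ) else 0 := fun b c => by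
    rw [swc, Nat.card_eq_fintype_card, Fintype.card_subtype, Finset.sum_ite, Finset.sum_const_zero,
      add_zero, Finset.sum_const, nsmul_one]
    congr 2
    ext v; simp [hJdef]
  have hrow : ∀ b : Ω, ∑ c : Ω, (swc G b c : ℤ) = J.card := fun b => by
    simp only [hswc]; rw [Finset.sum_comm]; simp
  set X : Ω → Ω → ℤ := fun b c => ∑ z : Ω, (swc G b z : ℤ) * swc G z c with hX
  have hXinv : ∀ (g : G) b c, X (g • b) (g • c) = X b c := fun g b c =>
    (Fintype.sum_equiv (MulAction.toPerm g) _ _ fun z => by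
      rw [MulAction.toPerm_apply, swc_smul, swc_smul]).symm
  have hXval := hA.invariant_val h1 h2 h2' X hXinv
  have hXaa : X α α = ((2 * p - 1) * r) ^ 2 + ((A.ncard : ℤ) * c₁ ^ 2 +
      (3 * (p : ℤ) - 1 - A.ncard) * c₂ ^ 2) := by
    have e : X α α = ∑ z : Ω, (swc G α z : ℤ) ^ 2 :=
      Finset.sum_congr rfl fun z _ => by rw [swc_comm z α, sq]
    rw [e, hA.sum_split h1 h2 h2' (fun z => z ^ 2), H.card_Ω, hc0]
    push_cast; ring
  have hsplitX : ∑ c : Ω, X α c = X α α + (A.ncard : ℤ) * X α β₁ +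
      (3 * (p : ℤ) - 1 - A.ncard) * X α β₂ := by
    have e : ∀ c, X α c = X α β₂ + ((if c = α then X α α - X α β₂ else 0) +
        (if c ∈ A then X α β₁ - X α β₂ else 0)) := fun c => by
      rw [hXval α c]
      by_cases hc : c = α
      · subst hc
        rw [if_pos rfl, if_pos rfl, if_neg hA.not_mem]; ring
      · rw [if_neg hc, if_neg hc]
        by_cases hcA : c ∈ A
        · rw [if_pos ((rel_base_iff hA.invar c).2 hcA), if_pos hcA]; ring
        · rw [if_neg (fun h => hcA ((rel_base_iff hA.invar c).1 h)), if_neg hcA]; ring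
    rw [Finset.sum_congr rfl fun c _ => e c, Finset.sum_add_distrib, Finset.sum_add_distrib,
      Finset.sum_const, Finset.sum_ite_eq' Finset.univ α, if_pos (Finset.mem_univ _),
      ← Finset.sum_filter, Finset.sum_const, Finset.card_univ, ← Nat.card_eq_fintype_card, H.card_Ω,
      show (Finset.univ.filter (· ∈ A)).card = A.ncard by
        rw [Set.ncard_eq_toFinset_card']; congr 1; ext; simp]
    simp only [nsmul_eq_mul]
    push_cast
    ring
  have hsumX : ∑ c : Ω, X α c = (J.card : ℤ) ^ 2 := by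
    simp only [hX]
    rw [Finset.sum_comm]
    simp only [← Finset.mul_sum, hrow, ← Finset.sum_mul]
    ring
  -- the twist of the square
  have hXx : ∑ b : Ω, X b (x • b) = (p : ℤ) ^ 2 * r ^ 2 * ((2 * p - 1) ^ 2 - 1) := by
    have e : ∀ b c : Ω, X b c = ∑ v ∈ J, ∑ w ∈ J, if w • v • b = c then (1 : ℤ) else 0 := fun b c => by
      simp only [hX, hswc, Finset.sum_mul, ite_mul, one_mul, zero_mul]
      rw [Finset.sum_comm]
      refine Finset.sum_congr rfl fun v _ => ?_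
      rw [Finset.sum_ite_eq Finset.univ (v • b), if_pos (Finset.mem_univ _)]
    have hfx : ∀ g : G, (fx Ω g : ℤ) = ∑ b : Ω, if g • b = b then (1 : ℤ) else 0 := fun g => by
      rw [fx, Nat.card_eq_fintype_card, Finset.sum_ite, Finset.sum_const_zero,
        add_zero, Finset.sum_const, nsmul_one]
      congr 1
      exact Fintype.card_subtype _
    have e2 : ∑ b : Ω, X b (x • b) = ∑ w ∈ J, ∑ v ∈ J, (fx Ω (x⁻¹ * w * v) : ℤ) := by
      simp only [e, hfx]
      rw [Finset.sum_comm, Finset.sum_congr rfl fun v _ => Finset.sum_comm, Finset.sum_comm]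
      refine Finset.sum_congr rfl fun w _ => Finset.sum_congr rfl fun v _ =>
        Finset.sum_congr rfl fun b _ => if_congr ?_ rfl rfl
      rw [mul_smul, mul_smul, inv_smul_eq_iff]
    rw [e2]
    apply Int.cast_injective (α := ℂ)
    push_cast
    have hpsiu : (ψ : G → ℂ) u = 1 := by
      rw [M.psi_eq, h3 u hu, hF.val_even u (by rw [hu])]; norm_num
    have hC0 : (Nat.card (Subgroup.centralizer ({u} : Set G)) : ℂ) ≠ 0 :=
      Nat.cast_ne_zero.2 Nat.card_pos.ne'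
    have hf : (2 * (p : ℂ) - 1) ≠ 0 := by
      intro h0
      have : ((2 * p - 1 : ℕ) : ℂ) = 0 := by
        push_cast [Nat.cast_sub (show 1 ≤ 2 * p by omega)]; exact h0
      rw [Nat.cast_eq_zero] at this; omega
    have hf' : (p : ℂ) * 2 - 1 ≠ 0 := by rwa [mul_comm]
    have hp0 : (p : ℂ) ≠ 0 := Nat.cast_ne_zero.2 (by omega)
    have hxi : p ∣ orderOf x⁻¹ := by rw [orderOf_inv, M.row.x_ord]
    have hG := H.card_invol_mul hu
    rw [hJ] at hG
    have hGC : (Nat.card G : ℂ) = (p * (2 * (p : ℂ) - 1) * r) *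
        Nat.card (Subgroup.centralizer ({u} : Set G)) := by
      rw [← hG]; push_cast [Nat.cast_sub (show 1 ≤ 2 * p by omega)]; ring
    have hin : ∀ a : G, ∑ v ∈ J, (fx Ω (a * v) : ℂ) =
        (p * (2 * (p : ℂ) - 1) * r) * (1 + (val a : ℂ) / (2 * p - 1) + (ψ : G → ℂ) a / p) := fun a => by
      have h := H.sum_invol hu (fun v => (fx Ω (a * v) : ℂ))
      rw [M.sum_twist a u, hF.val_even u (by rw [hu]), hpsiu, hGC] at h
      refine mul_left_cancel₀ hC0 ?_
      rw [h]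
      push_cast [Nat.cast_sub (show 1 ≤ 2 * p by omega)]
      ring
    have hval' : ∑ w ∈ J, (val (x⁻¹ * w) : ℂ) = -((p : ℂ) * r) := by
      have h := H.sum_invol hu (fun v => (val (x⁻¹ * v) : ℂ))
      simp_rw [← M.row.val_eq] at h
      rw [BlockB.sum_irr_mul_conj, M.row.val_eq x⁻¹, M.row.val_eq u, M.row.val_eq 1, M.row.val_one,
        M.row.val_sing _ hxi, hF.val_even u (by rw [hu]), hGC] at h
      simp_rw [M.row.val_eq] at h
      refine mul_left_cancel₀ hC0 ?_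
      rw [h]
      push_cast [Nat.cast_sub (show 1 ≤ 2 * p by omega)]
      field_simp
      try ring
    have hpsi' : ∑ w ∈ J, (ψ : G → ℂ) (x⁻¹ * w) = 0 := by
      have h := H.sum_invol hu (fun v => (ψ : G → ℂ) (x⁻¹ * v))
      rw [BlockB.sum_irr_mul_conj, M.sing _ hxi, mul_zero, zero_mul, zero_div] at h
      exact (mul_eq_zero.1 h).resolve_left hC0
    rw [Finset.sum_congr rfl fun w _ => hin (x⁻¹ * w), ← Finset.mul_sum, Finset.sum_add_distrib,
      Finset.sum_add_distrib, ← Finset.sum_div, ← Finset.sum_div, hval', hpsi', Finset.sum_const,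
      nsmul_one, zero_div, add_zero, show (J.card : ℂ) = p * (2 * (p : ℂ) - 1) * r by
        exact_mod_cast congrArg (fun z : ℤ => (z : ℂ)) hJc]
    field_simp
    try ring
  have hXx' : ∑ b : Ω, X b (x • b) = (p : ℤ) * X α β₁ + 2 * (p : ℤ) * X α β₂ := by
    have hno : ∀ b : Ω, x • b ≠ b := fun b h => by
      have h0 := H.free (g := x) (by rw [M.row.x_ord])
      have : Nonempty (fixedBy Ω x) := ⟨⟨b, h⟩⟩
      exact Nat.card_pos.ne' h0
    have e : ∀ b, X b (x • b) = X α β₂ + if Rel G α A b (x • b) then X α β₁ - X α β₂ else 0 := fun b => by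
      rw [hXval b (x • b), if_neg (hno b)]
      split_ifs <;> ring
    rw [Finset.sum_congr rfl fun b _ => e b, Finset.sum_add_distrib, ← Finset.sum_filter,
      Finset.sum_const, Finset.sum_const, Finset.card_univ, ← Nat.card_eq_fintype_card, H.card_Ω,
      ← Fintype.card_subtype, ← Nat.card_eq_fintype_card, hjc]
    simp only [nsmul_eq_mul]
    push_cast
    ring
  -- the entry at the suborbit
  have hXab : X α β = X α β₁ := by rw [hXval α β, if_neg hαβ.symm, if_pos hαrel]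
  have hXexp : X α β = 2 * ((2 * p - 1) * r) * c₁ + l * (c₁ - c₂) ^ 2 +
      2 * ((A.ncard : ℤ) - 1) * (c₁ - c₂) * c₂ + (3 * (p : ℤ) - 2) * c₂ ^ 2 := by
    have e : ∀ z : Ω, (swc G α z : ℤ) * swc G z β = c₂ ^ 2 +
        ((if z ∈ A then (c₁ - c₂) * c₂ else 0) + ((if z ∈ Aβ then (c₁ - c₂) * c₂ else 0) +
        ((if z ∈ A ∩ Aβ then (c₁ - c₂) ^ 2 else 0) +
        ((if z = α then ((2 * p - 1) * r) * c₁ - c₁ * c₂ else 0) +
        (if z = β then c₁ * ((2 * p - 1) * r) - c₁ * c₂ else 0))))) := fun z => by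
      rw [swc_comm z β, hval α z, hval β z]
      by_cases hzα : z = α
      · subst hzα
        have hzA := hA.not_mem
        have hzB : z ∈ Aβ := hβα
        rw [if_pos rfl, if_neg hαβ, if_pos hβα, if_neg hzA, if_pos hzB,
          if_neg (fun h => hzA h.1), if_pos rfl, if_neg hαβ, hc0]
        ring
      by_cases hzβ : z = β
      · subst hzβ
        rw [if_neg hzα, if_pos hαrel, if_pos rfl, if_pos hβA, if_neg hββ,
          if_neg (fun h => hββ h.2), if_neg hzα, if_pos rfl, hc0]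
        ring
      rw [if_neg hzα, if_neg hzβ, if_neg hzα, if_neg hzβ]
      by_cases hzA : z ∈ A <;> by_cases hzB : z ∈ Aβ
      · rw [if_pos ((rel_base_iff hA.invar z).2 hzA), if_pos (show Rel G α A β z from hzB), if_pos hzA,
          if_pos hzB, if_pos ⟨hzA, hzB⟩]
        ring
      · rw [if_pos ((rel_base_iff hA.invar z).2 hzA), if_neg (show ¬ Rel G α A β z from hzB), if_pos hzA,
          if_neg hzB, if_neg (fun h => hzB h.2)]
        ring
      · rw [if_neg (fun h => hzA ((rel_base_iff hA.invar z).1 h)), if_pos (show Rel G α A β z from hzB),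
          if_neg hzA, if_pos hzB, if_neg (fun h => hzA h.1)]
        ring
      · rw [if_neg (fun h => hzA ((rel_base_iff hA.invar z).1 h)), if_neg (show ¬ Rel G α A β z from hzB),
          if_neg hzA, if_neg hzB, if_neg (fun h => hzA h.1)]
        ring
    have hcard : ∀ (W : Set Ω) [DecidablePred fun z => z ∈ W],
        (Finset.univ.filter (fun z => z ∈ W)).card = W.ncard := fun W _ => by
      rw [Set.ncard_eq_toFinset_card']; congr 1; ext; simp
    simp only [hX]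
    rw [Finset.sum_congr rfl fun z _ => e z]
    simp only [Finset.sum_add_distrib, Finset.sum_const, Finset.sum_ite_eq' Finset.univ,
      Finset.mem_univ, if_true, ← Finset.sum_filter, hcard, hAβc, nsmul_eq_mul, Finset.card_univ]
    rw [← Nat.card_eq_fintype_card, H.card_Ω, hl]
    push_cast
    ring
  -- combine
  rw [hXx'] at hXx
  have hx12 : X α β₁ + 2 * X α β₂ = (p : ℤ) * r ^ 2 * ((2 * p - 1) ^ 2 - 1) :=
    mul_left_cancel₀ (show (p : ℤ) ≠ 0 by omega) (by linear_combination hXx)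
  rw [hsumX, hJc, hXaa] at hsplitX
  set e := c₂ - c₁ with he
  have ha : (A.ncard : ℤ) = p + ρ := by rw [hρ]; ring
  have hX1 : 3 * (3 * ρ + 1) * X α β₁ = (r : ℤ) ^ 2 * (6 * p ^ 2 * (2 * p - 1) ^ 2 -
      6 * (2 * p - 1) ^ 2 - 4 * (p - 1) ^ 2 * (2 * p - 1) -
      3 * (2 * p - 1 - ρ) * p * ((2 * p - 1) ^ 2 - 1)) := by
    rw [ha] at hsplitX e2
    linear_combination (-6) * hsplitX - 2 * e2 - 3 * (2 * (p : ℤ) - 1 - ρ) * hx12
  rw [← hXab, hXexp, ha] at hX1
  have hne' : e ≠ 0 := sub_ne_zero.2 (Ne.symm hne)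
  have h3ρ : 3 * ρ + 1 ≠ 0 := by omega
  have hL : l = 2 * ρ * (2 * ρ + 1) * (3 * ρ + 1) ^ 2 - 2 * ρ * (3 * ρ + 1) +
      2 * ((p : ℤ) + ρ - 1) * (2 * ρ + 1) - (3 * p - 2) * (2 * ρ + 1) ^ 2 := by
    have hd' : c₁ - c₂ = -e := by rw [he]; ring
    rw [hd', hc1, hc2] at hX1
    refine mul_left_cancel₀ (mul_ne_zero (mul_ne_zero (show (3 : ℤ) ≠ 0 by norm_num) h3ρ)
      (pow_ne_zero 2 hne')) ?_
    have h' : 3 * (3 * ρ + 1) * (l - (2 * ρ * (2 * ρ + 1) * (3 * ρ + 1) ^ 2 - 2 * ρ * (3 * ρ + 1) +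
        2 * ((p : ℤ) + ρ - 1) * (2 * ρ + 1) - (3 * p - 2) * (2 * ρ + 1) ^ 2)) * e ^ 2 *
        ((p : ℤ) - 1) ^ 2 = 0 := by
      obtain ⟨m, hm⟩ : (2 : ℤ) ∣ ρ - 1 := (show (2 : ℤ) ∣ 4 by norm_num).trans (hN4.trans hρ1)
      have hm' : ρ = 2 * m + 1 := by omega
      have hp' : (p : ℤ) = 12 * m ^ 2 + 15 * m + 5 := by
        rw [hm'] at hq
        linarith
      rw [hm', hp'] at hX1 hre ⊢
      linear_combination (12 * m ^ 2 + 15 * m + 4) ^ 2 * hX1 +
        (12 * (3 * (2 * m + 1) + 1) * (2 * (12 * m ^ 2 + 15 * m + 5) - 1) * (2 * m + 1) * e *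
            (12 * m ^ 2 + 15 * m + 4) -
          (6 * (12 * m ^ 2 + 15 * m + 5) ^ 2 * (2 * (12 * m ^ 2 + 15 * m + 5) - 1) ^ 2 -
              6 * (2 * (12 * m ^ 2 + 15 * m + 5) - 1) ^ 2 -
              4 * (12 * m ^ 2 + 15 * m + 4) ^ 2 * (2 * (12 * m ^ 2 + 15 * m + 5) - 1) -
              3 * (2 * (12 * m ^ 2 + 15 * m + 5) - 1 - (2 * m + 1)) * (12 * m ^ 2 + 15 * m + 5) *
                ((2 * (12 * m ^ 2 + 15 * m + 5) - 1) ^ 2 - 1)) *
            ((r : ℤ) * (12 * m ^ 2 + 15 * m + 4) + (3 * (2 * m + 1) + 1) * e)) * hre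
    have := (mul_eq_zero.1 h').resolve_right (pow_ne_zero 2 (by omega))
    linear_combination this
  have h84 := lambda_dvd hρ1 hNp (by simpa [hl] using hWL) hL
  have hd' : d = 2 := by
    by_contra hd'
    have : (8 : ℤ) ∣ 2 ^ d := by
      obtain ⟨k, hk⟩ := Nat.exists_eq_add_of_le (show 3 ≤ d by omega)
      rw [hk, pow_add]; norm_num
    have := this.trans h84
    omega
  exact ⟨α, A, ρ, hA, ha, hq, hd'⟩

end CfsgLib.Perm.ThreeP
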