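import Cfsg.Agent.Lib.Perm.ThreeP.BotBase

/-!
The row of degree `2p - 1`: the three suborbits and their counts.
-/

set_option autoImplicit false
set_option linter.unusedSectionVars false
set_option linter.style.haveILetI false

namespace CfsgLib.Perm.ThreeP

open MulAction Cfsg CfsgLib CfsgLib.Block CfsgLib.Block.BrauerReynolds
open scoped _root_.Classical

universe u v

variable {G : Type u} [Group G] [Finite G] {Ω : Type v} [MulAction G Ω] [Finite Ω]
  [IsPretransitive G Ω] [FaithfulSMul G Ω] {p : ℕ}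
  [hpf : Fact p.Prime] {P : Sylow p G} {x : G} {χ ψ : IrrCharacter G} {val : G → ℤ}

/-- The relation of a suborbit. -/
def Rel (G : Type u) [Group G] [MulAction G Ω] (α : Ω) (A : Set Ω) (β γ : Ω) : Prop :=
  ∃ g : G, g • α = β ∧ g⁻¹ • γ ∈ A

theorem rel_smul_iff {α : Ω} {A : Set Ω} (g : G) (β γ : Ω) :
    Rel G α A (g • β) (g • γ) ↔ Rel G α A β γ := by
  constructor
  · rintro ⟨k, hk, hkA⟩
    exact ⟨g⁻¹ * k, by rw [mul_smul, hk, inv_smul_smul],
      by rwa [mul_inv_rev, inv_inv, mul_smul]⟩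
  · rintro ⟨k, hk, hkA⟩
    exact ⟨g * k, by rw [mul_smul, hk], by rwa [mul_inv_rev, mul_smul, inv_smul_smul]⟩

theorem rel_base_iff {α : Ω} {A : Set Ω} (hA : ∀ h ∈ stabilizer G α, ∀ δ ∈ A, h • δ ∈ A) (δ : Ω) :
    Rel G α A α δ ↔ δ ∈ A := by
  refine ⟨?_, fun h => ⟨1, one_smul G α, by rwa [inv_one, one_smul]⟩⟩
  rintro ⟨k, hk, hkA⟩
  simpa using hA k hk _ hkA

/-- Swappers of two points. -/
noncomputable def swc (G : Type u) [Group G] [MulAction G Ω] (β γ : Ω) : ℕ :=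
  Nat.card {v : G // orderOf v = 2 ∧ v • β = γ}

theorem swc_smul (g : G) (β γ : Ω) : swc G (g • β) (g • γ) = swc G β γ := by
  refine Nat.card_congr (Equiv.subtypeEquiv (MulAut.conj g⁻¹).toEquiv fun v => ?_)
  change _ ↔ orderOf (MulAut.conj g⁻¹ v) = 2 ∧ (g⁻¹ * v * g⁻¹⁻¹) • β = γ
  rw [MulEquiv.orderOf_eq, inv_inv, mul_smul, mul_smul, inv_smul_eq_iff]

theorem smul_smul_invol {v : G} (hv : orderOf v = 2) (a : Ω) : v • v • a = a := by
  rw [smul_smul, invol_mul_self hv, one_smul]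

theorem swc_comm (β γ : Ω) : swc G β γ = swc G γ β := by
  refine Nat.card_congr (Equiv.subtypeEquivRight fun v => and_congr_right fun hv => ?_)
  constructor <;> intro h <;> rw [← h, smul_smul_invol hv]

/-- Sums over the class of involutions. -/
theorem Hyp.sum_invol [IsSimpleGroup G] [Fintype G] (H : Hyp Ω p P) {u : G} (hu : orderOf u = 2)
    {M : Type*} [CommSemiring M] (F : G → M) :
    (Nat.card (Subgroup.centralizer ({u} : Set G)) : M) *
      ∑ v ∈ Finset.univ.filter (fun v : G => orderOf v = 2), F v = ∑ t : G, F (t * u * t⁻¹) := by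
  rw [← Finset.sum_fiberwise_of_maps_to (s := Finset.univ) (g := fun t : G => t * u * t⁻¹)
    (t := Finset.univ.filter (fun v : G => orderOf v = 2))
    (fun t _ => Finset.mem_filter.2 ⟨Finset.mem_univ _, by
      rw [← MulAut.conj_apply, MulEquiv.orderOf_eq, hu]⟩) (fun t => F (t * u * t⁻¹)), Finset.mul_sum]
  refine Finset.sum_congr rfl fun v hv => ?_
  rw [Finset.sum_congr rfl fun t ht => congrArg F (Finset.mem_filter.1 ht).2, Finset.sum_const,
    nsmul_eq_mul]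
  congr 1
  rw [← Fintype.card_subtype, ← Nat.card_eq_fintype_card,
    H.card_conj_filter hu (fun w => w = v)]
  rw [show Nat.card {w : G // orderOf w = 2 ∧ w = v} = 1 from Nat.card_eq_one_iff_unique.2
    ⟨⟨fun a b => Subtype.ext (a.2.2.trans b.2.2.symm)⟩, ⟨⟨v, (Finset.mem_filter.1 hv).2, rfl⟩⟩⟩,
    one_mul]

theorem Mid.orbit_count (M : Mid Ω p x χ val ψ) (H : Hyp Ω p P) (α : Ω) :
    Nat.card (orbitRel.Quotient (stabilizer G α) Ω) = 3 := by
  haveI : Fintype G := Fintype.ofFinite G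
  have hp5 := H.five_le
  have h := Char.natCard_orbits_eq (G := G) Ω α
  have hπ : (fun g : G => (Nat.card (fixedBy Ω g) : ℂ)) =
      (fun _ => (1 : ℂ)) + (χ : G → ℂ) + (ψ : G → ℂ) := funext fun g => by
    rw [Pi.add_apply, Pi.add_apply, M.row.val_eq]; exact M.fx_eq g
  have hone := Char.isIrrCharacter_one (G := G)
  have hψ1 : (ψ : G → ℂ) ≠ fun _ => 1 := fun h => by
    have := M.psi_one
    rw [h] at this
    simp only at this
    have : (1 : ℕ) = p := by exact_mod_cast this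
    omega
  have hχψ : (χ : G → ℂ) ≠ (ψ : G → ℂ) := fun h => by
    have := congrFun h 1
    rw [M.row.val_eq, M.row.val_one, M.psi_one, Int.cast_natCast, Nat.cast_inj] at this
    omega
  rw [hπ] at h
  have hadd : ∀ a b c : G → ℂ, classInner (a + b) c = classInner a c + classInner b c := fun a b c => by
    simp only [Char.classInner_def, Pi.add_apply, add_mul, Finset.sum_add_distrib, mul_add]
  have hadd' : ∀ a b c : G → ℂ, classInner a (b + c) = classInner a b + classInner a c := fun a b c => by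
    simp only [Char.classInner_def, Pi.add_apply, map_add, mul_add, Finset.sum_add_distrib]
  rw [hadd, hadd, hadd', hadd', hadd', hadd', hadd', hadd', Char.irr_classInner_self hone,
    Char.irr_classInner_self χ.2, Char.irr_classInner_self ψ.2,
    Char.irr_classInner_ne hone χ.2 M.row.ne_one.symm, Char.irr_classInner_ne χ.2 hone M.row.ne_one,
    Char.irr_classInner_ne hone ψ.2 hψ1.symm, Char.irr_classInner_ne ψ.2 hone hψ1,
    Char.irr_classInner_ne χ.2 ψ.2 hχψ, Char.irr_classInner_ne ψ.2 χ.2 hχψ.symm] at h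
  norm_num at h
  exact_mod_cast h.symm

/-- A union of suborbits missing the base point and one more. -/
structure Sub (G : Type u) [Group G] [MulAction G Ω] (α : Ω) (A : Set Ω) : Prop where
  invar : ∀ h ∈ stabilizer G α, ∀ δ ∈ A, h • δ ∈ A
  trans : ∀ δ ∈ A, ∀ ε ∈ A, ∃ h ∈ stabilizer G α, h • δ = ε
  trans' : ∀ δ, δ ∉ A → δ ≠ α → ∀ ε, ε ∉ A → ε ≠ α → ∃ h ∈ stabilizer G α, h • δ = ε
  not_mem : α ∉ A
  ne : A.Nonempty
  ne' : ∃ δ, δ ∉ A ∧ δ ≠ α

theorem Mid.exists_sub (M : Mid Ω p x χ val ψ) (H : Hyp Ω p P) (α : Ω) :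
    ∃ A : Set Ω, Sub G α A ∧ Sub G α ({δ | δ ∉ A ∧ δ ≠ α}) := by
  have h3 := M.orbit_count H α
  set K := stabilizer G α with hK
  haveI : Fintype (orbitRel.Quotient K Ω) := Fintype.ofFinite _
  let ω : Ω → orbitRel.Quotient K Ω := Quotient.mk''
  have hωe : ∀ δ ε, ω δ = ω ε → ∃ h ∈ K, h • δ = ε := fun δ ε h => by
    obtain ⟨g, hg⟩ := Quotient.exact' h.symm
    exact ⟨g.1, g.2, hg⟩
  have hωs : ∀ h ∈ K, ∀ δ, ω (h • δ) = ω δ := fun h hh δ => Quotient.sound' ⟨⟨h, hh⟩, rfl⟩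
  have hα : ∀ δ, ω δ = ω α → δ = α := fun δ h => by
    obtain ⟨g, hg, hgδ⟩ := hωe α δ h.symm
    rw [← hgδ]; exact hg
  rw [Nat.card_eq_fintype_card] at h3
  obtain ⟨a, b, c, hab, hac, hbc, huniv⟩ := Finset.card_eq_three.1 h3
  have hcase : ∀ q : orbitRel.Quotient K Ω, q = a ∨ q = b ∨ q = c := fun q => by
    have := huniv ▸ Finset.mem_univ q
    simpa using this
  obtain ⟨q, hq, q', hq', hqq, hall⟩ : ∃ q, q ≠ ω α ∧ ∃ q', q' ≠ ω α ∧ q ≠ q' ∧
      ∀ z, z ≠ ω α → z = q ∨ z = q' := by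
    rcases hcase (ω α) with h | h | h
    · exact ⟨b, h ▸ hab.symm, c, h ▸ hac.symm, hbc, fun z hz => (hcase z).resolve_left (h ▸ hz)⟩
    · exact ⟨a, h ▸ hab, c, h ▸ hbc.symm, hac, fun z hz => (hcase z).imp_right fun h' =>
        h'.resolve_left (h ▸ hz)⟩
    · exact ⟨a, h ▸ hac, b, h ▸ hbc, hab, fun z hz => (hcase z).imp_right fun h' =>
        h'.resolve_right (h ▸ hz)⟩
  obtain ⟨δ₁, rfl⟩ := Quotient.mk''_surjective q
  obtain ⟨δ₂, rfl⟩ := Quotient.mk''_surjective q'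
  refine ⟨{δ | ω δ = ω δ₁}, ?_, ?_⟩
  · refine ⟨fun h hh δ hδ => (hωs h hh δ).trans hδ, fun δ hδ ε hε => hωe δ ε (hδ.trans hε.symm),
      fun δ hδ hδα ε hε hεα => ?_, fun h => hq h.symm, ⟨δ₁, rfl⟩,
      ⟨δ₂, fun h => hqq h.symm, fun h => hq' (congrArg ω h)⟩⟩
    have e : ∀ δ, δ ∉ {δ | ω δ = ω δ₁} → δ ≠ α → ω δ = ω δ₂ := fun δ h1 h2 =>
      (hall _ fun h => h2 (hα δ h)).resolve_left h1
    exact hωe δ ε ((e δ hδ hδα).trans (e ε hε hεα).symm)
  · have e : {δ | δ ∉ {δ | ω δ = ω δ₁} ∧ δ ≠ α} = {δ | ω δ = ω δ₂} := by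
      ext δ
      exact ⟨fun h => (hall _ fun h' => h.2 (hα δ h')).resolve_left h.1,
        fun h => ⟨fun h' => hqq (h'.symm.trans h), fun h' => hq' (by rw [h'] at h; exact h.symm)⟩⟩
    rw [e]
    refine ⟨fun h hh δ hδ => (hωs h hh δ).trans hδ, fun δ hδ ε hε => hωe δ ε (hδ.trans hε.symm),
      fun δ hδ hδα ε hε hεα => ?_, fun h => hq' h.symm, ⟨δ₂, rfl⟩,
      ⟨δ₁, fun h => hqq h, fun h => hq (congrArg ω h)⟩⟩
    have e : ∀ δ, δ ∉ {δ | ω δ = ω δ₂} → δ ≠ α → ω δ = ω δ₁ := fun δ h1 h2 =>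
      (hall _ fun h => h2 (hα δ h)).resolve_right h1
    exact hωe δ ε ((e δ hδ hδα).trans (e ε hε hεα).symm)

theorem Sub.swc_val {α : Ω} {A : Set Ω} (hA : Sub G α A) {β₁ β₂ : Ω} (h1 : β₁ ∈ A)
    (h2 : β₂ ∉ A) (h2' : β₂ ≠ α) (β γ : Ω) :
    (swc G β γ : ℤ) = if γ = β then (swc G α α : ℤ) else
      if Rel G α A β γ then (swc G α β₁ : ℤ) else swc G α β₂ := by
  obtain ⟨g, rfl⟩ := exists_smul_eq G α β
  obtain ⟨δ, rfl⟩ : ∃ δ, g • δ = γ := ⟨g⁻¹ • γ, smul_inv_smul _ _⟩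
  rw [swc_smul]
  have hrel : Rel G α A (g • α) (g • δ) ↔ δ ∈ A := by rw [rel_smul_iff, rel_base_iff hA.invar]
  have hfix : ∀ h ∈ stabilizer G α, ∀ ε, swc G α (h • ε) = swc G α ε := fun h hh ε => by
    conv_lhs => rw [show α = h • α from (show h • α = α from hh).symm]
    exact swc_smul h α ε
  by_cases hδ : δ = α
  · rw [if_pos (by rw [hδ]), hδ]
  rw [if_neg (fun h => hδ (MulAction.injective g h))]
  by_cases hδA : δ ∈ A
  · obtain ⟨h, hh, rfl⟩ := hA.trans β₁ h1 δ hδA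
    rw [if_pos (hrel.2 hδA), hfix h hh]
  · obtain ⟨h, hh, rfl⟩ := hA.trans' β₂ h2 h2' δ hδA hδ
    rw [if_neg (fun h' => hδA (hrel.1 h')), hfix h hh]

variable [Fintype Ω]

/-- Sums against the swapper count. -/
theorem Sub.sum_split {α : Ω} {A : Set Ω} (hA : Sub G α A) {β₁ β₂ : Ω} (h1 : β₁ ∈ A)
    (h2 : β₂ ∉ A) (h2' : β₂ ≠ α) (φ : ℤ → ℤ) :
    ∑ δ : Ω, φ (swc G α δ : ℤ) = φ (swc G α α : ℤ) + (A.ncard : ℤ) * φ (swc G α β₁ : ℤ) +
      ((Nat.card Ω : ℤ) - 1 - A.ncard) * φ (swc G α β₂ : ℤ) := by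
  have e : ∀ δ, φ (swc G α δ : ℤ) = φ (swc G α β₂ : ℤ) +
      ((if δ = α then φ (swc G α α : ℤ) - φ (swc G α β₂ : ℤ) else 0) +
      (if δ ∈ A then φ (swc G α β₁ : ℤ) - φ (swc G α β₂ : ℤ) else 0)) := fun δ => by
    rw [hA.swc_val h1 h2 h2' α δ]
    by_cases hδ : δ = α
    · subst hδ
      rw [if_pos rfl, if_pos rfl, if_neg hA.not_mem]
      ring
    · rw [if_neg hδ, if_neg hδ]
      by_cases hδA : δ ∈ A
      · rw [if_pos ((rel_base_iff hA.invar δ).2 hδA), if_pos hδA]; ring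
      · rw [if_neg (fun h => hδA ((rel_base_iff hA.invar δ).1 h)), if_neg hδA]; ring
  rw [Finset.sum_congr rfl fun δ _ => e δ, Finset.sum_add_distrib, Finset.sum_add_distrib,
    Finset.sum_const, Finset.sum_ite_eq' Finset.univ α, if_pos (Finset.mem_univ _),
    ← Finset.sum_filter, Finset.sum_const, Finset.card_univ, ← Nat.card_eq_fintype_card,
    show (Finset.univ.filter (· ∈ A)).card = A.ncard by rw [Set.ncard_eq_toFinset_card']; congr 1; ext; simp]
  simp only [nsmul_eq_mul]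
  ring

/-- The first counts. -/
theorem Sub.equations [IsSimpleGroup G] [Fintype G] (M : Mid Ω p x χ val ψ) (H : Hyp Ω p P)
    (h3 : ∀ v : G, orderOf v = 2 → fx Ω v = 3) {u : G} (hu : orderOf u = 2) {r : ℕ}
    (hF : MidFacts Ω p val r u) {α : Ω} {A : Set Ω} (hA : Sub G α A) {β₁ β₂ : Ω} (h1 : β₁ ∈ A)
    (h2 : β₂ ∉ A) (h2' : β₂ ≠ α) :
    (swc G α α : ℤ) = (2 * p - 1) * r ∧
    Nat.card {v : G // orderOf v = 2} = p * (2 * p - 1) * r ∧
    (A.ncard : ℤ) * swc G α β₁ + (3 * (p : ℤ) - 1 - A.ncard) * swc G α β₂ =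
      (r : ℤ) * (2 * p - 1) * (p - 1) ∧
    3 * ((A.ncard : ℤ) * (swc G α β₁ : ℤ) ^ 2 + (3 * (p : ℤ) - 1 - A.ncard) * (swc G α β₂ : ℤ) ^ 2) =
      2 * ((p : ℤ) - 1) ^ 2 * (2 * p - 1) * r ^ 2 ∧
    ∃ j : ℕ, j ≤ 3 ∧ Nat.card {β : Ω // Rel G α A β (x • β)} = j * p ∧
      (j : ℤ) * (swc G α β₁ : ℤ) + (3 - (j : ℤ)) * swc G α β₂ = (r : ℤ) * (2 * p - 2) := by
  have hp5 := H.five_le
  have hr := hF.r_pos
  set c₀ := (swc G α α : ℤ)
  set c₁ := (swc G α β₁ : ℤ)
  set c₂ := (swc G α β₂ : ℤ)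
  set J := Finset.univ.filter (fun v : G => orderOf v = 2) with hJ
  have hJn : Nat.card {v : G // orderOf v = 2} = J.card := by
    rw [Nat.card_eq_fintype_card, Fintype.card_subtype]
  have hJ' : J.card = p * (2 * p - 1) * r := by
    have h := H.card_invol_mul hu
    rw [hF.card_C, hF.card_G, hJn] at h
    refine Nat.eq_of_mul_eq_mul_right (Nat.mul_pos hr (show 0 < 2 * p - 1 - 1 by omega)) ?_
    rw [h]; ring
  have hswc : ∀ β γ : Ω, (swc G β γ : ℤ) = ∑ v ∈ J, if v • β = γ then (1 : ℤ) else 0 := fun β γ => by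
    rw [swc, Nat.card_eq_fintype_card, Fintype.card_subtype, Finset.sum_ite, Finset.sum_const_zero,
      add_zero, Finset.sum_const, nsmul_one]
    congr 2
    ext v; simp [hJ]
  have hfx : ∀ g : G, (fx Ω g : ℤ) = ∑ β : Ω, if g • β = β then (1 : ℤ) else 0 := fun g => by
    rw [fx, Nat.card_eq_fintype_card, Finset.sum_ite, Finset.sum_const_zero,
      add_zero, Finset.sum_const, nsmul_one]
    congr 1
    exact Fintype.card_subtype _
  have hval := hA.swc_val h1 h2 h2'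
  -- the fixed points
  have hc0 : c₀ = (2 * p - 1) * r := by
    have e : ∑ β : Ω, (swc G β β : ℤ) = ∑ v ∈ J, (fx Ω v : ℤ) := by
      simp only [hswc, hfx]; exact Finset.sum_comm
    rw [Finset.sum_congr rfl fun (v : G) (hv : v ∈ J) => show (fx Ω v : ℤ) = ((3 : ℕ) : ℤ) by
        rw [h3 v (Finset.mem_filter.1 hv).2],
      Finset.sum_congr rfl fun (β : Ω) _ => (hval β β).trans (if_pos rfl),
      Finset.sum_const, Finset.sum_const, Finset.card_univ, ← Nat.card_eq_fintype_card, H.card_Ω, hJ',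
      nsmul_eq_mul, nsmul_eq_mul] at e
    push_cast [Nat.cast_sub (show 1 ≤ 2 * p by omega)] at e
    exact mul_left_cancel₀ (show (3 * p : ℤ) ≠ 0 by positivity) (by rw [e]; ring)
  have hrow : ∑ δ : Ω, (swc G α δ : ℤ) = J.card := by
    simp only [hswc]
    rw [Finset.sum_comm]
    simp
  rw [hA.sum_split h1 h2 h2' (fun z => z), H.card_Ω, hJ'] at hrow
  push_cast [Nat.cast_sub (show 1 ≤ 2 * p by omega)] at hrow
  change c₀ + _ * c₁ + _ * c₂ = _ at hrow
  -- the twisted sums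
  have hpsiu : (ψ : G → ℂ) u = 1 := by
    rw [M.psi_eq, h3 u hu, hF.val_even u (by rw [hu])]; norm_num
  have hC0 : (Nat.card (Subgroup.centralizer ({u} : Set G)) : ℂ) ≠ 0 :=
    Nat.cast_ne_zero.2 Nat.card_pos.ne'
  have htw : ∀ a : G, ((p : ℂ) * (2 * p - 1)) * ∑ v ∈ J, (fx Ω (a * v) : ℂ) =
      ((p * (2 * p - 1) * r : ℕ) : ℂ) *
        ((p : ℂ) * (2 * p - 1) + p * (val a : ℂ) + (2 * p - 1) * (ψ : G → ℂ) a) := fun a => by
    have h := H.sum_invol hu (fun v => (fx Ω (a * v) : ℂ))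
    rw [M.sum_twist a u, hF.val_even u (by rw [hu]), hpsiu, ← H.card_invol_mul hu, hJn, hJ'] at h
    push_cast [Nat.cast_sub (show 1 ≤ 2 * p by omega)] at h ⊢
    refine mul_left_cancel₀ hC0 ?_
    rw [mul_left_comm, h]
    have hf : (2 * (p : ℂ) - 1) ≠ 0 := by
      intro h0
      have : ((2 * p - 1 : ℕ) : ℂ) = 0 := by
        push_cast [Nat.cast_sub (show 1 ≤ 2 * p by omega)]; exact h0
      rw [Nat.cast_eq_zero] at this; omega
    have hp0 : (p : ℂ) ≠ 0 := Nat.cast_ne_zero.2 (by omega)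
    have hf' : (p : ℂ) * 2 - 1 ≠ 0 := by rwa [mul_comm]
    field_simp
    try ring
  have hsq : ∑ β : Ω, ∑ δ : Ω, (swc G β δ : ℤ) ^ 2 = ∑ v ∈ J, ∑ w ∈ J, (fx Ω (v * w) : ℤ) := by
    simp only [hswc, hfx, sq, Finset.sum_mul_sum]
    rw [Finset.sum_congr rfl fun β _ => Finset.sum_comm, Finset.sum_comm]
    refine Finset.sum_congr rfl fun v hv => ?_
    rw [Finset.sum_congr rfl fun β _ => Finset.sum_comm, Finset.sum_comm]
    refine Finset.sum_congr rfl fun w _ => Finset.sum_congr rfl fun β _ => ?_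
    simp only [ite_mul, one_mul, zero_mul]
    rw [Finset.sum_ite_eq Finset.univ (v • β), if_pos (Finset.mem_univ _)]
    refine if_congr ?_ rfl rfl
    rw [mul_smul]
    exact ⟨fun h => by rw [h, smul_smul_invol (Finset.mem_filter.1 hv).2], fun h => by
      conv_rhs => rw [← h]
      rw [smul_smul_invol (Finset.mem_filter.1 hv).2]⟩
  have hin : ∀ β : Ω, ∑ δ : Ω, (swc G β δ : ℤ) ^ 2 = ∑ δ : Ω, (swc G α δ : ℤ) ^ 2 := fun β => by
    obtain ⟨g, rfl⟩ := exists_smul_eq G α β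
    exact (Fintype.sum_equiv (MulAction.toPerm g) _ _ fun δ => by
      rw [MulAction.toPerm_apply, swc_smul]).symm
  rw [Finset.sum_congr rfl fun β _ => hin β, hA.sum_split h1 h2 h2' (fun z => z ^ 2),
    Finset.sum_const, Finset.card_univ, ← Nat.card_eq_fintype_card, H.card_Ω, nsmul_eq_mul] at hsq
  change _ * (c₀ ^ 2 + _ * c₁ ^ 2 + _ * c₂ ^ 2) = _ at hsq
  have hww : ∀ v ∈ J, ∑ w ∈ J, (fx Ω (v * w) : ℤ) =
      (r : ℤ) * ((p : ℤ) * (2 * p - 1) + p + (2 * p - 1)) := fun v hv => by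
    have h := htw v
    have hv2 := (Finset.mem_filter.1 hv).2
    rw [hF.val_even v (by rw [hv2]), M.psi_eq v, h3 v hv2, hF.val_even v (by rw [hv2])] at h
    push_cast [Nat.cast_sub (show 1 ≤ 2 * p by omega)] at h
    refine mul_left_cancel₀ (show (p : ℤ) * (2 * p - 1) ≠ 0 from mul_ne_zero (by omega) (by omega)) ?_
    apply Int.cast_injective (α := ℂ)
    push_cast
    rw [h]
    ring
  rw [Finset.sum_congr rfl hww, Finset.sum_const, nsmul_eq_mul, hJ'] at hsq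
  push_cast [Nat.cast_sub (show 1 ≤ 2 * p by omega)] at hsq
  refine ⟨hc0, hJn.trans hJ', ?_, ?_, ?_⟩
  · rw [hc0] at hrow; linear_combination hrow
  · rw [hc0] at hsq
    refine mul_left_cancel₀ (show (p : ℤ) ≠ 0 by omega) ?_
    linear_combination hsq
  -- the twist by `x`
  set W := {β : Ω | Rel G α A β (x • β)} with hW
  have hWx : ∀ (z : Subgroup.zpowers x) (β : Ω), β ∈ W → z • β ∈ W := by
    rintro ⟨z, hz⟩ β hβ
    obtain ⟨i, rfl⟩ := Subgroup.mem_zpowers_iff.1 hz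
    change Rel G α A (x ^ i • β) (x • x ^ i • β)
    rw [smul_smul, ← (Commute.self_zpow x i).eq.symm, mul_smul, rel_smul_iff]
    exact hβ
  let Wm : SubMulAction (Subgroup.zpowers x) Ω := { carrier := W, smul_mem' := hWx }
  have hp : IsPGroup p (Subgroup.zpowers x) :=
    IsPGroup.of_card (n := 1) (by rw [Nat.card_zpowers, M.row.x_ord, pow_one])
  have hno : ∀ β : Ω, x • β ≠ β := fun β h => by
    have h0 := H.free (g := x) (by rw [M.row.x_ord])
    have : Nonempty (fixedBy Ω x) := ⟨⟨β, h⟩⟩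
    exact Nat.card_pos.ne' h0
  have hmod := hp.card_modEq_card_fixedPoints (α := Wm)
  have hemp : IsEmpty (fixedPoints (Subgroup.zpowers x) Wm) := ⟨fun z =>
    hno z.1.1 (congrArg Subtype.val (z.2 ⟨x, Subgroup.mem_zpowers x⟩))⟩
  rw [Nat.card_of_isEmpty (α := fixedPoints (Subgroup.zpowers x) Wm)] at hmod
  obtain ⟨j, hj⟩ : p ∣ Nat.card W := Nat.modEq_zero_iff_dvd.1 hmod
  have hjle : p * j ≤ 3 * p := by rw [← hj, ← H.card_Ω]; exact Finite.card_subtype_le _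
  refine ⟨j, Nat.le_of_mul_le_mul_left (by rw [mul_comm 3 p] at hjle; exact hjle) hpf.out.pos,
    by rw [mul_comm]; exact hj, ?_⟩
  have hxs : ∑ β : Ω, (swc G β (x • β) : ℤ) = ∑ v ∈ J, (fx Ω (x * v) : ℤ) := by
    have e : ∀ v : G, fx Ω (x * v) = fx Ω (v * x) := fun v => by
      rw [← fx_conj x (v * x)]; congr 1; group
    simp only [e, hswc, hfx]
    rw [Finset.sum_comm]
    refine Finset.sum_congr rfl fun v hv => Finset.sum_congr rfl fun β _ => if_congr ?_ rfl rfl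
    rw [mul_smul]
    have hv2 := (Finset.mem_filter.1 hv).2
    exact ⟨fun h => by rw [← h, smul_smul_invol hv2], fun h => by
      conv_lhs => rw [← h]
      rw [smul_smul_invol hv2]⟩
  have hxv : ∀ β : Ω, (swc G β (x • β) : ℤ) = c₂ + if β ∈ W then c₁ - c₂ else 0 := fun β => by
    rw [hval β (x • β), if_neg (hno β)]
    by_cases h : β ∈ W
    · rw [if_pos (show Rel G α A β (x • β) from h), if_pos h]; ring
    · rw [if_neg (show ¬ Rel G α A β (x • β) from h), if_neg h, add_zero]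
  rw [Finset.sum_congr rfl fun β _ => hxv β, Finset.sum_add_distrib, ← Finset.sum_filter,
    Finset.sum_const, Finset.sum_const, Finset.card_univ, ← Nat.card_eq_fintype_card, H.card_Ω,
    ← Fintype.card_subtype, ← Nat.card_eq_fintype_card,
    show Nat.card {β // β ∈ W} = p * j from hj, nsmul_eq_mul, nsmul_eq_mul] at hxs
  have hx := htw x
  rw [M.sing x (by rw [M.row.x_ord]), M.row.val_sing x (by rw [M.row.x_ord])] at hx
  have hx' : ∑ v ∈ J, (fx Ω (x * v) : ℤ) = (r : ℤ) * p * (2 * p - 2) := by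
    refine mul_left_cancel₀ (show (p : ℤ) * (2 * p - 1) ≠ 0 from mul_ne_zero (by omega) (by omega)) ?_
    apply Int.cast_injective (α := ℂ)
    push_cast [Nat.cast_sub (show 1 ≤ 2 * p by omega)] at hx ⊢
    rw [hx]
    ring
  rw [hx'] at hxs
  push_cast at hxs
  refine mul_left_cancel₀ (show (p : ℤ) ≠ 0 by omega) ?_
  linear_combination hxs

/-- Arithmetic of the suborbit parameters. -/
theorem sub_arith {p a c₁ c₂ r j : ℤ} (hp : 5 ≤ p) (ha : 0 < a) (hb : 0 < 3 * p - 1 - a)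
    (hr : 0 < r) (hj0 : 0 ≤ j) (hj3 : j ≤ 3)
    (e1 : a * c₁ + (3 * p - 1 - a) * c₂ = r * (2 * p - 1) * (p - 1))
    (e2 : 3 * (a * c₁ ^ 2 + (3 * p - 1 - a) * c₂ ^ 2) = 2 * (p - 1) ^ 2 * (2 * p - 1) * r ^ 2)
    (e3 : j * c₁ + (3 - j) * c₂ = r * (2 * p - 2)) :
    (j = 1 ∨ j = 2) ∧ c₁ ≠ c₂ ∧
      (j = 1 → 2 * p = 6 * (a - p) ^ 2 + 3 * (a - p) + 1 ∧
        c₁ = 2 * (a - p) * (c₂ - c₁) ∧ c₂ = (2 * (a - p) + 1) * (c₂ - c₁) ∧
        (3 * (a - p) + 1) * (c₂ - c₁) = r * (p - 1)) := by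
  set D := (3 * p - 1) * j - 3 * a with hD
  have hd : D * (c₁ - c₂) = r * (p - 1) := by linear_combination (3 * p - 1) * e3 - 3 * e1
  have hsq : 3 * a * (3 * p - 1 - a) * (c₁ - c₂) ^ 2 = (2 * p - 1) * (r * (p - 1)) ^ 2 := by
    linear_combination (3 * p - 1) * e2 - 3 * (a * c₁ + (3 * p - 1 - a) * c₂ +
      r * (2 * p - 1) * (p - 1)) * e1
  have hrp : r * (p - 1) ≠ 0 := mul_ne_zero (by omega) (by omega)
  have hne : c₁ ≠ c₂ := fun h => hrp (by rw [← hd, h]; ring)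
  have hd0 : (c₁ - c₂) ^ 2 ≠ 0 := pow_ne_zero _ (sub_ne_zero.2 hne)
  have hq : 3 * a * (3 * p - 1 - a) = (2 * p - 1) * D ^ 2 := by
    refine mul_right_cancel₀ hd0 ?_
    rw [hsq, ← hd]; ring
  refine ⟨?_, hne, fun h1 => ?_⟩
  · rcases (show j = 0 ∨ j = 1 ∨ j = 2 ∨ j = 3 by omega) with h | h | h | h
    · exfalso
      rw [hD, h] at hq
      have : (3 * p - 1 - a) = 3 * (2 * p - 1) * a := mul_left_cancel₀ (show 3 * a ≠ 0 by omega)
        (by linear_combination hq)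
      nlinarith
    · exact Or.inl h
    · exact Or.inr h
    · exfalso
      rw [hD, h] at hq
      have : a = 3 * (2 * p - 1) * (3 * p - 1 - a) := mul_left_cancel₀
        (show 3 * (3 * p - 1 - a) ≠ 0 by omega) (by linear_combination hq)
      nlinarith
  · subst h1
    rw [hD] at hq hd
    refine ⟨?_, ?_, ?_, by linear_combination hd⟩
    · have : (3 * p - 1) * (2 * p - (6 * (a - p) ^ 2 + 3 * (a - p) + 1)) = 0 := by
        linear_combination hq
      rcases mul_eq_zero.1 this with h | h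
      · omega
      · linarith
    · refine mul_left_cancel₀ (show (3 : ℤ) ≠ 0 by norm_num) ?_
      linear_combination e3 - 2 * hd
    · refine mul_left_cancel₀ (show (3 : ℤ) ≠ 0 by norm_num) ?_
      linear_combination e3 - 2 * hd

end CfsgLib.Perm.ThreeP
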