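import Cfsg.Agent.Lib.Perm.ThreeP.Hyp
import Cfsg.Agent.Lib.Block.BTOrderClassify
import Cfsg.Agent.Lib.BlockB.ClassMul
import Cfsg.Agent.Lib.Char.Misc

/-!
The principal block row of degree `f` and its elementary consequences.
-/

set_option autoImplicit false
set_option linter.unusedSectionVars false
set_option linter.style.haveILetI false

namespace CfsgLib.Perm.ThreeP

open MulAction Cfsg CfsgLib CfsgLib.Block CfsgLib.Block.BrauerReynolds CfsgLib.Block.BrauerTuan
open scoped ComplexConjugate _root_.Classical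

universe u v

variable {G : Type u} [Group G] [Finite G]

/-- The row of degree `f`. -/
structure Row (p : ℕ) (x : G) (f : ℕ) (χ : IrrCharacter G) (val : G → ℤ) : Prop where
  four_le : 4 ≤ f
  ne_one : (χ : G → ℂ) ≠ fun _ => 1
  val_eq : ∀ g, (χ : G → ℂ) g = (val g : ℂ)
  val_one : val 1 = f
  val_sing : ∀ g, p ∣ orderOf g → val g = -1
  x_ord : orderOf x = p
  exc : ∃ η : IrrCharacter G, charDegree (η : G → ℂ) = f - 1 ∧
    ∀ g, ¬ p ∣ orderOf g → (η : G → ℂ) g = (val g : ℂ) - 1
  pair : ∀ (y z : G), ¬ p ∣ orderOf y → ¬ p ∣ orderOf z →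
    (p : ℤ) * f * ((f : ℤ) - 1) *
      (Nat.card {t : G // IsConj (y * (t * z * t⁻¹)) x} : ℤ) =
    (Nat.card G : ℤ) * ((f : ℤ) - val y) * ((f : ℤ) - val z)

variable {p : ℕ} {x : G} {f : ℕ} {χ : IrrCharacter G} {val : G → ℤ}

theorem Row.conj_eq (R : Row p x f χ val) (c g : G) : val (c * g * c⁻¹) = val g := by
  have h := Char.irr_isClassFunction χ.2 g c
  rw [R.val_eq, R.val_eq] at h
  exact_mod_cast h

theorem Row.sum_val [Fintype G] (R : Row p x f χ val) : ∑ g, val g = 0 := by
  have h := Char.irr_classInner_ne χ.2 (Char.isIrrCharacter_one (G := G)) R.ne_one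
  rw [Char.classInner_def] at h
  simp only [map_one, mul_one, R.val_eq, mul_eq_zero, inv_eq_zero, Nat.cast_eq_zero,
    Nat.card_pos.ne', false_or] at h
  exact_mod_cast h

theorem Row.sum_sq [Fintype G] (R : Row p x f χ val) : ∑ g, val g ^ 2 = Nat.card G := by
  have h := Char.irr_classInner_self χ.2
  rw [Char.classInner_def, inv_mul_eq_iff_eq_mul₀ (Nat.cast_ne_zero.2 Nat.card_pos.ne'), mul_one] at h
  simp only [R.val_eq, map_intCast] at h
  have h' : ((∑ g, val g ^ 2 : ℤ) : ℂ) = ((Nat.card G : ℤ) : ℂ) := by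
    push_cast
    rw [← h]
    exact Finset.sum_congr rfl fun g _ => (sq _)
  exact_mod_cast h'

theorem Row.eq_one [IsSimpleGroup G] (R : Row p x f χ val) {g : G} (hg : val g = f) : g = 1 := by
  refine eq_one_of_apply_eq_degree χ.2 ?_ (by rw [R.val_eq, R.val_eq, hg, R.val_one])
  have h : (charDegree (χ : G → ℂ) : ℂ) = ((f : ℕ) : ℂ) := by
    rw [BlockB.irr_degree_cast, R.val_eq, R.val_one, Int.cast_natCast]
  have := R.four_le
  have h' : charDegree (χ : G → ℂ) = f := by exact_mod_cast h
  omega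

theorem Row.dvd_card (R : Row p x f χ val) : f ∣ Nat.card G ∧ (f - 1) ∣ Nat.card G := by
  obtain ⟨η, hη, -⟩ := R.exc
  refine ⟨?_, hη ▸ BlockB.irr_degree_dvd_card η⟩
  have h : (charDegree (χ : G → ℂ) : ℂ) = ((f : ℕ) : ℂ) := by
    rw [BlockB.irr_degree_cast, R.val_eq, R.val_one, Int.cast_natCast]
  have h' : charDegree (χ : G → ℂ) = f := by exact_mod_cast h
  exact h' ▸ BlockB.irr_degree_dvd_card χ

/-- The basic identity: `∑ (χ - 1)²` over the regular elements is `2 |G| / p`. -/
theorem Row.sum_reg_sq [Fintype G] {Ω : Type v} [MulAction G Ω] [Finite Ω] [hpf : Fact p.Prime] {P : Sylow p G}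
    (R : Row p x f χ val) (H : Hyp Ω p P) :
    (p : ℤ) * ∑ g ∈ Finset.univ.filter (fun g : G => ¬ p ∣ orderOf g), (val g - 1) ^ 2 =
      2 * Nat.card G := by
  set S := Finset.univ.filter (fun g : G => p ∣ orderOf g) with hS
  have hsplit : ∀ F : G → ℤ, ∑ g ∈ Finset.univ.filter (fun g : G => ¬ p ∣ orderOf g), F g =
      ∑ g, F g - ∑ g ∈ S, F g := fun F => by
    rw [← Finset.sum_filter_add_sum_filter_not Finset.univ (fun g : G => p ∣ orderOf g) F]
    ring
  have e : ∑ g, (val g - 1) ^ 2 = 2 * (Nat.card G : ℤ) := by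
    simp only [sub_sq, one_pow, mul_one]
    rw [Finset.sum_add_distrib, Finset.sum_sub_distrib, R.sum_sq, ← Finset.mul_sum, R.sum_val,
      Finset.sum_const, Finset.card_univ, nsmul_eq_mul, mul_one, Nat.card_eq_fintype_card]
    ring
  rw [hsplit, e, Finset.sum_congr rfl fun g hg => by
    rw [R.val_sing g (Finset.mem_filter.1 hg).2], Finset.sum_const, nsmul_eq_mul]
  have h := H.card_singular
  have hp1 : ((p - 1 : ℕ) : ℤ) = (p : ℤ) - 1 := by
    rw [Nat.cast_sub hpf.out.one_le]; push_cast; ring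
  have h' : (2 : ℤ) * p * S.card = ((p : ℤ) - 1) * Nat.card G := by
    rw [← hp1, hS]; exact_mod_cast h
  push_cast
  linear_combination (-2) * h'

variable {Ω : Type v} [MulAction G Ω] [Finite Ω] [hpf : Fact p.Prime] {P : Sylow p G}

/-- The cases of the principal block. -/
theorem Hyp.cases [IsSimpleGroup G] [IsPretransitive G Ω] (H : Hyp Ω p P) :
    (∃ (m : ℕ) (F : Type) (_ : Field F) (_ : Fintype F), Fintype.card F = 2 ^ m ∧ p = 2 ^ m + 1 ∧
      Nonempty (G ≃* Matrix.SpecialLinearGroup (Fin 2) F)) ∨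
    (∃ (x : G) (χ : IrrCharacter G) (val : G → ℤ), Row p x (3 * p - 1) χ val ∧
      ∀ g, (fx Ω g : ℤ) = 1 + val g) ∨
    (∃ (x : G) (χ : IrrCharacter G) (val : G → ℤ), Row p x (2 * p - 1) χ val ∧
      ∃ ψ : IrrCharacter G, charDegree (ψ : G → ℂ) = p ∧
        (∀ g, p ∣ orderOf g → (ψ : G → ℂ) g = 0) ∧
        (∀ g, (fx Ω g : ℂ) = 1 + (val g : ℂ) + (ψ : G → ℂ) g)) ∨
    (p = 5 ∧ ¬ IsMultiplyPretransitive G Ω 2 ∧ 7 ∣ Nat.card G ∧
      ∀ y : G, orderOf y = 7 → fx Ω y = 1) := by
  have := Fintype.ofFinite G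
  have := Fintype.ofFinite (IrrCharacter G)
  have hp := hpf.out
  have hp5 := H.five_le
  have hP : Nat.card P = p := H.card_P
  have hC := H.cent
  obtain ⟨M, hM, -, -⟩ := H.exists_inverter
  have := isPrime_of_pmodular hM
  obtain ⟨e, t, d₀, σ, CF, YF, ε, D⟩ := BrauerTuan.exists_rowData H.perf hM P hP
  have he : e = 2 := by
    have h := D.e_eq
    rw [hC] at h
    have h2 := ((P : Subgroup G).subgroupOf (Subgroup.normalizer ((P : Subgroup G) : Set G))).card_mul_index
    rw [Nat.card_congr (Subgroup.subgroupOfEquivOfLe Subgroup.le_normalizer).toEquiv, H.card_N,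
      show Nat.card (P : Subgroup G) = p from hP, show ((P : Subgroup G).subgroupOf
        (Subgroup.normalizer ((P : Subgroup G) : Set G))).index = e from h, mul_comm 2 p] at h2
    exact Nat.eq_of_mul_eq_mul_left hp.pos h2
  subst he
  have hte := D.hte
  obtain ⟨hCFcard, hYcard, hsig, hYB, hdisj, hcover, hYdeg, hmod, hcol, hrel⟩ := D.exc (by omega)
  set one : IrrCharacter G := ⟨fun _ => 1, Char.isIrrCharacter_one⟩ with hone
  obtain ⟨χ₁, hχ₁⟩ : ∃ χ₁, CF.erase one = {χ₁} :=
    Finset.card_eq_one.1 (by rw [Finset.card_erase_of_mem D.one_mem, hCFcard])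
  have hCFeq : CF = insert one {χ₁} := by rw [← hχ₁, Finset.insert_erase D.one_mem]
  have hne : χ₁ ≠ one := (Finset.mem_erase.1 (by rw [hχ₁]; exact Finset.mem_singleton_self _)).1
  have hχ₁CF : χ₁ ∈ CF := by rw [hCFeq]; simp
  have honeY : one ∉ YF := Finset.disjoint_left.1 hdisj D.one_mem
  have hχ₁Y : χ₁ ∉ YF := Finset.disjoint_left.1 hdisj hχ₁CF
  have hrel' : ∀ η ∈ YF, ∀ g : G, ¬ p ∣ orderOf g →
      1 + (ε χ₁ : ℂ) * (χ₁ : G → ℂ) g = (σ : ℂ) * (η : G → ℂ) g := fun η hη g hg => by
    have h := hrel η hη g hg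
    rw [hCFeq, Finset.sum_insert (by simp [Ne.symm hne]), Finset.sum_singleton, hone, D.eps_one] at h
    simpa using h
  obtain ⟨η₀, hη₀⟩ := Finset.card_pos.1 (show 0 < YF.card by rw [hYcard]; exact D.t_pos)
  have hσ0 : (σ : ℂ) ≠ 0 := by rcases hsig with h | h <;> simp [h]
  have heq : ∀ η ∈ YF, ∀ u : G, ¬ p ∣ orderOf u → (η : G → ℂ) u = (η₀ : G → ℂ) u := fun η hη u hu =>
    mul_left_cancel₀ hσ0 (by rw [← hrel' η hη u hu, ← hrel' η₀ hη₀ u hu])
  have hreg1 : ¬ p ∣ orderOf (1 : G) := by rw [orderOf_one]; exact hp.not_dvd_one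
  set D₁ := charDegree (χ₁ : G → ℂ) with hD₁def
  have hdeg1 : 1 + ε χ₁ * (D₁ : ℤ) = σ * (d₀ : ℤ) := by
    have h := hrel' η₀ hη₀ 1 hreg1
    rw [← BlockB.irr_degree_cast χ₁, ← BlockB.irr_degree_cast η₀, hYdeg η₀ hη₀] at h
    exact_mod_cast h
  have hD1 : 2 ≤ D₁ := by
    have hpos : 0 < D₁ := BlockB.irr_degree_pos χ₁
    by_contra hlt
    have h1 : (χ₁ : G → ℂ) 1 = 1 := by
      rw [← BlockB.irr_degree_cast χ₁, show charDegree (χ₁ : G → ℂ) = D₁ from rfl,
        show D₁ = 1 by omega, Nat.cast_one]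
    exact hne (Subtype.ext (eq_one_of_degree_one H.perf χ₁ h1))
  obtain ⟨x, hxP, hx1⟩ : ∃ x ∈ (P : Subgroup G), x ≠ 1 := by
    refine Subgroup.bot_or_exists_ne_one _ |>.resolve_left fun h => ?_
    have hQ : Nat.card (P : Subgroup G) = p := hP
    rw [h, Subgroup.card_bot] at hQ
    exact hp.ne_one hQ.symm
  have hxo : orderOf x = p := by
    have h := (P : Subgroup G).orderOf_dvd_natCard hxP
    rw [show Nat.card (P : Subgroup G) = p from hP] at h
    exact (hp.eq_one_or_self_of_dvd _ h).resolve_left fun h1 => hx1 (orderOf_eq_one_iff.1 h1)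
  -- the row, once its degree is known
  have mkRow : ε χ₁ = -1 → σ = -1 → d₀ + 1 = D₁ → 4 ≤ D₁ →
      ∃ val : G → ℤ, Row p x D₁ χ₁ val := by
    intro hε1 hσ hd0 h4
    have hvalP : ∀ y ∈ (P : Subgroup G), y ≠ 1 → (χ₁ : G → ℂ) y = -1 := fun y hy hy1 => by
      rw [D.CF_val χ₁ hχ₁CF y hy hy1, hε1]; norm_num
    have hfix : ∀ m : ℕ, m.Coprime (Nat.card G) → ∀ u : G, (χ₁ : G → ℂ) (u ^ m) = (χ₁ : G → ℂ) u :=
      fun m hm u => by
      let χ' : IrrCharacter G := ⟨fun v => (χ₁ : G → ℂ) (v ^ m),
        BlockA.isIrrCharacter_comp_pow hm χ₁.2⟩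
      have hxm : x ^ m ≠ 1 := fun h => hx1 (by
        rw [← orderOf_eq_one_iff]
        exact Nat.eq_one_of_dvd_coprimes hm (orderOf_dvd_of_pow_eq_one h) (orderOf_dvd_natCard x))
      have hB : χ' ∈ principalBlock M G := by
        by_contra hB
        have h := apply_eq_zero_of_not_principal hP hC hM χ' hB hxP hx1
        change (χ₁ : G → ℂ) (x ^ m) = 0 at h
        rw [hvalP _ (pow_mem hxP m) hxm] at h
        norm_num at h
      have hd : charDegree (χ' : G → ℂ) = D₁ := by
        rw [hD₁def]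
        change charDegree (fun v => (χ₁ : G → ℂ) (v ^ m)) = _
        simp [charDegree]
      have e : χ' = χ₁ := by
        rcases hcover χ' hB with h | h
        · rw [hCFeq] at h
          rcases Finset.mem_insert.1 h with h | h
          · rw [h] at hd
            simp [hone, charDegree] at hd
            omega
          · exact Finset.mem_singleton.1 h
        · have := hYdeg χ' h
          omega
      exact congrFun (congrArg Subtype.val e) u
    have hint : ∀ g, ∃ k : ℤ, (χ₁ : G → ℂ) g = k := fun g => by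
      obtain ⟨q, hq⟩ := Char.exists_rat_of_emb_fixed (Char.charVal (Char.irr_isCharacter χ₁.2) g)
        fun ψ => by
          obtain ⟨m, hm, hψ⟩ := Char.exists_pow_of_emb (Nat.card_pos (α := G)) ψ
          rw [Char.emb_charVal (Char.irr_isCharacter χ₁.2) ψ hψ g, hfix m hm g]
          rfl
      have hq' : (χ₁ : G → ℂ) g = (q : ℂ) := hq
      obtain ⟨k, hk⟩ := Char.exists_int_of_isIntegral_rat
        (hq' ▸ irr_apply_isIntegral (Char.irr_isCharacter χ₁.2) g)
      exact ⟨k, by rw [hq', hk, Rat.cast_intCast]⟩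
    choose val hval using hint
    have hηval : ∀ η ∈ YF, ∀ g : G, ¬ p ∣ orderOf g → (η : G → ℂ) g = (val g : ℂ) - 1 := fun η hη g hg => by
      have h := hrel' η hη g hg
      rw [hε1, hσ, hval g] at h
      push_cast at h
      linear_combination h
    refine ⟨val, ⟨h4, fun h => hne (Subtype.ext h), hval, ?_, ?_, hxo,
      ⟨η₀, by rw [hYdeg η₀ hη₀]; omega, hηval η₀ hη₀⟩, ?_⟩⟩
    · have h := hval 1
      rw [← BlockB.irr_degree_cast χ₁, ← hD₁def] at h
      exact_mod_cast h.symm
    · intro g hg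
      obtain ⟨y, hy, hy1, he, -⟩ := apply_singular hP hC (Char.irr_isClassFunction χ₁.2) hg
      rw [hvalP y hy hy1, hval g] at he
      exact_mod_cast he
    · intro y z hy hz
      rw [Nat.card_eq_fintype_card, Fintype.card_subtype]
      set T := Finset.univ.filter fun t : G => IsConj (y * (t * z * t⁻¹)) x
      have hcenx : Subgroup.centralizer ({x} : Set G) = (P : Subgroup G) := cen_eq hP hC hxP hx1
      have hF : ∀ g, ∑ χ : IrrCharacter G, (χ : G → ℂ) g * conj ((χ : G → ℂ) x) =
          if IsConj g x then (p : ℂ) else 0 := fun g => by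
        rw [Char.column_orthogonality g x]
        split_ifs with hg
        · obtain ⟨c, hc⟩ := isConj_iff.1 hg
          have h2 : Nat.card (Subgroup.centralizer ({g} : Set G)) = p := by
            have h1 := Char.natCard_carrier_mul_centralizer g
            rw [ConjClasses.mk_eq_mk_iff_isConj.2 hg, ← Char.natCard_carrier_mul_centralizer x, hcenx,
              show Nat.card (P : Subgroup G) = p from hP] at h1
            exact Nat.eq_of_mul_eq_mul_left (by
              have : Nonempty (ConjClasses.mk x).carrier := ⟨⟨x, ConjClasses.mem_carrier_mk⟩⟩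
              exact Nat.card_pos) h1
          rw [h2]
        · rfl
      have hnz : ∀ χ : IrrCharacter G, χ ∉ principalBlock M G → (χ : G → ℂ) x = 0 :=
        fun χ hχ => apply_eq_zero_of_not_principal hP hC hM χ hχ hxP hx1
      have hsum : ∑ t : G, ∑ χ : IrrCharacter G, (χ : G → ℂ) (y * (t * z * t⁻¹)) * conj ((χ : G → ℂ) x) =
          (Nat.card G : ℂ) * (1 - (val y : ℂ) * val z / (D₁ : ℂ) +
            ((val y : ℂ) - 1) * ((val z : ℂ) - 1) / ((D₁ : ℂ) - 1)) := by
        rw [Finset.sum_comm]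
        simp only [← Finset.sum_mul]
        rw [Finset.sum_congr rfl fun χ _ => by rw [BlockB.sum_irr_mul_conj],
          ← Finset.sum_subset (Finset.subset_univ (CF ∪ YF)) fun χ _ hχ => ?_,
          Finset.sum_union hdisj, hCFeq, Finset.sum_insert (by simp [Ne.symm hne]), Finset.sum_singleton,
          Finset.sum_congr rfl (g := fun η : IrrCharacter G =>
            (Nat.card G : ℂ) * (((val y : ℂ) - 1) * ((val z : ℂ) - 1) / ((D₁ : ℂ) - 1)) *
              conj ((η : G → ℂ) x)) fun η hη => ?_,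
          ← Finset.mul_sum, ← map_sum, hcol x hxP hx1, hvalP x hxP hx1, hval y, hval z, hσ,
          ← BlockB.irr_degree_cast χ₁, ← hD₁def]
        · simp only [hone, mul_one, div_one, map_one, map_neg, Int.reduceNeg, neg_neg, Int.cast_one]
          ring
        · rw [hηval η hη y hy, hηval η hη z hz, ← BlockB.irr_degree_cast η, hYdeg η hη,
            show (D₁ : ℂ) - 1 = (d₀ : ℂ) by rw [← hd0]; push_cast; ring]
          ring
        · rw [hnz χ fun hB => hχ (Finset.mem_union.2 (hcover χ hB)), map_zero, mul_zero]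
      simp only [hF] at hsum
      rw [Finset.sum_ite, Finset.sum_const, Finset.sum_const_zero, add_zero, nsmul_eq_mul] at hsum
      have e1 : (D₁ : ℂ) ≠ 0 := Nat.cast_ne_zero.2 (by omega)
      have e2 : (D₁ : ℂ) - 1 ≠ 0 := by
        rw [← hd0]; push_cast
        simpa using (show d₀ ≠ 0 by omega)
      field_simp at hsum
      have h : ((p : ℤ) * D₁ * ((D₁ : ℤ) - 1) * (T.card : ℤ) : ℂ) =
          (((Nat.card G : ℤ) * ((D₁ : ℤ) - val y) * ((D₁ : ℤ) - val z) : ℤ) : ℂ) := by
        push_cast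
        linear_combination hsum
      exact_mod_cast h
  -- the permutation character
  let π : G → ℂ := fun g => (fx Ω g : ℂ)
  obtain ⟨a₀⟩ := H.nonempty
  have := Fintype.ofFinite (MulAction.stabilizer G a₀)
  have eπ : π = Cfsg.indFun (MulAction.stabilizer G a₀) (fun _ => 1) :=
    funext fun g => Char.natCard_fixedBy_eq_indFun Ω a₀ g
  have hπ : IsCharacter G π := eπ ▸ Char.isCharacter_indFun _ Char.isCharacter_one
  have hπ1 : classInner π (one : G → ℂ) = 1 := by
    rw [hone, eπ, Char.frobenius_reciprocity _ _ _ (Char.irr_isClassFunction Char.isIrrCharacter_one)]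
    exact Char.irr_classInner_self Char.isIrrCharacter_one
  choose m hm using fun χ : IrrCharacter G =>
    Char.classInner_isCharacter_nat hπ (Char.irr_isCharacter χ.2)
  have hexp : ∀ u, π u = ∑ χ : IrrCharacter G, (m χ : ℂ) * (χ : G → ℂ) u := fun u => by
    rw [Char.classFunction_apply_eq_sum (Char.isCharacter_isClassFunction hπ) u]
    exact Finset.sum_congr rfl fun χ _ => by rw [hm χ]
  have hm1 : m one = 1 := by
    have : (m one : ℂ) = 1 := by rw [← hm one, hπ1]
    exact_mod_cast this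
  set rest := (Finset.univ \ ({one, χ₁} ∪ YF) : Finset (IrrCharacter G)) with hrestdef
  have hdec : ∀ u, π u = 1 + (m χ₁ : ℂ) * (χ₁ : G → ℂ) u + ∑ η ∈ YF, (m η : ℂ) * (η : G → ℂ) u +
      ∑ χ ∈ rest, (m χ : ℂ) * (χ : G → ℂ) u := fun u => by
    rw [hexp u, ← Finset.sum_sdiff (Finset.subset_univ ({one, χ₁} ∪ YF)), add_comm,
      Finset.sum_union (by simp [Finset.disjoint_left, honeY, hχ₁Y]),
      Finset.sum_insert (by simp [Ne.symm hne]), Finset.sum_singleton, hm1, Nat.cast_one, one_mul]
  have hrestP : ∀ χ ∈ rest, ∀ y ∈ (P : Subgroup G), y ≠ 1 → (χ : G → ℂ) y = 0 := fun χ hχ y hy hy1 =>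
    apply_eq_zero_of_not_principal hP hC hM χ (fun hB => (Finset.mem_sdiff.1 hχ).2 (by
      rcases hcover χ hB with h | h
      · rw [hCFeq] at h; exact Finset.mem_union_left _ h
      · exact Finset.mem_union_right _ h)) hy hy1
  obtain ⟨n, hn⟩ : ∃ n : ℤ, n = σ * (1 + ε χ₁ * (m χ₁ : ℤ)) := ⟨_, rfl⟩
  let fn : G → ℂ := fun u => ∑ η ∈ YF, ((m η : ℂ) - n) * (η : G → ℂ) u
  have hfP : ∀ y ∈ (P : Subgroup G), y ≠ 1 → fn y = 0 := fun y hy hy1 => by
    have h0 : π y = 0 := by simp only [π, H.free_P hy hy1, Nat.cast_zero]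
    have h := hdec y
    rw [h0, D.CF_val χ₁ hχ₁CF y hy hy1,
      Finset.sum_eq_zero (s := rest) fun χ hχ => by rw [hrestP χ hχ y hy hy1, mul_zero], add_zero] at h
    simp only [fn, sub_mul, Finset.sum_sub_distrib, ← Finset.mul_sum, hcol y hy hy1]
    rw [hn]
    push_cast
    have hσ2 : (σ : ℂ) * σ = 1 := by rcases hsig with h | h <;> simp [h]
    linear_combination -h + (1 + (ε χ₁ : ℂ) * (m χ₁ : ℂ)) * hσ2
  have hfcl : IsClassFunction G fn := fun a b => Finset.sum_congr rfl fun η _ => by
    rw [Char.irr_isClassFunction η.2 a b]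
  have hsum0 : ∀ η ∈ YF, ∑ u : G, (η : G → ℂ) u = 0 := fun η hη => by
    have h := Char.irr_classInner η.2 (Char.isIrrCharacter_one (G := G))
    rw [if_neg (fun he => honeY (by
      have : η = one := Subtype.ext he
      rwa [← this])), Char.classInner_def] at h
    simpa [Nat.card_pos.ne'] using h
  set Cst : ℂ := ∑ η ∈ YF, ((m η : ℂ) - n) with hCst
  have hfsing : ∀ u, p ∣ orderOf u → fn u = 0 := fun u hu => by
    obtain ⟨y, hy, hy1, he, -⟩ := apply_singular hP hC hfcl hu
    rw [he, hfP y hy hy1]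
  have hfreg : ∀ u, ¬ p ∣ orderOf u → fn u = Cst * (η₀ : G → ℂ) u := fun u hu => by
    rw [hCst, Finset.sum_mul]
    exact Finset.sum_congr rfl fun η hη => by rw [heq η hη u hu]
  have hC0 : Cst = 0 := by
    set R := ∑ u ∈ Finset.univ.filter (fun u : G => ¬ p ∣ orderOf u), (η₀ : G → ℂ) u
    have hR : (t : ℂ) * R + ((Finset.univ.filter fun u : G => p ∣ orderOf u).card : ℂ) * (-σ) = 0 := by
      have h : ∑ u : G, ∑ η ∈ YF, (η : G → ℂ) u = 0 := by
        rw [Finset.sum_comm]; exact Finset.sum_eq_zero hsum0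
      rw [← Finset.sum_filter_add_sum_filter_not _ (fun u : G => p ∣ orderOf u), add_comm] at h
      rw [← h, Finset.card_eq_sum_ones, Nat.cast_sum, Finset.mul_sum, Finset.sum_mul]
      refine congrArg₂ (· + ·) (Finset.sum_congr rfl fun u hu => ?_) (Finset.sum_congr rfl fun u hu => ?_)
      · rw [Finset.sum_congr rfl fun η hη => heq η hη u (Finset.mem_filter.1 hu).2, Finset.sum_const,
          hYcard, nsmul_eq_mul]
      · obtain ⟨y, hy, hy1, -, hc⟩ :=
          apply_singular hP hC (Char.irr_isClassFunction η₀.2) (Finset.mem_filter.1 hu).2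
        rw [Finset.sum_congr rfl fun η _ => Char.isClassFunction_isConj
          (Char.irr_isClassFunction η.2) hc, hcol y hy hy1]
        push_cast; ring
    have hf0 : ∑ u : G, fn u = 0 := by
      simp only [fn]
      rw [Finset.sum_comm]
      exact Finset.sum_eq_zero fun η hη => by rw [← Finset.mul_sum, hsum0 η hη, mul_zero]
    rw [← Finset.sum_filter_add_sum_filter_not _ (fun u : G => p ∣ orderOf u),
      Finset.sum_eq_zero fun u hu => hfsing u (Finset.mem_filter.1 hu).2, zero_add,
      Finset.sum_congr rfl fun u hu => hfreg u (Finset.mem_filter.1 hu).2, ← Finset.mul_sum] at hf0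
    refine (mul_eq_zero.1 hf0).resolve_right fun (h : R = 0) => ?_
    rw [h, mul_zero, zero_add, mul_eq_zero, or_iff_left (neg_ne_zero.2 hσ0), Nat.cast_eq_zero,
      Finset.card_eq_zero] at hR
    exact (Finset.filter_eq_empty_iff.1 hR (Finset.mem_univ x)) (by rw [hxo])
  have hmY : ∀ η ∈ YF, (m η : ℤ) = n := fun η hη => by
    have h : classInner fn (η : G → ℂ) = (m η : ℂ) - n := by
      rw [show fn = ∑ θ ∈ YF, ((m θ : ℂ) - n) • (θ : G → ℂ) from funext fun u => by
        simp [fn, Finset.sum_apply], Char.classInner_sum_left, Finset.sum_eq_single_of_mem η hη]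
      · rw [Char.classInner_smul_left, Char.irr_classInner_self η.2, mul_one]
      · intro θ _ hne'
        rw [Char.classInner_smul_left, Char.irr_classInner_ne θ.2 η.2 (fun he => hne' (Subtype.ext he)),
          mul_zero]
    have h0 : classInner fn (η : G → ℂ) = 0 := by
      rw [Char.classInner_def]
      simp [show ∀ u, fn u = 0 from fun u => by
        by_cases hu : p ∣ orderOf u
        · exact hfsing u hu
        · rw [hfreg u hu, hC0, zero_mul]]
    rw [h0, eq_comm, sub_eq_zero] at h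
    exact_mod_cast h
  have hd : 3 * p = 1 + m χ₁ * D₁ + t * m η₀ * d₀ + ∑ χ ∈ rest, m χ * charDegree (χ : G → ℂ) := by
    have h1 : π 1 = ((3 * p : ℕ) : ℂ) := by simp only [π, fx_one, H.card_Ω]
    have h := hdec 1
    rw [h1, ← BlockB.irr_degree_cast χ₁,
      Finset.sum_congr rfl fun (η : IrrCharacter G) (hη : η ∈ YF) =>
        show (m η : ℂ) * (η : G → ℂ) 1 = ((m η₀ * d₀ : ℕ) : ℂ) by
          have e : m η = m η₀ := by
            have := hmY η hη
            have := hmY η₀ hη₀
            omega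
          rw [e, ← BlockB.irr_degree_cast η, hYdeg η hη]; push_cast; ring,
      Finset.sum_const, hYcard, nsmul_eq_mul,
      Finset.sum_congr rfl fun χ _ => by rw [← BlockB.irr_degree_cast χ, ← Nat.cast_mul]] at h
    rw [mul_assoc t]
    exact_mod_cast h
  have hmodD : (p : ℤ) ∣ ε χ₁ - (D₁ : ℤ) := D.CF_mod χ₁ hχ₁CF
  have hd₀pos : 0 < d₀ := hYdeg η₀ hη₀ ▸ BlockB.irr_degree_pos η₀
  have hε := D.eps_pm χ₁ hχ₁CF
  have hmY0 : ∀ η ∈ YF, m η = m η₀ := fun η hη => by
    have := hmY η hη
    have := hmY η₀ hη₀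
    omega
  rcases Nat.eq_zero_or_pos (m η₀) with hz | hpos
  · have h0 : σ * (1 + ε χ₁ * (m χ₁ : ℤ)) = 0 := by
      have := hmY η₀ hη₀
      rw [hz, hn] at this
      exact this.symm
    obtain ⟨hε1, hm1'⟩ : ε χ₁ = -1 ∧ m χ₁ = 1 := by
      rcases hsig with hs | hs <;> rcases hε with he | he <;> rw [hs, he] at h0 <;>
        first
          | (exfalso; omega)
          | exact ⟨he, by omega⟩
    rw [hε1] at hdeg1 hmodD
    rw [hz, hm1'] at hd
    simp only [mul_zero, zero_mul, add_zero, one_mul] at hd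
    have hσ1 : σ = -1 := by
      rcases hsig with hs | hs
      · rw [hs] at hdeg1; omega
      · exact hs
    rw [hσ1] at hdeg1
    have hk : ∃ k, D₁ + 1 = k * p ∧ 1 ≤ k ∧ k ≤ 3 := by
      obtain ⟨k, hk⟩ := (Int.natCast_dvd_natCast.1 (show (p : ℤ) ∣ ((D₁ + 1 : ℕ) : ℤ) by
        push_cast
        rw [show (D₁ : ℤ) + 1 = -(-1 - (D₁ : ℤ)) by ring]
        exact dvd_neg.2 hmodD) : p ∣ D₁ + 1)
      refine ⟨k, by rw [hk, mul_comm], ?_, ?_⟩
      · rcases Nat.eq_zero_or_pos k with h | h
        · rw [h, mul_zero] at hk; omega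
        · exact h
      · by_contra hlt
        have : p * 4 ≤ p * k := Nat.mul_le_mul_left _ (by omega)
        omega
    obtain ⟨k, hk, hk1, hk3⟩ := hk
    obtain rfl | rfl | rfl : k = 1 ∨ k = 2 ∨ k = 3 := by omega
    · subst hσ1
      exact Or.inl (BrauerTuan.sl_two_of_e_two H.perf hp5 hM P hP hC D (by omega))
    · -- rank three
      obtain ⟨val, R⟩ := mkRow hε1 hσ1 (by omega) (by omega)
      have hrd : ∀ χ ∈ rest, p ∣ charDegree (χ : G → ℂ) := fun χ hχ => by
        obtain ⟨j, hj⟩ := Char.char_one_dvd_of_vanish p P (Char.irr_isCharacter χ.2)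
          fun g hg hg1 => hrestP χ hχ g hg hg1
        refine ⟨j, ?_⟩
        rw [← BlockB.irr_degree_cast χ, show Nat.card P = p from hP] at hj
        exact_mod_cast hj
      have hsum : ∑ χ ∈ rest, m χ * charDegree (χ : G → ℂ) = p := by omega
      obtain ⟨ψ, hψr, hψ0⟩ : ∃ ψ ∈ rest, m ψ * charDegree (ψ : G → ℂ) ≠ 0 :=
        Finset.exists_ne_zero_of_sum_ne_zero (by rw [hsum]; exact hp.ne_zero)
      have hψle : p ≤ charDegree (ψ : G → ℂ) :=
        Nat.le_of_dvd (BlockB.irr_degree_pos ψ) (hrd ψ hψr)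
      have hsplit := hsum
      rw [← Finset.add_sum_erase _ _ hψr] at hsplit
      have hmψ : 1 ≤ m ψ := Nat.pos_of_ne_zero fun h => hψ0 (by rw [h, zero_mul])
      have hle : charDegree (ψ : G → ℂ) ≤ m ψ * charDegree (ψ : G → ℂ) :=
        Nat.le_mul_of_pos_left _ hmψ
      have hψd : charDegree (ψ : G → ℂ) = p := by omega
      have hmψ1 : m ψ = 1 := by
        have : m ψ * charDegree (ψ : G → ℂ) ≤ 1 * charDegree (ψ : G → ℂ) := by omega
        have := Nat.le_of_mul_le_mul_right this (BlockB.irr_degree_pos ψ)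
        omega
      have hother : ∀ χ ∈ rest, χ ≠ ψ → m χ = 0 := fun χ hχ hχψ => by
        have h0 : ∑ χ ∈ rest.erase ψ, m χ * charDegree (χ : G → ℂ) = 0 := by omega
        exact (mul_eq_zero.1 (Finset.sum_eq_zero_iff.1 h0 χ (Finset.mem_erase.2 ⟨hχψ, hχ⟩))).resolve_right
          (BlockB.irr_degree_pos χ).ne'
      refine Or.inr (Or.inr (Or.inl ⟨x, χ₁, val, ?_, ψ, hψd, fun g hg => ?_, fun g => ?_⟩))
      · rwa [show D₁ = 2 * p - 1 by omega] at R
      · obtain ⟨y, hy, hy1, he, -⟩ := apply_singular hP hC (Char.irr_isClassFunction ψ.2) hg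
        rw [he, hrestP ψ hψr y hy hy1]
      · have h := hdec g
        rw [Finset.sum_eq_zero (s := YF) fun η hη => by rw [hmY0 η hη, hz, Nat.cast_zero, zero_mul],
          Finset.sum_eq_single_of_mem ψ hψr fun χ hχ hχψ => by rw [hother χ hχ hχψ, Nat.cast_zero, zero_mul],
          hm1', hmψ1, R.val_eq] at h
        simp only [π] at h
        rw [h]; push_cast; ring
    · -- doubly transitive
      obtain ⟨val, R⟩ := mkRow hε1 hσ1 (by omega) (by omega)
      refine Or.inr (Or.inl ⟨x, χ₁, val, ?_, fun g => ?_⟩)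
      · rwa [show D₁ = 3 * p - 1 by omega] at R
      · have hrest : ∀ χ ∈ rest, m χ = 0 := fun χ hχ => by
          have h1 : ∑ χ ∈ rest, m χ * charDegree (χ : G → ℂ) = 0 := by omega
          exact (mul_eq_zero.1 (Finset.sum_eq_zero_iff.1 h1 χ hχ)).resolve_right
            (BlockB.irr_degree_pos χ).ne'
        have h := hdec g
        rw [Finset.sum_eq_zero (s := YF) fun η hη => by rw [hmY0 η hη, hz, Nat.cast_zero, zero_mul],
          Finset.sum_eq_zero (s := rest) fun χ hχ => by rw [hrest χ hχ, Nat.cast_zero, zero_mul],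
          hm1', R.val_eq] at h
        simp only [π] at h
        have h' : ((fx Ω g : ℤ) : ℂ) = ((1 + val g : ℤ) : ℂ) := by push_cast; rw [h]; ring
        exact_mod_cast h'
  · -- the exceptional characters occur
    have hle : t * d₀ ≤ 6 * t + 2 := by
      have : t * d₀ ≤ t * m η₀ * d₀ := by
        rw [mul_assoc]; exact Nat.mul_le_mul_left _ (Nat.le_mul_of_pos_left _ hpos)
      omega
    have hd7 : d₀ ≤ 7 := by
      by_contra hlt
      push Not at hlt
      have : t * 8 ≤ t * d₀ := Nat.mul_le_mul_left _ hlt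
      omega
    have hd1 : σ * (d₀ : ℤ) ≠ 2 := by
      intro h
      rw [h] at hdeg1
      rcases hε with he | he <;> rw [he] at hdeg1 <;> omega
    have hp9 : p ≤ 9 := by
      obtain ⟨k, hk⟩ := hmod
      have hk0 : k ≠ 0 := fun h => by
        rw [h, mul_zero] at hk
        rcases hsig with hs | hs <;> rw [hs] at hk hd1 <;> omega
      have h1 : p ≤ ((p : ℤ) * k).natAbs := by
        rw [Int.natAbs_mul, Int.natAbs_natCast]
        exact Nat.le_mul_of_pos_right _ (Int.natAbs_pos.2 hk0)
      rw [← hk] at h1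
      rcases hsig with hs | hs <;> rw [hs] at h1 <;> omega
    have hn' : (m η₀ : ℤ) = σ * (1 + ε χ₁ * (m χ₁ : ℤ)) := by rw [hmY η₀ hη₀, hn]
    have hp57 : p = 5 ∨ p = 7 := by
      rcases (show p = 5 ∨ p = 6 ∨ p = 7 ∨ p = 8 ∨ p = 9 by omega) with h | h | h | h | h
      · exact Or.inl h
      · exact absurd (h ▸ hp) (by norm_num)
      · exact Or.inr h
      · exact absurd (h ▸ hp) (by norm_num)
      · exact absurd (h ▸ hp) (by norm_num)
    rcases hp57 with rfl | rfl
    · obtain rfl : t = 2 := by omega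
      rcases hsig with hs | hs
      · -- degree seven
        rw [hs] at hmod hdeg1 hd1 hn'
        have hd07 : d₀ = 7 := by
          interval_cases d₀ <;> omega
        subst hd07
        have hε1 : ε χ₁ = 1 ∧ D₁ = 6 := by
          rcases hε with he | he <;> rw [he] at hdeg1
          · exact ⟨he, by omega⟩
          · omega
        obtain ⟨hε1, hD6⟩ := hε1
        rw [hε1] at hn'
        rw [hD6] at hd
        obtain ⟨hm0, hmη⟩ : m χ₁ = 0 ∧ m η₀ = 1 := by omega
        rw [hm0, hmη] at hd
        have hrest : ∀ χ ∈ rest, m χ = 0 := fun χ hχ => by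
          have h1 : ∑ χ ∈ rest, m χ * charDegree (χ : G → ℂ) = 0 := by omega
          exact (mul_eq_zero.1 (Finset.sum_eq_zero_iff.1 h1 χ hχ)).resolve_right
            (BlockB.irr_degree_pos χ).ne'
        have hπeq : ∀ g, π g = 1 + ∑ η ∈ YF, (η : G → ℂ) g := fun g => by
          rw [hdec g, hm0, Finset.sum_eq_zero (s := rest) fun χ hχ => by rw [hrest χ hχ, Nat.cast_zero, zero_mul],
            Finset.sum_congr rfl fun η hη => by rw [hmY0 η hη, hmη, Nat.cast_one, one_mul]]
          simp
        refine Or.inr (Or.inr (Or.inr ⟨rfl, fun h2 => ?_, ?_, fun y hy => ?_⟩))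
        · have hirr := (Char.isIrr_perm_iff Ω (by rw [H.card_Ω]; norm_num)).2 h2
          have hone' : ∀ η ∈ YF, classInner (fun g => π g - 1) (η : G → ℂ) = 1 := fun η hη => by
            rw [show (fun g => π g - 1) = ∑ θ ∈ YF, (θ : G → ℂ) from funext fun u => by
              rw [hπeq u, Finset.sum_apply]; ring, Char.classInner_sum_left,
              Finset.sum_eq_single_of_mem η hη fun θ _ h' =>
                Char.irr_classInner_ne θ.2 η.2 (fun he => h' (Subtype.ext he))]
            exact Char.irr_classInner_self η.2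
          have hall : ∀ η ∈ YF, (fun g => π g - 1) = (η : G → ℂ) := fun η hη => by
            by_contra h'
            have := hone' η hη
            rw [Char.irr_classInner_ne hirr η.2 h'] at this
            exact zero_ne_one this
          obtain ⟨a, b, hab, hY2⟩ := Finset.card_eq_two.1 hYcard
          exact hab (Subtype.ext ((hall a (by rw [hY2]; simp)).symm.trans (hall b (by rw [hY2]; simp))))
        · rw [← hYdeg η₀ hη₀]; exact BlockB.irr_degree_dvd_card η₀
        · have hreg : ¬ (5 : ℕ) ∣ orderOf y := by rw [hy]; norm_num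
          have h := hπeq y
          rw [Finset.sum_congr rfl fun η hη => heq η hη y hreg, Finset.sum_const, hYcard] at h
          have hη2 : (η₀ : G → ℂ) y = (((fx Ω y : ℚ) - 1) / 2 : ℚ) := by
            simp only [π, nsmul_eq_mul] at h
            push_cast at h ⊢
            rw [h]; ring
          obtain ⟨k, hk⟩ := Char.exists_int_of_isIntegral_rat
            (hη2 ▸ irr_apply_isIntegral (Char.irr_isCharacter η₀.2) y)
          have hk' : (fx Ω y : ℤ) = 2 * k + 1 := by
            have : (fx Ω y : ℚ) = ((2 * k + 1 : ℤ) : ℚ) := by push_cast; linarith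
            exact_mod_cast this
          have h7 : (7 : ℕ).Prime := by norm_num
          have : Fact (Nat.Prime 7) := ⟨h7⟩
          have hd' : IsPGroup 7 (Subgroup.zpowers y) := IsPGroup.of_card (n := 1) (by
            rw [Nat.card_zpowers, hy, pow_one])
          have hmodf := hd'.card_modEq_card_fixedPoints (α := Ω)
          have efix : Nat.card (fixedPoints (Subgroup.zpowers y) Ω) = fx Ω y := by
            refine Nat.card_congr (Equiv.setCongr (Set.ext fun a => ?_))
            simp only [mem_fixedPoints, mem_fixedBy]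
            refine ⟨fun h => h ⟨y, Subgroup.mem_zpowers y⟩, fun h g => ?_⟩
            obtain ⟨g, hg⟩ := g
            obtain ⟨i, rfl⟩ := Subgroup.mem_zpowers_iff.1 hg
            have : y ∈ stabilizer G a := h
            exact (stabilizer G a).zpow_mem this i
          rw [efix, H.card_Ω] at hmodf
          have h15 : fx Ω y ≤ 15 := by
            have := Finite.card_subtype_le (fun a : Ω => a ∈ fixedBy Ω y)
            rw [H.card_Ω] at this
            exact this
          have hne15 : fx Ω y ≠ 15 := fun h15' => by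
            have := H.nonempty
            have h1 : y • (Classical.arbitrary Ω) = Classical.arbitrary Ω := by
              have hu : fixedBy Ω y = Set.univ :=
                Set.eq_of_subset_of_ncard_le (Set.subset_univ _) (le_of_eq (by
                  rw [Set.ncard_univ, ← Nat.card_coe_set_eq, H.card_Ω]; exact h15'.symm)) (Set.toFinite _)
              exact (hu ▸ Set.mem_univ _ : Classical.arbitrary Ω ∈ fixedBy Ω y)
            have h := hπeq y
            rw [Finset.sum_congr rfl fun η hη => heq η hη y hreg, Finset.sum_const, hYcard] at h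
            simp only [π, nsmul_eq_mul, h15'] at h
            have hv : (η₀ : G → ℂ) y = (η₀ : G → ℂ) 1 := by
              rw [← BlockB.irr_degree_cast η₀, hYdeg η₀ hη₀]
              push_cast at h ⊢
              linear_combination -(1/2 : ℂ) * h
            have := eq_one_of_apply_eq_degree η₀.2 (by rw [hYdeg η₀ hη₀]; norm_num) hv
            rw [this, orderOf_one] at hy
            omega
          unfold Nat.ModEq at hmodf
          omega
      · subst hs
        have hd03 : d₀ = 3 := by interval_cases d₀ <;> omega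
        exact Or.inl (BrauerTuan.sl_two_of_e_two H.perf hp5 hM P hP hC D (by omega))
    · obtain rfl : t = 3 := by omega
      exfalso
      rcases hsig with hs | hs <;> rcases hε with he | he <;>
        rw [hs, he] at hdeg1 hn' <;> rw [hs] at hmod hd1 <;> interval_cases d₀ <;>
        first | omega | (rw [show D₁ = 6 by omega] at hd; omega)

end CfsgLib.Perm.ThreeP
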