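import Mathlib.Data.Nat.Factorial.Basic
import Mathlib.Tactic.IntervalCases
import Mathlib.Tactic.NormNum.Prime

/-!
The numerical endgame.
-/

set_option autoImplicit false

namespace CfsgLib.Perm.ThreeP

theorem small_cases {p n r : ℕ} (hp : p.Prime) (hp5 : 5 ≤ p) (hn : 3 * p = 2 ^ n + 1)
    (hr : r ∣ Nat.factorial 8) (hro : Odd r) (h3 : 3 ∣ r) (hmod : r ^ 2 % p = 1)
    (hbig : 2 * p ≤ r + 1) : p = 11 ∧ (r = 21 ∨ r = 45) := by
  have h315 : r ∣ 315 := by
    have h : r ∣ 2 ^ 7 * 315 := by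
      rwa [show (2 : ℕ) ^ 7 * 315 = Nat.factorial 8 from rfl]
    exact (Nat.Coprime.pow_right 7 (Nat.coprime_two_right.2 hro)).dvd_of_dvd_mul_left h
  have hr' : r ≤ 315 := Nat.le_of_dvd (by norm_num) h315
  have hn8 : n ≤ 8 := by
    by_contra h
    have := Nat.pow_le_pow_right two_pos (show 9 ≤ n by omega)
    omega
  have hcases : p = 11 ∨ p = 43 := by
    interval_cases n <;> omega
  obtain ⟨j, hj⟩ := h3
  rcases hcases with rfl | rfl <;> interval_cases r <;> omega

end CfsgLib.Perm.ThreeP
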