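import Cfsg.Agent.Lib.Perm.ThreeP.TopThree
import Cfsg.Agent.Lib.Perm.ThreeP.OrbitBound
import Cfsg.Agent.Lib.Perm.ThreeP.Middle
import Cfsg.Agent.Lib.Perm.ThreeP.SmallCases

/-!
The row of degree `3p - 1`: involutions with one fixed point.
-/

set_option autoImplicit false
set_option linter.unusedSectionVars false
set_option linter.style.haveILetI false

namespace CfsgLib.Perm.ThreeP

open MulAction Cfsg CfsgLib CfsgLib.Block CfsgLib.Block.BrauerReynolds
open scoped _root_.Classical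

universe u v

variable {G : Type u} [Group G] [Finite G] {Ω : Type v} [MulAction G Ω] [Finite Ω]
  [IsPretransitive G Ω] [FaithfulSMul G Ω] {p : ℕ}
  [hpf : Fact p.Prime] {P : Sylow p G} {x : G} {χ : IrrCharacter G} {val : G → ℤ}

theorem Row.two_pretransitive (R : Row p x (3 * p - 1) χ val) (H : Hyp Ω p P)
    (hfx : ∀ g, (fx Ω g : ℤ) = 1 + val g) : IsMultiplyPretransitive G Ω 2 := by
  refine (Char.isIrr_perm_iff Ω (by rw [H.card_Ω]; have := H.five_le; omega)).1 ?_
  have h : (fun g => (Nat.card (fixedBy Ω g) : ℂ) - 1) = (χ : G → ℂ) := funext fun g => by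
    have h' : (fx Ω g : ℂ) = 1 + (val g : ℂ) := by exact_mod_cast hfx g
    rw [R.val_eq]
    change (fx Ω g : ℂ) - 1 = _
    rw [h']
    ring
  rw [h]
  exact χ.2

/-- `(v, x) ↦ v x` embeds pairs of an involution and a commuting element of odd order. -/
theorem card_even_ge [IsSimpleGroup G] (H : Hyp Ω p P) {u : G} (hu : orderOf u = 2) :
    Nat.card G * Nat.card {c : Subgroup.centralizer ({u} : Set G) // ¬ 2 ∣ orderOf c} ≤
      Nat.card {g : G // 2 ∣ orderOf g} * Nat.card (Subgroup.centralizer ({u} : Set G)) := by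
  set C := Subgroup.centralizer ({u} : Set G) with hC
  rw [← H.card_invol_mul hu, mul_right_comm, ← Nat.card_prod]
  refine Nat.mul_le_mul_right _ ?_
  choose c hc using fun v : {v : G // orderOf v = 2} => isConj_iff.1 (H.conj_of_two hu v.2)
  have hodd : oddPart (Nat.card G) % 2 = 1 := Nat.odd_iff.1 (oddPart_odd Nat.card_pos.ne')
  set m := oddPart (Nat.card G) with hm
  refine Nat.card_le_card_of_injective
    (fun vx : {v : G // orderOf v = 2} × {z : C // ¬ 2 ∣ orderOf z} =>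
      (⟨vx.1.1 * (c vx.1 * (vx.2.1 : G) * (c vx.1)⁻¹), ?_⟩ : {g : G // 2 ∣ orderOf g})) ?_
  · obtain ⟨⟨v, hv⟩, ⟨⟨z, hz⟩, hzo⟩⟩ := vx
    set c' := c ⟨v, hv⟩
    have hcv : c' * u * c'⁻¹ = v := hc ⟨v, hv⟩
    have hcomm : Commute v (c' * z * c'⁻¹) := by
      rw [← hcv]
      exact Commute.conj (Subgroup.mem_centralizer_singleton_iff.1 hz).symm c'
    have ho : orderOf (c' * z * c'⁻¹) = orderOf z := MulEquiv.orderOf_eq (MulAut.conj c') z
    have hzo' : ¬ 2 ∣ orderOf z := by rwa [Subgroup.orderOf_mk] at hzo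
    rw [hcomm.orderOf_mul_eq_mul_orderOf_of_coprime (by
      rw [hv, ho]; exact Nat.prime_two.coprime_iff_not_dvd.2 hzo'), hv]
    exact dvd_mul_right _ _
  · rintro ⟨⟨v, hv⟩, ⟨⟨z, hz⟩, hzo⟩⟩ ⟨⟨w, hw⟩, ⟨⟨y, hy⟩, hyo⟩⟩ he
    have he' : v * (c ⟨v, hv⟩ * z * (c ⟨v, hv⟩)⁻¹) = w * (c ⟨w, hw⟩ * y * (c ⟨w, hw⟩)⁻¹) :=
      congrArg (fun t : {g : G // 2 ∣ orderOf g} => t.1) he
    have key : ∀ (v : G) (hv : orderOf v = 2) (z : G), z ∈ C → ¬ 2 ∣ orderOf z →
        (v * (c ⟨v, hv⟩ * z * (c ⟨v, hv⟩)⁻¹)) ^ m = v := by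
      intro v hv z hz hzo
      have hcomm : Commute v (c ⟨v, hv⟩ * z * (c ⟨v, hv⟩)⁻¹) := by
        have := Commute.conj (Subgroup.mem_centralizer_singleton_iff.1 hz).symm (c ⟨v, hv⟩)
          (a := u)
        rwa [hc ⟨v, hv⟩] at this
      rw [hcomm.mul_pow, conj_pow, (exists_card_odd (C := G)).2.2 z hzo, mul_one, mul_inv_cancel,
        mul_one, pow_eq_pow_mod m (show v ^ 2 = 1 by rw [← hv, pow_orderOf_eq_one]), hodd, pow_one]
    rw [Subgroup.orderOf_mk] at hzo hyo
    have hvw : v = w := by rw [← key v hv z hz hzo, he', key w hw y hy hyo]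
    subst hvw
    have := mul_left_cancel he'
    rw [mul_left_inj, mul_right_inj] at this
    subst this
    rfl

theorem triples_step {F : ℕ} {h : ℤ} (hF : 3 ≤ F) (hh : (F : ℤ) ≤ h) :
    ((F * (F - 1) * (F - 2) : ℕ) : ℤ) ≤ (h + 3) * ((F : ℤ) - 2) ^ 2 := by
  rw [Nat.cast_mul, Nat.cast_mul, Nat.cast_sub (by omega : 1 ≤ F), Nat.cast_sub (by omega : 2 ≤ F)]
  push_cast
  have h1 : (F : ℤ) * ((F : ℤ) - 1) ≤ (h + 3) * ((F : ℤ) - 2) := by nlinarith
  have h2 : (0 : ℤ) ≤ (F : ℤ) - 2 := by omega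
  nlinarith [mul_le_mul_of_nonneg_right h1 h2]

theorem k_bound {p k r N E S : ℤ} (hp : 5 ≤ p) (hr : 9 ≤ r)
    (hN : N = p * (3 * p - 1) * (3 * p - 2) * r ^ 2) (hE : k * N ≤ E * (3 * p - 1))
    (hb : p * ((3 * p - 2) ^ 2 + E + S) ≤ 2 * N)
    (ht : 2 * N ≤ 2 * (3 * p) * (3 * p - 1) * (3 * p - 2) + (3 * p + 5) * S) : k < 5 := by
  by_contra hk
  push Not at hk
  have hN0 : 0 < N := by
    rw [hN]
    have : 0 < r ^ 2 := by nlinarith
    have : 0 < p * (3 * p - 1) * (3 * p - 2) := by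
      have : (0 : ℤ) < 3 * p - 2 := by linarith
      have : (0 : ℤ) < 3 * p - 1 := by linarith
      positivity
    positivity
  have h5 : 5 * N ≤ E * (3 * p - 1) := le_trans (mul_le_mul_of_nonneg_right hk hN0.le) hE
  -- eliminate
  have hX : (0 : ℤ) ≤ 3 * p + 5 := by linarith
  have hf : (0 : ℤ) ≤ 3 * p - 1 := by linarith
  have h1 : 2 * p * (3 * p - 1) * N ≤ 6 * p ^ 2 * (3 * p - 1) ^ 2 * (3 * p - 2) +
      (3 * p + 5) * (2 * (3 * p - 1) * N - p * (3 * p - 1) * (3 * p - 2) ^ 2 - 5 * p * N) := by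
    have a1 := mul_le_mul_of_nonneg_left ht (show (0 : ℤ) ≤ p * (3 * p - 1) by nlinarith)
    have a2 := mul_le_mul_of_nonneg_left hb (show (0 : ℤ) ≤ (3 * p + 5) * (3 * p - 1) by positivity)
    have a3 := mul_le_mul_of_nonneg_left h5 (show (0 : ℤ) ≤ (3 * p + 5) * p by positivity)
    linarith
  have h2 : N * (3 * p ^ 2 - p + 10) ≤
      p * (3 * p - 1) * (3 * p - 2) * (9 * p ^ 2 - 15 * p + 10) := by linarith
  rw [hN] at h2
  have hA : 0 < p * (3 * p - 1) * (3 * p - 2) := by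
    have : (0 : ℤ) < 3 * p - 2 := by linarith
    have : (0 : ℤ) < 3 * p - 1 := by linarith
    positivity
  have h3 : r ^ 2 * (3 * p ^ 2 - p + 10) ≤ 9 * p ^ 2 - 15 * p + 10 := by
    refine le_of_mul_le_mul_left ?_ hA
    linarith
  nlinarith [mul_le_mul_of_nonneg_right (show (81 : ℤ) ≤ r ^ 2 by nlinarith)
    (show (0 : ℤ) ≤ 3 * p ^ 2 - p + 10 by nlinarith)]

set_option maxHeartbeats 1000000 in
/-- Involutions cannot fix one point in the doubly transitive case. -/
theorem Row.false_of_top_one [IsSimpleGroup G] (R : Row p x (3 * p - 1) χ val) (H : Hyp Ω p P)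
    (hfx : ∀ g, (fx Ω g : ℤ) = 1 + val g) (h1 : ∀ v : G, orderOf v = 2 → fx Ω v = 1) : False := by
  haveI : Fintype G := Fintype.ofFinite G
  have hp5 := H.five_le
  have hodd := H.odd
  obtain ⟨u, hu⟩ := H.exists_two
  obtain ⟨hc1, hc2, hmod⟩ := top_arith (p := p) hodd hp5
  obtain ⟨r, hG, hC, hr⟩ := R.exists_r H hu hc1 hc2
  have hval : val u = 0 := by have := hfx u; rw [h1 u hu] at this; push_cast at this; omega
  rw [hval, sub_zero, Int.natAbs_natCast] at hC
  set C := Subgroup.centralizer ({u} : Set G) with hCdef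
  have hne : (3 * p - 1) ≠ 0 ∧ (3 * p - 1 - 1) ≠ 0 := ⟨by omega, by omega⟩
  have hv := H.factorization_centralizer hu
  change twoExp (Nat.card C) = twoExp (Nat.card G) at hv
  have hrv : twoExp r = 0 := by
    rw [hC, hG, twoExp_mul (by omega) hne.1,
      twoExp_mul (Nat.mul_ne_zero (Nat.mul_ne_zero (by omega) hne.1) hne.2) (pow_ne_zero _ (by omega)),
      twoExp_mul (Nat.mul_ne_zero (by omega) hne.1) hne.2,
      twoExp_mul (by omega) hne.1, twoExp_sq, twoExp_odd (show (3 * p - 1 - 1) % 2 = 1 by omega),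
      twoExp_odd hodd] at hv
    omega
  have hrodd : r % 2 = 1 := by
    by_contra h
    have := (le_twoExp_iff (k := 1) (a := r) (by omega)).2 (by omega)
    omega
  obtain ⟨α, hα⟩ : ∃ α : Ω, u • α = α := by
    obtain ⟨⟨a, ha⟩⟩ := (Nat.card_pos_iff.1 (show 0 < fx Ω u by rw [h1 u hu]; exact one_pos)).1
    exact ⟨a, ha⟩
  have hdvd3 : 3 ∣ r := by
    have h : 3 * p ∣ Nat.card G := by
      rw [← H.card_Ω, ← index_stabilizer_of_transitive G α]
      exact Subgroup.index_dvd_card _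
    rw [hG, show p * (3 * p - 1) * (3 * p - 1 - 1) * r ^ 2 =
      p * ((3 * p - 1) * (3 * p - 1 - 1) * r ^ 2) by ring, mul_comm 3 p] at h
    have h' := Nat.dvd_of_mul_dvd_mul_left hpf.out.pos h
    have h3 : Nat.Prime 3 := Nat.prime_three
    rcases h3.dvd_mul.1 h' with h' | h'
    · rcases h3.dvd_mul.1 h' with h' | h' <;> omega
    · exact h3.dvd_of_dvd_pow h'
  have hr2 := H.sq_mod (k := (3 * p - 1) * (3 * p - 1 - 1)) (r := r) (by rw [hG]; ring) hmod
  have hbig : 2 * p ≤ r + 1 := by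
    have hd : (p : ℤ) ∣ ((r : ℤ) - 1) * ((r : ℤ) + 1) := by
      have h : (p : ℤ) ∣ ((r ^ 2 : ℕ) : ℤ) - 1 := by
        have := (Nat.modEq_iff_dvd' (show 1 ≤ r ^ 2 from Nat.one_le_pow _ _ hr)).1
          (show 1 % p = r ^ 2 % p by rw [hr2, Nat.mod_eq_of_lt hpf.out.one_lt])
        obtain ⟨z, hz⟩ := this
        exact ⟨z, by rw [← Nat.cast_one, ← Nat.cast_sub (Nat.one_le_pow _ _ hr), hz]; push_cast; ring⟩
      convert h using 1
      push_cast; ring
    have h2p : ∀ q : ℤ, (p : ℤ) ∣ q → q % 2 = 0 → 0 < q → 2 * (p : ℤ) ≤ q := by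
      rintro q ⟨z, rfl⟩ he hq
      have hz : 0 < z := by nlinarith
      have : z ≠ 1 := by rintro rfl; omega
      have : 2 ≤ z := by omega
      nlinarith [hpf.out.pos]
    rcases (Nat.prime_iff_prime_int.1 hpf.out).dvd_or_dvd hd with h | h
    · have := h2p _ h (by omega) (by omega); omega
    · have := h2p _ h (by omega) (by omega); omega
  have hr9 : 9 ≤ r := by omega
  -- the odd part of the centraliser
  obtain ⟨⟨k, hk⟩, hXodd, -⟩ := exists_card_odd (C := C)
  have hop : oddPart (Nat.card C) = r * oddPart (3 * p - 1) := by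
    rw [hC]
    change r * (3 * p - 1) / 2 ^ twoExp (r * (3 * p - 1)) = r * ((3 * p - 1) / 2 ^ twoExp (3 * p - 1))
    rw [twoExp_mul (by omega) hne.1, hrv, zero_add]
    exact Nat.mul_div_assoc _ (Nat.ordProj_dvd _ _)
  rw [hop] at hk
  set f' := oddPart (3 * p - 1) with hf'
  have hf'pos : 0 < f' := (oddPart_odd hne.1).pos
  have hk' : Odd (f' * k) := by
    rw [hk, mul_assoc] at hXodd
    exact (Nat.odd_mul.1 hXodd).2
  -- elements of even order
  set E := Nat.card {g : G // 2 ∣ orderOf g} with hE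
  set Y := Finset.univ.filter (fun g : G => ¬ p ∣ orderOf g ∧ ¬ 2 ∣ orderOf g ∧ g ≠ 1) with hY
  set S : ℤ := ∑ g ∈ Y, ((fx Ω g : ℤ) - 2) ^ 2 with hS
  have hEineq : ((f' * k : ℕ) : ℤ) * (Nat.card G : ℤ) ≤ (E : ℤ) * ((3 * p - 1 : ℕ) : ℤ) := by
    have h := card_even_ge H hu
    rw [hk, hC] at h
    refine le_of_mul_le_mul_left ?_ (show (0 : ℤ) < r by exact_mod_cast hr)
    have h' : ((Nat.card G * (r * f' * k) : ℕ) : ℤ) ≤ ((E * (r * (3 * p - 1)) : ℕ) : ℤ) := by
      exact_mod_cast h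
    push_cast at h' ⊢
    linarith
  have hsplit : ∀ F : G → ℤ,
      ∑ g ∈ Finset.univ.filter (fun g : G => ¬ p ∣ orderOf g), F g =
        F 1 + ∑ g ∈ Finset.univ.filter (fun g : G => 2 ∣ orderOf g), F g + ∑ g ∈ Y, F g := by
    intro F
    rw [← Finset.sum_erase_add _ _ (a := (1 : G))
        (Finset.mem_filter.2 ⟨Finset.mem_univ _, by rw [orderOf_one]; exact hpf.out.not_dvd_one⟩),
      ← Finset.sum_filter_add_sum_filter_not ((Finset.univ.filter
        (fun g : G => ¬ p ∣ orderOf g)).erase 1) (fun g : G => 2 ∣ orderOf g)]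
    have e1 : (((Finset.univ.filter fun g : G => ¬ p ∣ orderOf g).erase 1).filter
        fun g => 2 ∣ orderOf g) = Finset.univ.filter fun g : G => 2 ∣ orderOf g := by
      ext g
      simp only [Finset.mem_filter, Finset.mem_erase, Finset.mem_univ, true_and]
      refine ⟨fun h => h.2, fun h => ⟨⟨fun hg => ?_, H.regular_of_even h⟩, h⟩⟩
      rw [hg, orderOf_one] at h
      omega
    have e2 : (((Finset.univ.filter fun g : G => ¬ p ∣ orderOf g).erase 1).filter
        fun g => ¬ 2 ∣ orderOf g) = Y := by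
      ext g
      simp only [hY, Finset.mem_filter, Finset.mem_erase, Finset.mem_univ, true_and]
      tauto
    rw [e1, e2]
    ring
  have hb := R.budget H hfx
  have hsumE : ∑ g ∈ Finset.univ.filter (fun g : G => 2 ∣ orderOf g), ((fx Ω g : ℤ) - 2) ^ 2 = (E : ℤ) := by
    rw [Finset.sum_congr rfl fun g hg => show ((fx Ω g : ℤ) - 2) ^ 2 = 1 by
      rw [fx_eq_one_of_even h1 (Finset.mem_filter.1 hg).2]; norm_num, Finset.sum_const, nsmul_one,
      hE, Nat.card_eq_fintype_card, Fintype.card_subtype]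
  rw [hsplit, hsumE, fx_one, H.card_Ω] at hb
  push_cast at hb
  have ht : 2 * (Nat.card G : ℤ) ≤
      2 * (3 * (p : ℤ)) * (3 * p - 1) * (3 * p - 2) + (3 * p + 5) * S := by
    have h : (Nat.card G : ℤ) ≤ ((∑ g : G, fx Ω g * (fx Ω g - 1) * (fx Ω g - 2) : ℕ) : ℤ) := by
      exact_mod_cast card_le_sum_triples (G := G) (Ω := Ω) (by rw [H.card_Ω]; omega)
    rw [Nat.cast_sum, ← Finset.sum_filter_add_sum_filter_not Finset.univ
      (fun g : G => ¬ p ∣ orderOf g), hsplit] at h
    have z1 : ∑ g ∈ Finset.univ.filter (fun g : G => ¬ ¬ p ∣ orderOf g),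
        ((fx Ω g * (fx Ω g - 1) * (fx Ω g - 2) : ℕ) : ℤ) = 0 :=
      Finset.sum_eq_zero fun g hg => by
        rw [H.free (not_not.1 (Finset.mem_filter.1 hg).2), zero_mul, zero_mul, Nat.cast_zero]
    have z2 : ∑ g ∈ Finset.univ.filter (fun g : G => 2 ∣ orderOf g),
        ((fx Ω g * (fx Ω g - 1) * (fx Ω g - 2) : ℕ) : ℤ) = 0 :=
      Finset.sum_eq_zero fun g hg => by
        rw [fx_eq_one_of_even h1 (Finset.mem_filter.1 hg).2]; simp
    have z3 : 2 * ∑ g ∈ Y, ((fx Ω g * (fx Ω g - 1) * (fx Ω g - 2) : ℕ) : ℤ) ≤ (3 * p + 5) * S := by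
      rw [hS, Finset.mul_sum, Finset.mul_sum]
      refine Finset.sum_le_sum fun g hg => ?_
      simp only [hY, Finset.mem_filter, Finset.mem_univ, true_and] at hg
      rcases Nat.lt_or_ge (fx Ω g) 3 with hlt | hge
      · have : fx Ω g * (fx Ω g - 1) * (fx Ω g - 2) = 0 := by
          rcases (show fx Ω g = 0 ∨ fx Ω g - 1 = 0 ∨ fx Ω g - 2 = 0 by omega) with h | h | h <;>
            simp only [h, mul_zero, zero_mul]
        rw [this, Nat.cast_zero, mul_zero]
        positivity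
      · have h2 := R.two_fx_lt H hg.2.2
        obtain ⟨q, hq⟩ : ∃ q, 3 * p - 1 = 2 * q := ⟨(3 * p - 1) / 2, by omega⟩
        have := triples_step (h := (q : ℤ)) hge (by omega)
        have hpq : (3 * (p : ℤ) + 5) = 2 * ((q : ℤ) + 3) := by omega
        rw [hpq]
        linarith
    rw [fx_one, H.card_Ω, z1, z2, Nat.cast_mul, Nat.cast_mul,
      Nat.cast_sub (show 1 ≤ 3 * p by omega), Nat.cast_sub (show 2 ≤ 3 * p by omega)] at h
    push_cast at h z3
    linarith
  have hk5 : ((f' * k : ℕ) : ℤ) < 5 := by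
    refine k_bound (p := (p : ℤ)) (r := (r : ℤ)) (N := (Nat.card G : ℤ)) (E := (E : ℤ)) (S := S)
      (by exact_mod_cast hp5) (by exact_mod_cast hr9) ?_ ?_ hb.le ht
    · rw [hG, Nat.cast_mul, Nat.cast_mul, Nat.cast_mul, Nat.cast_pow,
        show ((3 * p - 1 - 1 : ℕ) : ℤ) = 3 * p - 2 by omega,
        show ((3 * p - 1 : ℕ) : ℤ) = 3 * p - 1 by omega]
    · rwa [show ((3 * p - 1 : ℕ) : ℤ) = 3 * p - 1 by omega] at hEineq
  have hk5' : f' * k < 5 := by exact_mod_cast hk5
  have hk3 : f' * k = 1 ∨ f' * k = 3 := by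
    have := Nat.odd_iff.1 hk'
    omega
  have hf'1 : f' = 1 := by
    have hd : f' ∣ 3 * p - 1 := Dvd.intro_left _ (oddPart_mul _)
    have hd' : f' ∣ f' * k := Dvd.intro k rfl
    have : f' ≠ 3 := fun h => by rw [h] at hd; omega
    rcases hk3 with h | h
    · rw [h] at hd'; exact Nat.dvd_one.1 hd'
    · rw [h] at hd'
      exact ((Nat.dvd_prime Nat.prime_three).1 hd').resolve_right this
  rw [hf'1, one_mul] at hk3
  rw [hf'1, mul_one] at hk
  have hfn : 3 * p - 1 = 2 ^ twoExp (3 * p - 1) := by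
    have h := oddPart_mul (3 * p - 1)
    rw [← hf', hf'1, mul_one] at h
    exact h.symm
  -- the centraliser away from its fixed point
  have h2 := R.two_pretransitive H hfx
  have hCα : ∀ c ∈ C, c • α = α := fun c hc => by
    refine fixed_unique h1 hu ?_ hα
    rw [smul_smul, ← Subgroup.mem_centralizer_singleton_iff.1 hc, mul_smul, hα]
  let T : SubMulAction C Ω :=
    { carrier := {b | b ≠ α}
      smul_mem' := fun c b hb h => hb (MulAction.injective (c : G) (h.trans (hCα _ c.2).symm)) }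
  have hX : Nat.card T = 3 * p - 1 := by
    change Nat.card {b : Ω // b ≠ α} = _
    haveI := Fintype.ofFinite Ω
    rw [Nat.card_eq_fintype_card, Fintype.card_subtype_compl, Fintype.card_subtype_eq,
      ← Nat.card_eq_fintype_card, H.card_Ω]
  haveI : IsPretransitive C T := ⟨fun b c => by
    obtain ⟨d, hd, -, hdb⟩ := centralizer_transitive (fun v w hv hw => H.conj_of_two hv hw) h1 ⟨u, hu⟩
      h2 hu hα b.2 c.2
    exact ⟨⟨d, Subgroup.mem_centralizer_singleton_iff.2 hd⟩, Subtype.ext hdb⟩⟩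
  obtain ⟨x₀⟩ : Nonempty T := (Nat.card_ne_zero.1 (by rw [hX]; omega)).1
  set K := stabilizer C x₀ with hK
  have hKc : Nat.card K = r := by
    have h := K.card_mul_index
    rw [hK, index_stabilizer_of_transitive, hX, hC] at h
    exact Nat.eq_of_mul_eq_mul_right (by omega) h
  haveI : Fintype C := Fintype.ofFinite C
  haveI : Fintype T := Fintype.ofFinite T
  haveI : Fintype (orbitRel.Quotient K T) := Fintype.ofFinite _
  haveI : Fintype K := Fintype.ofFinite K
  set φ : C → ℕ := fun c => Nat.card (fixedBy T c) with hφ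
  have hfixT : ∀ c : C, φ c + 1 = fx Ω (c : G) := by
    intro c
    change Nat.card _ + 1 = Nat.card _
    have e : (Subtype.val : T → Ω) '' fixedBy T c = fixedBy Ω (c : G) \ {α} := by
      ext a
      constructor
      · rintro ⟨b, hb, rfl⟩
        exact ⟨congrArg Subtype.val hb, fun h => b.2 (Set.mem_singleton_iff.1 h)⟩
      · rintro ⟨ha, hne⟩
        exact ⟨⟨a, fun h => hne (Set.mem_singleton_iff.2 h)⟩, Subtype.ext ha, rfl⟩
    rw [Nat.card_coe_set_eq, Nat.card_coe_set_eq,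
      ← Set.ncard_image_of_injective _ (Subtype.val_injective : Function.Injective (Subtype.val : T → Ω)), e,
      Set.ncard_sdiff_singleton_add_one (show α ∈ fixedBy Ω (c : G) from hCα _ c.2) (Set.toFinite _)]
  have hsum1 : ∑ c : C, φ c = Nat.card C := by
    haveI : Nonempty T := ⟨x₀⟩
    exact sum_fx
  have hsum2 : ∑ c : C, φ c ^ 2 = Nat.card C * Nat.card (orbitRel.Quotient K T) := by
    have e : ∀ c : C, φ c ^ 2 = ∑ b : T, if c • b = b then φ c else 0 := fun c => by
      rw [← Finset.sum_filter, Finset.sum_const, smul_eq_mul, sq]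
      congr 1
      rw [hφ]
      simp only [Nat.card_eq_fintype_card]
      exact Fintype.card_subtype _
    rw [Finset.sum_congr rfl fun c _ => e c, Finset.sum_comm]
    have key : ∀ b : T, ∑ c : C, (if c • b = b then φ c else 0) =
        r * Nat.card (orbitRel.Quotient K T) := by
      intro b
      obtain ⟨d, rfl⟩ := exists_smul_eq C x₀ b
      have hb : ∑ c : C, (if c • d • x₀ = d • x₀ then φ c else 0) =
          ∑ c : C, (if c • x₀ = x₀ then φ c else 0) := by
        refine (Fintype.sum_equiv (MulAut.conj d).toEquiv _ _ fun c => ?_).symm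
        have e1 : φ (d * c * d⁻¹) = φ c := fx_conj (Ω := T) d c
        change _ = if (d * c * d⁻¹) • d • x₀ = d • x₀ then φ (d * c * d⁻¹) else 0
        rw [e1]
        have e2 : (d * c * d⁻¹) • d • x₀ = d • c • x₀ := by rw [smul_smul, inv_mul_cancel_right, mul_smul]
        by_cases h : c • x₀ = x₀
        · rw [if_pos h, if_pos (by rw [e2, h])]
        · rw [if_neg h, if_neg (by rw [e2, smul_left_cancel_iff]; exact h)]
      rw [hb, ← Finset.sum_filter, ← hKc, mul_comm, Nat.card_eq_fintype_card,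
        Nat.card_eq_fintype_card, ← sum_card_fixedBy_eq_card_orbits_mul_card_group K T]
      refine (Finset.sum_subtype _ (fun c => ?_) _).trans (Finset.sum_congr rfl fun c _ => ?_)
      · simp [hK]
      · rw [hφ]
        simp only [Nat.card_eq_fintype_card]
        rfl
    rw [Finset.sum_congr rfl fun b _ => key b, Finset.sum_const, Finset.card_univ,
      ← Nat.card_eq_fintype_card, hX, hC, smul_eq_mul]
    ring
  have hR : Nat.card T ≤ 3 * Nat.card (orbitRel.Quotient K T) := by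
    set Z := Finset.univ.filter fun c : C => φ c ≠ 0 with hZ
    have hZle : Z.card ≤ r * k := by
      rw [← hk, Nat.card_eq_fintype_card, Fintype.card_subtype]
      refine Finset.card_le_card fun c hc => ?_
      simp only [hZ, Finset.mem_filter, Finset.mem_univ, true_and] at hc ⊢
      intro h
      have := fx_eq_one_of_even h1 (g := (c : G)) (by rwa [Subgroup.orderOf_coe])
      have := hfixT c
      omega
    have hcs := Finset.sum_mul_sq_le_sq_mul_sq Z (fun _ => (1 : ℕ)) φ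
    simp only [one_mul, one_pow, Finset.sum_const, smul_eq_mul, mul_one] at hcs
    rw [hZ, Finset.sum_filter_ne_zero, hsum1] at hcs
    have hsub : ∑ c ∈ Z, φ c ^ 2 ≤ ∑ c : C, φ c ^ 2 :=
      Finset.sum_le_sum_of_subset (Finset.subset_univ _)
    have h' := hcs.trans (Nat.mul_le_mul hZle (hsum2 ▸ hsub))
    rw [sq, hX, hC] at *
    have h'' : r * (3 * p - 1) * (r * (3 * p - 1)) ≤
        r * (3 * p - 1) * (r * (k * Nat.card (orbitRel.Quotient K T))) := h'.trans (le_of_eq (by ring))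
    have h3 := Nat.le_of_mul_le_mul_left (Nat.le_of_mul_le_mul_left h''
      (Nat.mul_pos hr (by omega))) hr
    exact h3.trans (Nat.mul_le_mul_right _ (by omega))
  have hfix : ∀ c : C, c ≠ 1 → 2 * Nat.card (fixedBy T c) ≤ Nat.card T := fun c hc => by
    have := R.two_fx_lt H (g := (c : G)) fun h => hc (Subtype.ext h)
    have := hfixT c
    change 2 * φ c ≤ _
    rw [hX]
    omega
  haveI : FaithfulSMul C T := ⟨fun {a b} h => Subtype.ext (eq_of_smul_eq_smul (α := Ω) fun w => by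
    by_cases hw : w = α
    · rw [hw, hCα _ a.2, hCα _ b.2]
    · exact congrArg Subtype.val (h ⟨w, hw⟩))⟩
  have h8 := card_stabilizer_dvd_factorial_eight (n := twoExp (3 * p - 1)) (hX.trans hfn) x₀
    (by rw [← hK, hKc]; exact Nat.odd_iff.2 hrodd) (by rw [← hK, hKc]; omega) hR hfix
  rw [← hK, hKc] at h8
  obtain ⟨rfl, hr'⟩ := small_cases (n := twoExp (3 * p - 1)) hpf.out hp5 (by omega) h8
    (Nat.odd_iff.2 hrodd) hdvd3 hr2 hbig
  exact false_of_thirty_three (by rw [H.card_Ω]) hr' (by rw [hG]) h1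

end CfsgLib.Perm.ThreeP
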