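import Cfsg.Agent.Lib.Perm.ThreeP.Count
import Cfsg.Agent.Lib.Perm.ThreeP.Endgames

/-!
The row of degree `3p - 1`: involutions with three fixed points.
-/

set_option autoImplicit false
set_option linter.unusedSectionVars false
set_option linter.style.haveILetI false

namespace CfsgLib.Perm.ThreeP

open MulAction Cfsg CfsgLib CfsgLib.Block CfsgLib.Block.BrauerReynolds
open scoped _root_.Classical

universe u v

variable {G : Type u} [Group G] [Finite G] {Ω : Type v} [MulAction G Ω] [Finite Ω]
  [IsPretransitive G Ω] [FaithfulSMul G Ω] {p : ℕ}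
  [hpf : Fact p.Prime] {P : Sylow p G} {x : G} {χ : IrrCharacter G} {val : G → ℤ}

theorem card_dvd_factorial_card : Nat.card G ∣ (Nat.card Ω).factorial := by
  rw [← Nat.card_perm]
  exact Subgroup.card_dvd_of_injective (MulAction.toPermHom G Ω) MulAction.toPerm_injective

theorem top_arith (hp : p % 2 = 1) (h5 : 5 ≤ p) :
    Nat.Coprime p (3 * p - 1) ∧ Nat.Coprime p (3 * p - 1 - 1) ∧
      ((3 * p - 1) * (3 * p - 1 - 1)) % p = 2 % p := by
  have hp' := hpf.out
  refine ⟨(hp'.coprime_iff_not_dvd).2 fun h => ?_, (hp'.coprime_iff_not_dvd).2 fun h => ?_, ?_⟩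
  · have := (Nat.dvd_sub (dvd_mul_left p 3) h)
    rw [show 3 * p - (3 * p - 1) = 1 by omega] at this
    have := Nat.le_of_dvd one_pos this
    omega
  · have := (Nat.dvd_sub (dvd_mul_left p 3) h)
    rw [show 3 * p - (3 * p - 1 - 1) = 2 by omega] at this
    have := Nat.le_of_dvd two_pos this
    omega
  · obtain ⟨q, rfl⟩ : ∃ q, p = q + 1 := ⟨p - 1, by omega⟩
    have e : (3 * (q + 1) - 1) * (3 * (q + 1) - 1 - 1) = 2 + (q + 1) * (9 * q) := by
      rw [show 3 * (q + 1) - 1 = 3 * q + 2 by omega, show 3 * q + 2 - 1 = 3 * q + 1 by omega]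
      ring
    rw [e, Nat.add_mul_mod_self_left]

theorem eq_three_pow_of_sq_dvd {a : ℕ} (h : 3640 * a ^ 2 ∣ Nat.factorial 15) (ho : a % 2 = 1)
    (h5 : ¬ 5 ∣ a) : ∃ e, a ^ 2 = 9 ^ e := by
  have h1 : a ^ 2 ∣ 256 * (25 * 56133) := by
    have : (3640 : ℕ) * (256 * (25 * 56133)) = Nat.factorial 15 := by decide
    exact Nat.dvd_of_mul_dvd_mul_left (by norm_num) (this.symm ▸ h)
  have h2 : Nat.Coprime (a ^ 2) 256 := by
    rw [show (256 : ℕ) = 2 ^ 8 by norm_num]
    exact Nat.Coprime.pow _ _ ((Nat.prime_two.coprime_iff_not_dvd.2 (by omega)).symm)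
  have h3 : Nat.Coprime (a ^ 2) 25 := by
    rw [show (25 : ℕ) = 5 ^ 2 by norm_num]
    exact Nat.Coprime.pow _ _ (((show Nat.Prime 5 by norm_num).coprime_iff_not_dvd.2 h5).symm)
  have h4 : a ^ 2 ∣ 56133 := h3.dvd_of_dvd_mul_left (h2.dvd_of_dvd_mul_left h1)
  have ha : a < 237 := by
    by_contra hc
    have := Nat.le_of_dvd (by norm_num) h4
    have := Nat.pow_le_pow_left (show 237 ≤ a by omega) 2
    omega
  have key : ∀ a < 237, a ^ 2 ∣ 56133 → a = 1 ∨ a = 3 ∨ a = 9 ∨ a = 27 := by decide +kernel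
  rcases key a ha h4 with rfl | rfl | rfl | rfl
  exacts [⟨0, rfl⟩, ⟨1, rfl⟩, ⟨2, rfl⟩, ⟨3, rfl⟩]

/-- Involutions cannot fix three points in the doubly transitive case. -/
theorem Row.false_of_top_three [IsSimpleGroup G] (R : Row p x (3 * p - 1) χ val) (H : Hyp Ω p P)
    (hfx : ∀ g, (fx Ω g : ℤ) = 1 + val g) (h3 : ∀ v : G, orderOf v = 2 → fx Ω v = 3) : False := by
  haveI : Fact (Nat.Prime 2) := ⟨Nat.prime_two⟩
  haveI : Fintype G := Fintype.ofFinite G
  have hp5 := H.five_le
  have hodd := H.odd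
  obtain ⟨u, hu⟩ := H.exists_two
  obtain ⟨hc1, hc2, hmod⟩ := top_arith (p := p) hodd hp5
  obtain ⟨r, hG, hC, hr⟩ := R.exists_r H hu hc1 hc2
  have hval : val u = 2 := by have := hfx u; rw [h3 u hu] at this; push_cast at this; omega
  rw [hval, show (((3 * p - 1 : ℕ) : ℤ) - 2).natAbs = 3 * p - 3 by omega] at hC
  have hv := H.factorization_centralizer hu
  change twoExp (Nat.card (Subgroup.centralizer ({u} : Set G))) = twoExp (Nat.card G) at hv
  have hgodd : (3 * p - 1 - 1) % 2 = 1 := by omega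
  have eG : twoExp (Nat.card G) = twoExp (3 * p - 1) + 2 * twoExp r := by
    rw [hG, twoExp_mul (Nat.mul_ne_zero (Nat.mul_ne_zero (by omega) (by omega)) (by omega))
      (pow_ne_zero _ (by omega)), twoExp_mul (Nat.mul_ne_zero (by omega) (by omega)) (by omega),
      twoExp_mul (by omega) (by omega), twoExp_sq, twoExp_odd hgodd, twoExp_odd hodd]
    omega
  have e3 : twoExp (3 * p - 3) = twoExp (p - 1) := by
    rw [show 3 * p - 3 = 3 * (p - 1) by omega, twoExp_mul (by omega) (by omega),
      twoExp_odd (show 3 % 2 = 1 by norm_num), zero_add]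
  have eC : twoExp (Nat.card (Subgroup.centralizer ({u} : Set G))) = twoExp r + twoExp (p - 1) := by
    rw [hC, twoExp_mul (by omega) (by omega), e3]
  have hS := H.twoExp_card_le h3
  rw [e3, eG] at hS
  rw [eC, eG] at hv
  have hp4 : p % 4 = 1 := by
    by_contra h
    have h1 : twoExp (p - 1) = 1 := twoExp_eq (k := 1) (by norm_num; omega)
    have h2 : 2 ≤ twoExp (3 * p - 1) := (le_twoExp_iff (by omega)).2 (by norm_num; omega)
    omega
  have hf1 : twoExp (3 * p - 1) = 1 := twoExp_eq (k := 1) (by norm_num; omega)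
  have hd2 : 2 ≤ twoExp (p - 1) := (le_twoExp_iff (by omega)).2 (by norm_num; omega)
  have hr1 : twoExp r = 1 := by omega
  have hd : twoExp (p - 1) = 2 := by omega
  have hsig : twoExp (Nat.card G) = 3 := by omega
  have hp8 : p % 8 = 5 := by
    by_contra h
    have := (le_twoExp_iff (a := p - 1) (k := 3) (by omega)).2 (by norm_num; omega)
    omega
  set m := oddPart (Nat.card G) with hm
  have h8m : 8 * m = Nat.card G := by
    have h := oddPart_mul (Nat.card G)
    rw [show (Nat.card G).factorization 2 = 3 from hsig, show (2 : ℕ) ^ 3 = 8 by norm_num] at h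
    exact h
  -- the budget
  have hb := R.budget H hfx
  have hsub : insert (1 : G) (Finset.univ.filter fun g : G => 2 ∣ orderOf g) ⊆
      Finset.univ.filter fun g : G => ¬ p ∣ orderOf g := by
    intro g hg
    simp only [Finset.mem_insert, Finset.mem_filter, Finset.mem_univ, true_and] at hg ⊢
    rcases hg with rfl | hg
    · rw [orderOf_one]; exact hpf.out.not_dvd_one
    · exact H.regular_of_even hg
  have h1f : (3 * (p : ℤ) - 2) ^ 2 + Nat.card {g : G // 2 ∣ orderOf g} ≤
      ∑ g ∈ Finset.univ.filter (fun g : G => ¬ p ∣ orderOf g), ((fx Ω g : ℤ) - 2) ^ 2 := by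
    refine le_trans ?_ (Finset.sum_le_sum_of_subset_of_nonneg hsub fun g _ _ => sq_nonneg _)
    rw [Finset.sum_insert (by simp), fx_one, H.card_Ω, Nat.card_eq_fintype_card, Fintype.card_subtype]
    push_cast
    refine add_le_add le_rfl ?_
    rw [Finset.card_eq_sum_ones, Nat.cast_sum, Nat.cast_one]
    refine Finset.sum_le_sum fun g hg => ?_
    rcases fx_of_even_three h3 (Finset.mem_filter.1 hg).2 with h | h | h <;> rw [h] <;> norm_num
  have hle : (p : ℤ) * Nat.card {g : G // 2 ∣ orderOf g} < 16 * m := by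
    have h := mul_le_mul_of_nonneg_left h1f (Nat.cast_nonneg p)
    rw [hb, mul_add, ← h8m] at h
    have hpos : 0 < (p : ℤ) * (3 * (p : ℤ) - 2) ^ 2 :=
      mul_pos (by exact_mod_cast hpf.out.pos) (by nlinarith)
    push_cast at h
    linarith
  have hle' : p * Nat.card {g : G // 2 ∣ orderOf g} < 16 * m := by exact_mod_cast hle
  have hlow : ∀ n, n ∣ Nat.card G → m ∣ n → ∀ g : G, g ^ n ≠ 1 →
      n ≤ Nat.card {g : G // 2 ∣ orderOf g} := by
    intro n hn hmn g hg
    refine (le_card_pow_ne_one hn hg).trans (Nat.card_le_card_of_injective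
      (fun z => (⟨z.1, ?_⟩ : {g : G // 2 ∣ orderOf g})) fun a b h => Subtype.ext (congrArg
        (fun t : {g : G // 2 ∣ orderOf g} => t.1) h))
    by_contra hz
    obtain ⟨k, rfl⟩ := hmn
    exact z.2 (by rw [pow_mul, (exists_card_odd (C := G)).2.2 z.1 hz, one_pow])
  have hp16 : p < 16 := by
    have hne : u ^ m ≠ 1 := fun h => by
      have h2 := orderOf_dvd_of_pow_eq_one h
      rw [hu] at h2
      exact Nat.not_dvd_ordCompl Nat.prime_two Nat.card_pos.ne' h2
    have h := hlow m (Dvd.intro_left _ h8m) dvd_rfl u hne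
    by_contra hc
    have := Nat.mul_le_mul (show 16 ≤ p by omega) h
    omega
  rcases (show p = 5 ∨ p = 13 by omega) with rfl | rfl
  · -- fifteen points
    obtain ⟨a, rfl⟩ : 2 ∣ r := by
      have h : 1 ≤ twoExp r := hr1.ge
      rw [le_twoExp_iff (by omega), pow_one] at h
      exact h
    have hG' : Nat.card G = 3640 * a ^ 2 := by rw [hG]; ring
    have hdvd : 3640 * a ^ 2 ∣ Nat.factorial 15 := by
      rw [← hG', show 15 = Nat.card Ω by rw [H.card_Ω]]
      exact card_dvd_factorial_card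
    have hao : a % 2 = 1 := by
      by_contra h
      have h4 : 2 ≤ twoExp (2 * a) := (le_twoExp_iff (by omega)).2 (by norm_num; omega)
      omega
    have ha5 : ¬ 5 ∣ a := fun h => H.sq_not_dvd (by
      rw [hG']; exact (pow_dvd_pow_of_dvd h 2).trans (dvd_mul_left _ _))
    obtain ⟨e, he⟩ := eq_three_pow_of_sq_dvd hdvd hao ha5
    exact false_of_fifteen (by rw [H.card_Ω]) (by rw [hG', he]) h3
  · -- thirty-nine points: a cyclic subgroup of order four
    obtain ⟨S, -⟩ := H.exists_sylow_central hu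
    have hScard : Nat.card (S : Subgroup G) = 8 := by
      rw [S.card_eq_multiplicity, show (Nat.card G).factorization 2 = 3 from hsig]
      norm_num
    obtain ⟨s, hs⟩ : ∃ s : (S : Subgroup G), (s : G) ^ 2 ≠ 1 := by
      by_contra hall
      push Not at hall
      haveI := Fintype.ofFinite Ω
      haveI := Fintype.ofFinite (orbitRel.Quotient (S : Subgroup G) Ω)
      have hburn := sum_card_fixedBy_eq_card_orbits_mul_card_group (S : Subgroup G) Ω
      rw [← Finset.add_sum_erase _ _ (Finset.mem_univ 1)] at hburn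
      have h1 : Fintype.card (fixedBy Ω (1 : (S : Subgroup G))) = 39 := by
        rw [← Nat.card_eq_fintype_card, fixedBy_one_eq_univ, Nat.card_congr (Equiv.Set.univ Ω),
          H.card_Ω]
      have h2 : ∀ s ∈ (Finset.univ : Finset (S : Subgroup G)).erase 1,
          Fintype.card (fixedBy Ω s) = 3 := fun s hs => by
        rw [← Nat.card_eq_fintype_card]
        exact h3 (s : G) (orderOf_eq_prime (hall s) fun h => (Finset.mem_erase.1 hs).1 (Subtype.ext h))
      rw [h1, Finset.sum_congr rfl h2, Finset.sum_const, Finset.card_erase_of_mem (Finset.mem_univ _),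
        Finset.card_univ, ← Nat.card_eq_fintype_card (α := (S : Subgroup G)), hScard,
        smul_eq_mul] at hburn
      omega
    have hne : (s : G) ^ (2 * m) ≠ 1 := fun h => by
      have h1 := orderOf_dvd_of_pow_eq_one h
      have h2 : orderOf (s : G) ∣ 8 := hScard ▸ (S : Subgroup G).orderOf_dvd_natCard s.2
      refine hs (orderOf_dvd_iff_pow_eq_one.1 ?_)
      have hcop : (orderOf (s : G)).Coprime m := Nat.Coprime.coprime_dvd_left h2 (by
        rw [show (8 : ℕ) = 2 ^ 3 by norm_num]
        exact Nat.Coprime.pow_left _ (Nat.prime_two.coprime_iff_not_dvd.2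
          (Nat.not_dvd_ordCompl Nat.prime_two Nat.card_pos.ne')))
      exact hcop.dvd_of_dvd_mul_right h1
    have h := hlow (2 * m) (h8m ▸ Nat.mul_dvd_mul_right (by norm_num) m) (dvd_mul_left _ _) _ hne
    omega

end CfsgLib.Perm.ThreeP
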